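import Cfsg.Agent.Lib.BaseTwo.Basic

/-!
Bases of size two for coprime solvable groups: definitions and averaged complements.
-/

set_option autoImplicit false
set_option linter.unusedSectionVars false
set_option linter.style.haveILetI false

namespace CfsgLib.BaseCop

open CfsgLib.BaseTwo (Inv CROn BaseOn)

universe u

variable {A : Type*} [Group A] {V : Type*} [AddCommGroup V] [DistribMulAction A V]

/-- the hypothesis of the induction for linear actions -/
def LinHypC (N : ℕ) : Prop :=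
  ∀ (A V : Type u) [Group A] [Finite A] [AddCommGroup V] [Finite V] [DistribMulAction A V],
    Group.IsSolvable A → (Nat.card A).Coprime (Nat.card V) → Nat.card A ≤ N →
      CROn (⊤ : Subgroup A) (⊤ : AddSubgroup V) → BaseOn (⊤ : Subgroup A) (⊤ : AddSubgroup V)

/-- the induction hypothesis applied inside a larger group -/
theorem LinHypC.on {A V : Type u} [Group A] [Finite A] [AddCommGroup V] [Finite V] [DistribMulAction A V]
    {N : ℕ} (hL : LinHypC.{u} N) (hA : Group.IsSolvable A) (hcop : (Nat.card A).Coprime (Nat.card V))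
    {H : Subgroup A} (hcard : Nat.card H ≤ N) {W : AddSubgroup V} (hW : Inv H W) (hcr : CROn H W) :
    BaseOn H W := by
  letI : DistribMulAction H W :=
    { smul := fun a x => ⟨(a : A) • (x : V), hW a a.2 x x.2⟩
      one_smul := fun x => Subtype.ext (one_smul A (x : V))
      mul_smul := fun a b x => Subtype.ext (mul_smul (a : A) b (x : V))
      smul_zero := fun a => Subtype.ext (smul_zero (a : A))
      smul_add := fun a x y => Subtype.ext (smul_add (a : A) (x : V) y) }
  have hcr' : CROn (⊤ : Subgroup H) (⊤ : AddSubgroup W) := by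
    intro U _ hU
    obtain ⟨U', hU'W, hU'inv, hinf, hsup⟩ := hcr (U.map W.subtype) (by
      rintro _ ⟨x, -, rfl⟩; exact x.2) (by
      rintro a ha _ ⟨x, hx, rfl⟩
      exact ⟨_, hU ⟨a, ha⟩ trivial x hx, rfl⟩)
    refine ⟨U'.comap W.subtype, le_top, fun a _ x hx => hU'inv a a.2 (x : V) hx, ?_, ?_⟩
    · refine (AddSubgroup.eq_bot_iff_forall _).2 fun x hx => Subtype.ext ?_
      have h : (x : V) ∈ U.map W.subtype ⊓ U' := ⟨⟨x, hx.1, rfl⟩, hx.2⟩
      rw [hinf, AddSubgroup.mem_bot] at h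
      exact h
    · refine eq_top_iff.2 fun x _ => ?_
      have h : (x : V) ∈ U.map W.subtype ⊔ U' := by rw [hsup]; exact x.2
      obtain ⟨_, ⟨y, hy, rfl⟩, z, hz, e⟩ := AddSubgroup.mem_sup.1 h
      exact AddSubgroup.mem_sup.2 ⟨y, hy, ⟨z, hU'W hz⟩, hz, Subtype.ext e⟩
  haveI := hA
  obtain ⟨v, -, w, -, h⟩ := hL H W inferInstance
    ((hcop.coprime_dvd_left H.card_subgroup_dvd_card).coprime_dvd_right W.card_addSubgroup_dvd_card)
    hcard hcr'
  exact ⟨v, v.2, w, w.2, fun a ha hv hw x hx =>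
    congrArg Subtype.val (h ⟨a, ha⟩ trivial (Subtype.ext hv) (Subtype.ext hw) ⟨x, hx⟩ trivial)⟩

/-- a projection onto a subspace -/
theorem exists_proj {p : ℕ} [Fact p.Prime] [Module (ZMod p) V] (U : AddSubgroup V) :
    ∃ pr : V →+ V, (∀ v, pr v ∈ U) ∧ ∀ v ∈ U, pr v = v := by
  obtain ⟨U', hU'⟩ := (AddSubgroup.toZModSubmodule p U).exists_isCompl
  exact ⟨(AddSubgroup.toZModSubmodule p U).subtype.toAddMonoidHom.comp
      ((AddSubgroup.toZModSubmodule p U).projectionOnto U' hU').toAddMonoidHom,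
    fun v => ((AddSubgroup.toZModSubmodule p U).projectionOnto U' hU' v).2,
    fun v hv => congrArg Subtype.val (Submodule.projectionOnto_apply_left hU' ⟨v, hv⟩)⟩

/-- averaging: an invariant subgroup has an invariant complement -/
theorem crOn_coprime [Finite A] [Finite V] {p : ℕ} [Fact p.Prime] (hV : ∀ v : V, p • v = 0) {H : Subgroup A}
    (hp : ¬ p ∣ Nat.card H) {W : AddSubgroup V} (hW : Inv H W) : CROn H W := by
  classical
  intro U hUW hU
  obtain ⟨pr, hpr1, hpr2⟩ := @exists_proj V _ p _ (AddCommGroup.zmodModule hV) U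
  haveI : Fintype H := Fintype.ofFinite H
  have hc : ((Fintype.card H : ℕ) : ZMod p) ≠ 0 := fun h => hp (by
    rw [Nat.card_eq_fintype_card]
    exact (ZMod.natCast_eq_zero_iff _ _).1 h)
  set n : ℕ := ((Fintype.card H : ZMod p)⁻¹).val with hn
  have hnmul : ∀ v : V, n • Fintype.card H • v = v := fun v => by
    have h1 : (((n * Fintype.card H : ℕ)) : ZMod p) = ((1 : ℕ) : ZMod p) := by
      rw [Nat.cast_mul, hn, ZMod.natCast_zmod_val, inv_mul_cancel₀ hc, Nat.cast_one]
    rw [← mul_nsmul', nsmul_eq_mod_nsmul _ (hV v), (ZMod.natCast_eq_natCast_iff' _ _ _).1 h1,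
      Nat.mod_eq_of_lt (Fact.out : p.Prime).one_lt, one_nsmul]
  let f : V →+ V := n • ∑ h : H, (DistribSMul.toAddMonoidHom V (h : A)).comp
    (pr.comp (DistribSMul.toAddMonoidHom V (h⁻¹ : A)))
  have hf : ∀ v, f v = n • ∑ h : H, (h : A) • pr ((h⁻¹ : A) • v) := fun v => by
    simp [f, AddMonoidHom.finsetSum_apply]
  have hf1 : ∀ v, f v ∈ U := fun v => by
    rw [hf]
    exact AddSubgroup.nsmul_mem _ (sum_mem fun h _ => hU _ h.2 _ (hpr1 _)) _
  have hf2 : ∀ v ∈ U, f v = v := fun v hv => by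
    rw [hf, Finset.sum_congr rfl fun h _ => by
      rw [hpr2 _ (hU _ (inv_mem h.2) v hv), smul_inv_smul]]
    rw [Finset.sum_const, Finset.card_univ, hnmul]
  have hf3 : ∀ a ∈ H, ∀ v, f (a • v) = a • f v := fun a ha v => by
    rw [hf, hf, ← Equiv.sum_comp (Equiv.mulLeft (⟨a, ha⟩ : H))]
    rw [smul_comm a n, Finset.smul_sum (r := a)]
    refine congrArg (n • ·) (Finset.sum_congr rfl fun h _ => ?_)
    rw [Equiv.coe_mulLeft, Subgroup.coe_mul, mul_inv_rev, mul_smul, mul_smul, inv_smul_smul]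
  refine ⟨W ⊓ f.ker, inf_le_left, fun a ha x hx => ⟨hW a ha x hx.1, ?_⟩, ?_, ?_⟩
  · show f (a • x) = 0
    rw [hf3 a ha, show f x = 0 from hx.2, smul_zero]
  · refine (AddSubgroup.eq_bot_iff_forall _).2 fun x hx => ?_
    rw [← hf2 x hx.1]
    exact hx.2.2
  · refine le_antisymm (sup_le hUW inf_le_left) fun x hx => ?_
    refine AddSubgroup.mem_sup.2 ⟨f x, hf1 x, x - f x, ⟨AddSubgroup.sub_mem _ hx (hUW (hf1 x)), ?_⟩, by abel⟩
    show f (x - f x) = 0
    rw [map_sub, hf2 _ (hf1 x), sub_self]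

/-- an element moving `x` by a multiple of a fixed vector `v` fixes `x` -/
theorem eq_of_translate [Finite A] {p : ℕ} [Fact p.Prime] (hp : ¬ p ∣ Nat.card A) {a : A} {v x : V}
    (hv : a • v = v) (hv0 : v ≠ 0) (hpv : p • v = 0) {n : ℕ} (hx : a • x = x + n • v) : p ∣ n := by
  have h : ∀ k : ℕ, a ^ k • x = x + (k * n) • v := by
    intro k
    induction k with
    | zero => simp
    | succ k ih =>
      rw [pow_succ', mul_smul, ih, smul_add, hx, ← DistribSMul.toAddMonoidHom_apply V a, map_nsmul,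
        DistribSMul.toAddMonoidHom_apply, hv, add_assoc, ← add_nsmul]
      congr 2
      ring
  have h1 := h (Nat.card A)
  rw [pow_card_eq_one', one_smul, left_eq_add] at h1
  have h2 : addOrderOf v = p := addOrderOf_eq_prime hpv hv0
  have h3 := addOrderOf_dvd_of_nsmul_eq_zero h1
  rw [h2] at h3
  exact ((Fact.out : p.Prime).dvd_mul.1 h3).resolve_left hp

/-- an irreducible module has prime exponent -/
theorem exists_exponent {A V : Type u} [Group A] [AddCommGroup V] [Finite V] [DistribMulAction A V]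
    (hirr : CfsgLib.BaseTwo.Irr A V) (hV : ∃ v : V, v ≠ 0) :
    ∃ p : ℕ, p.Prime ∧ p ∣ Nat.card V ∧ ∀ v : V, p • v = 0 := by
  obtain ⟨v, hv⟩ := hV
  haveI : Nontrivial V := ⟨⟨v, 0, hv⟩⟩
  obtain ⟨p, hp, hdvd⟩ := Nat.exists_prime_and_dvd (n := Nat.card V)
    (by have := Finite.one_lt_card (α := V); omega)
  haveI := Fact.mk hp
  let K : AddSubgroup V := (nsmulAddMonoidHom p : V →+ V).ker
  have hK : Inv (⊤ : Subgroup A) K := fun a _ x hx => by
    show p • a • x = 0
    rw [← DistribSMul.toAddMonoidHom_apply V a, ← map_nsmul, show p • x = 0 from hx, map_zero]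
  rcases hirr K hK with h | h
  · exfalso
    obtain ⟨x, hx⟩ := exists_prime_addOrderOf_dvd_card' p hdvd
    have : x ∈ K := show p • x = 0 by rw [← hx]; exact addOrderOf_nsmul_eq_zero x
    rw [h, AddSubgroup.mem_bot] at this
    rw [this, addOrderOf_zero] at hx
    exact hp.ne_one hx.symm
  · exact ⟨p, hp, hdvd, fun x => (h ▸ AddSubgroup.mem_top x : x ∈ K)⟩

end CfsgLib.BaseCop
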