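import Cfsg.Agent.Lib.BaseCop.ColourTwo
import Cfsg.Agent.Lib.BaseThree.Main

/-!
A solvable group of order prime to three has a regular orbit on colourings with three colours.
-/

set_option autoImplicit false
set_option linter.unusedSectionVars false
set_option linter.style.haveILetI false

namespace CfsgLib.BaseCop

open CfsgLib.BaseTwo (Inv CROn Irr)
open CfsgLib.BaseThree (solvable_subgroup)

universe u

variable {A Ω : Type u} [Group A] [Finite A] [Finite Ω] [MulAction A Ω]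

/-- three colours suffice -/
def Col3 (N : ℕ) : Prop :=
  ∀ (A Ω : Type u) [Group A] [Finite A] [Finite Ω] [MulAction A Ω],
    Group.IsSolvable A → ¬ 3 ∣ Nat.card A → Nat.card A ≤ N →
      ∃ c : Ω → Fin 3, ∀ a : A, (∀ x, c (a • x) = c x) → ∀ x : Ω, a • x = x

theorem exists_col_of_invariant
    (ih : ∀ (Ω' : Type u) [Finite Ω'] [MulAction A Ω'], Nat.card Ω' < Nat.card Ω →
      ∃ c : Ω' → Fin 3, ∀ a : A, (∀ x, c (a • x) = c x) → ∀ x : Ω', a • x = x)
    (P : SubMulAction A Ω) (h1 : ∃ x, x ∈ P) (h2 : ∃ x, x ∉ P) :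
    ∃ c : Ω → Fin 3, ∀ a : A, (∀ x, c (a • x) = c x) → ∀ x : Ω, a • x = x := by
  classical
  let P' : SubMulAction A Ω :=
    { carrier := {x | x ∉ P}
      smul_mem' := fun a x hx h => hx ((P.smul_mem_iff' (g := a)).1 h) }
  obtain ⟨c₁, hc₁⟩ := ih P (Finite.card_subtype_lt (x := h2.choose) h2.choose_spec)
  obtain ⟨c₂, hc₂⟩ := ih P' (Finite.card_subtype_lt (x := h1.choose) (fun h => h h1.choose_spec))
  refine ⟨fun x => if h : x ∈ P then c₁ ⟨x, h⟩ else c₂ ⟨x, h⟩, fun a ha x => ?_⟩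
  by_cases hx : x ∈ P
  · refine congrArg Subtype.val (hc₁ a (fun y => ?_) ⟨x, hx⟩)
    have h := ha (y : Ω)
    have hy : a • (y : Ω) ∈ P := P.smul_mem a y.2
    simp only [dif_pos hy, dif_pos y.2] at h
    exact h
  · refine congrArg Subtype.val (hc₂ a (fun y => ?_) (⟨x, hx⟩ : P'))
    have h := ha (y : Ω)
    have hy : a • (y : Ω) ∉ P := P'.smul_mem a y.2
    have hy' : (y : Ω) ∉ P := y.2
    simp only [dif_neg hy, dif_neg hy'] at h
    exact h

/-- the regular abelian case -/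
theorem exists_col_regular {N : ℕ} (hA : Group.IsSolvable A) (h3 : ¬ 3 ∣ Nat.card A) (hcard : Nat.card A ≤ N)
    (hfaith : ∀ a : A, (∀ x : Ω, a • x = x) → a = 1) (M : Subgroup A) [hMn : M.Normal] (hM : M ≠ ⊥)
    (hMc : ∀ x ∈ M, ∀ y ∈ M, x * y = y * x)
    (hmin : ∀ K : Subgroup A, K.Normal → K ≤ M → K = ⊥ ∨ K = M) (ω : Ω)
    (htr : ∀ x : Ω, ∃ m ∈ M, m • ω = x) :
    ∃ c : Ω → Fin 3, ∀ a : A, (∀ x, c (a • x) = c x) → ∀ x : Ω, a • x = x := by
  classical
  have reg : ∀ m ∈ M, m • ω = ω → m = 1 := fun m hm h => hfaith m fun x => by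
    obtain ⟨k, hk, rfl⟩ := htr x
    rw [← mul_smul, hMc m hm k hk, mul_smul, h]
  have inj : ∀ m ∈ M, ∀ k ∈ M, m • ω = k • ω → m = k := fun m hm k hk h =>
    (inv_mul_eq_one.1 (reg (k⁻¹ * m) (mul_mem (inv_mem hk) hm) (by rw [mul_smul, h, inv_smul_smul]))).symm
  have hfix : ∀ {a : A}, a • ω = ω → ∀ m : A, (a * m * a⁻¹) • ω = a • m • ω := fun {a} ha m => by
    have h : a⁻¹ • ω = ω := inv_smul_eq_iff.2 ha.symm
    rw [mul_smul, mul_smul, h]
  let H := MulAction.stabilizer A ω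
  letI : CommGroup M := { (inferInstance : Group M) with mul_comm := fun x y => Subtype.ext (hMc x x.2 y y.2) }
  letI : DistribMulAction H (Additive M) :=
    { smul := fun a x => Additive.ofMul ⟨(a : A) * (x.toMul : M) * (a : A)⁻¹, hMn.conj_mem _ x.toMul.2 _⟩
      one_smul := fun x => Additive.toMul.injective (Subtype.ext (show (1 : A) * _ * (1 : A)⁻¹ = _ by simp))
      mul_smul := fun a b x => Additive.toMul.injective (Subtype.ext
        (show ((a : A) * b) * _ * ((a : A) * b)⁻¹ = (a : A) * ((b : A) * _ * (b : A)⁻¹) * (a : A)⁻¹ by group))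
      smul_zero := fun a => Additive.toMul.injective (Subtype.ext
        (show (a : A) * (1 : A) * (a : A)⁻¹ = 1 by group))
      smul_add := fun a x y => Additive.toMul.injective (Subtype.ext
        (show (a : A) * ((x.toMul : M) * (y.toMul : M) : A) * (a : A)⁻¹ =
          ((a : A) * (x.toMul : M) * (a : A)⁻¹) * ((a : A) * (y.toMul : M) * (a : A)⁻¹) by group)) }
  have hHlt : Nat.card H ≤ N - 1 := by
    have hne : H ≠ ⊤ := fun e => hM ((Subgroup.eq_bot_iff_forall _).2 fun m hm => reg m hm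
      (show m ∈ H by rw [e]; trivial))
    have hlt : Nat.card H < Nat.card A :=
      lt_of_le_of_ne (Subgroup.card_le_card_group H) fun e => hne ((Subgroup.card_eq_iff_eq_top H).1 e)
    omega
  have hcases : ∀ U : AddSubgroup (Additive M), Inv (⊤ : Subgroup H) U → U = ⊥ ∨ U = ⊤ := by
    intro U hU
    let U₀ : Subgroup A := (U.toSubgroup').map M.subtype
    have hU₀M : U₀ ≤ M := by rintro _ ⟨x, -, rfl⟩; exact x.2
    have hmem : ∀ x : M, (x : A) ∈ U₀ ↔ Additive.ofMul x ∈ U := fun x => by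
      constructor
      · rintro ⟨y, hy, e⟩
        rw [show y = x from Subtype.ext e] at hy
        exact hy
      · exact fun h => ⟨x, h, rfl⟩
    have hn : U₀.Normal := ⟨fun n hn g => by
      obtain ⟨m, hm, hmg⟩ := htr (g • ω)
      have hh : m⁻¹ * g ∈ H := by
        rw [MulAction.mem_stabilizer_iff, mul_smul, ← hmg, inv_smul_smul]
      have hnM := hU₀M hn
      have h1 : (m⁻¹ * g) * n * (m⁻¹ * g)⁻¹ ∈ U₀ := by
        have := hU (⟨m⁻¹ * g, hh⟩ : H) trivial (Additive.ofMul ⟨n, hnM⟩) ((hmem ⟨n, hnM⟩).1 hn)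
        exact (hmem ⟨_, hMn.conj_mem n hnM _⟩).2 this
      have h2 : g * n * g⁻¹ = (m⁻¹ * g) * n * (m⁻¹ * g)⁻¹ := by
        have hc := hMc m hm _ (hMn.conj_mem n hnM (m⁻¹ * g))
        calc g * n * g⁻¹ = m * ((m⁻¹ * g) * n * (m⁻¹ * g)⁻¹) * m⁻¹ := by group
          _ = _ := by rw [hc]; group
      rw [h2]; exact h1⟩
    rcases hmin U₀ hn hU₀M with h | h
    · refine Or.inl ((AddSubgroup.eq_bot_iff_forall _).2 fun x hx => ?_)
      have h' : ((x.toMul : M) : A) ∈ U₀ := (hmem _).2 hx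
      rw [h, Subgroup.mem_bot] at h'
      exact Additive.toMul.injective (Subtype.ext h')
    · refine Or.inr (eq_top_iff.2 fun x _ => (hmem x.toMul).1 ?_)
      rw [h]; exact x.toMul.2
  have hcr : CROn (⊤ : Subgroup H) (⊤ : AddSubgroup (Additive M)) := by
    intro U _ hU
    rcases hcases U hU with rfl | rfl
    · exact ⟨⊤, le_rfl, fun _ _ _ _ => trivial, bot_inf_eq _, bot_sup_eq _⟩
    · exact ⟨⊥, bot_le, fun a _ x hx => by rw [AddSubgroup.mem_bot] at hx ⊢; rw [hx, smul_zero],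
        inf_bot_eq _, sup_bot_eq _⟩
  obtain ⟨t, -, hb⟩ :=
    (CfsgLib.BaseThree.hyps.{u} (N - 1)).1 H (Additive M) (solvable_subgroup hA H) hHlt hcr
  have hfaithM : ∀ h : H, (∀ x : Additive M, h • x = x) → h = 1 := fun h hh => Subtype.ext (hfaith h fun x => by
    obtain ⟨m, hm, rfl⟩ := htr x
    have hx : (h : A) * m * (h : A)⁻¹ = m :=
      congrArg (fun z : Additive M => ((z.toMul : M) : A)) (hh (Additive.ofMul ⟨m, hm⟩))
    rw [← hfix h.2, hx])
  haveI := hA
  haveI : IsMulCommutative M := ⟨⟨fun x y => Subtype.ext (hMc x x.2 y y.2)⟩⟩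
  obtain ⟨q, hq, hexp⟩ := CfsgLib.Solvable.exists_prime_pow_eq_one_of_minimal_normal hM hmin
  haveI := Fact.mk hq
  have hexpM : ∀ x : Additive M, q • x = 0 := fun x =>
    Additive.toMul.injective (Subtype.ext (by simpa using hexp _ x.toMul.2))
  obtain ⟨d, hd⟩ : ∃ d : Additive M → Fin 3, ∀ (h : H) (m : Additive M),
      (∀ x, d (h • x + m) = d x) → m = 0 ∧ ∀ x : Additive M, h • x = x := by
    by_cases hq2 : q = 2
    · subst hq2
      have hirrM : Irr H (Additive M) := fun U hU => hcases U hU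
      exact exists_col_exp_two (solvable_subgroup hA H)
        (fun h => h3 (h.trans H.card_subgroup_dvd_card)) hirrM hfaithM
        (fun x => by rw [← two_nsmul]; exact hexpM x) t (fun h hh x => hb h trivial hh x trivial)
    · have hq3 : q ≠ 3 := by
        rintro rfl
        obtain ⟨x, hx, hx1⟩ : ∃ x ∈ M, x ≠ 1 := M.bot_or_exists_ne_one.resolve_left hM
        exact h3 (orderOf_eq_prime (hexp x hx) hx1 ▸ orderOf_dvd_natCard x)
      have hne : ∀ r : ℕ, r.Prime → r ≠ q → ((r : ℕ) : ZMod q) ≠ 0 := fun r hr hne h =>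
        hne ((Nat.prime_dvd_prime_iff_eq hq hr).1 ((ZMod.natCast_eq_zero_iff _ _).1 h)).symm
      obtain ⟨T, h0T, hT⟩ := @exists_col_large (Additive M) _ _ H _ _ _ q _ (AddCommGroup.zmodModule hexpM)
        (by simpa using hne 2 Nat.prime_two (Ne.symm hq2)) (by simpa using hne 3 Nat.prime_three (Ne.symm hq3)) t
      refine ⟨fun x => if x = 0 then 2 else if x ∈ T then 1 else 0, fun h m hh => ?_⟩
      have hm : m = 0 := by
        have e := hh 0
        simp only [smul_zero, zero_add, if_true] at e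
        by_contra hm
        rw [if_neg hm] at e
        split_ifs at e <;> exact absurd e (by decide)
      subst hm
      refine ⟨rfl, fun x => hb h trivial (hT h fun x => ?_) x trivial⟩
      have e := hh x
      rw [add_zero] at e
      by_cases hx : x = 0
      · rw [hx, smul_zero]
      · have hx' : h • x ≠ 0 := fun e' => hx ((smul_eq_zero_iff_eq _).1 e')
        simp only [if_neg hx, if_neg hx'] at e
        by_cases a : h • x ∈ T <;> by_cases b : x ∈ T <;> simp [a, b] at e ⊢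
  choose f hfM hf using htr
  refine ⟨fun x => d (Additive.ofMul ⟨f x, hfM x⟩), fun a ha => ?_⟩
  set m₀ := f (a • ω) with hm₀def
  have hm₀M : m₀ ∈ M := hfM _
  have hm₀ : m₀ • ω = a • ω := hf _
  have hh : m₀⁻¹ * a ∈ H := by
    rw [MulAction.mem_stabilizer_iff, mul_smul, ← hm₀, inv_smul_smul]
  obtain ⟨hm, hx⟩ := hd ⟨_, hh⟩ (Additive.ofMul ⟨m₀, hm₀M⟩) fun x => by
    have e := ha ((x.toMul : A) • ω)
    have hxM : (x.toMul : A) ∈ M := x.toMul.2
    have e1 : f ((x.toMul : A) • ω) = x.toMul := inj _ (hfM _) _ hxM (hf _)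
    have hy : (m₀⁻¹ * a) * (x.toMul : A) * (m₀⁻¹ * a)⁻¹ ∈ M := hMn.conj_mem _ hxM _
    have hmem : (m₀⁻¹ * a) * (x.toMul : A) * (m₀⁻¹ * a)⁻¹ * m₀ ∈ M := mul_mem hy hm₀M
    have e2 : f (a • (x.toMul : A) • ω) = (m₀⁻¹ * a) * (x.toMul : A) * (m₀⁻¹ * a)⁻¹ * m₀ := by
      refine inj _ (hfM _) _ hmem ?_
      rw [hf, ← hMc m₀ hm₀M _ hy, mul_smul, hfix hh, ← mul_smul m₀, mul_inv_cancel_left]
    simp only [e1, e2] at e
    exact e
  have hm1 : m₀ = 1 := congrArg (fun z : Additive M => ((z.toMul : M) : A)) hm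
  have hω : a • ω = ω := by rw [← hm₀, hm1, one_smul]
  intro x
  have hxx := hx (Additive.ofMul ⟨f x, hfM x⟩)
  have e : a * f x * a⁻¹ = f x := by
    have h' := congrArg (fun z : Additive M => ((z.toMul : M) : A)) hxx
    change (m₀⁻¹ * a) * f x * (m₀⁻¹ * a)⁻¹ = f x at h'
    rwa [hm1, inv_one, one_mul] at h'
  rw [← hf x, ← hfix hω, e]

/-- the block case -/
theorem exists_col_blocks {N : ℕ} (hA : Group.IsSolvable A) (h3 : ¬ 3 ∣ Nat.card A)
    (hcard : Nat.card A ≤ N) (hG : ∀ m < N, Col3.{u} m)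
    (ih : ∀ (Ω' : Type u) [Finite Ω'] [MulAction A Ω'], Nat.card Ω' < Nat.card Ω →
      ∃ c : Ω' → Fin 3, ∀ a : A, (∀ x, c (a • x) = c x) → ∀ x : Ω', a • x = x)
    {Ω' : Type u} [Finite Ω'] [MulAction A Ω'] (f : Ω → Ω') (hf : ∀ (a : A) x, f (a • x) = a • f x)
    (hsurj : Function.Surjective f) (htr : ∀ x y : Ω, ∃ a : A, a • x = y) (hninj : ¬ Function.Injective f)
    (hnc : ∃ x y, f x ≠ f y) :
    ∃ c : Ω → Fin 3, ∀ a : A, (∀ x, c (a • x) = c x) → ∀ x : Ω, a • x = x := by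
  classical
  haveI := Fintype.ofFinite Ω
  haveI := Fintype.ofFinite Ω'
  have hlt : Nat.card Ω' < Nat.card Ω := by
    rw [Nat.card_eq_fintype_card, Nat.card_eq_fintype_card]
    refine lt_of_le_of_ne (Fintype.card_le_of_surjective f hsurj) fun e => hninj ?_
    exact ((Fintype.bijective_iff_surjective_and_card f).2 ⟨hsurj, e.symm⟩).1
  obtain ⟨c', hc'⟩ := ih Ω' hlt
  obtain ⟨ω, z, hωz⟩ := hnc
  let i₀ := f ω
  let H := MulAction.stabilizer A i₀
  have htr' : ∀ i : Ω', ∃ a : A, a • i₀ = i := fun i => by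
    obtain ⟨x, rfl⟩ := hsurj i
    obtain ⟨a, rfl⟩ := htr ω x
    exact ⟨a, (hf a ω).symm⟩
  choose t ht using htr'
  have hHlt : Nat.card H < N := by
    have hne : H ≠ ⊤ := fun e => hωz (by
      obtain ⟨a, rfl⟩ := htr ω z
      rw [hf]
      exact (show a ∈ H by rw [e]; trivial : a • i₀ = i₀).symm)
    have hlt : Nat.card H < Nat.card A :=
      lt_of_le_of_ne (Subgroup.card_le_card_group H) fun e => hne ((Subgroup.card_eq_iff_eq_top H).1 e)
    omega
  let B := {x : Ω // f x = i₀}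
  letI : MulAction H B :=
    { smul := fun a x => ⟨(a : A) • (x : Ω), by rw [hf, x.2]; exact a.2⟩
      one_smul := fun x => Subtype.ext (one_smul A (x : Ω))
      mul_smul := fun a b x => Subtype.ext (mul_smul (a : A) b (x : Ω)) }
  obtain ⟨c₀, hc₀⟩ := hG (Nat.card H) hHlt H B (solvable_subgroup hA H)
    (fun h => h3 (h.trans H.card_subgroup_dvd_card)) le_rfl
  let z₀ : B := ⟨ω, rfl⟩
  let F : Fin 3 → Equiv.Perm (Fin 3) := Equiv.addLeft
  have hF : ∀ (i j : Fin 3) (h : H), (∀ x : B, j + c₀ (h • x) = i + c₀ x) → i = j := by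
    intro i j h hh
    have hpow : ∀ n : ℕ, ∀ x : B, c₀ (h ^ n • x) = n • (i - j) + c₀ x := by
      intro n
      induction n with
      | zero => intro x; simp
      | succ n ih =>
        intro x
        rw [pow_succ, mul_smul, ih, succ_nsmul, add_assoc]
        congr 1
        rw [sub_add_eq_add_sub, ← hh x, add_sub_cancel_left]
    have h1 := hpow (Nat.card H) z₀
    rw [pow_card_eq_one', one_smul, eq_comm, add_eq_right] at h1
    by_contra hne
    have hd : i - j ≠ 0 := sub_ne_zero.2 hne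
    have ho : addOrderOf (i - j) = 3 :=
      addOrderOf_eq_prime ((by decide : ∀ z : Fin 3, 3 • z = 0) _) hd
    exact h3 ((ho ▸ addOrderOf_dvd_of_nsmul_eq_zero h1).trans H.card_subgroup_dvd_card)
  have hback : ∀ x, f ((t (f x))⁻¹ • x) = i₀ := fun x => by
    rw [hf, inv_smul_eq_iff, ht]
  let col : Ω → B := fun x => ⟨_, hback x⟩
  refine ⟨fun x => F (c' (f x)) (c₀ (col x)), fun a ha => ?_⟩
  have hmem : ∀ i, (t (a • i))⁻¹ * a * t i ∈ H := fun i => by
    rw [MulAction.mem_stabilizer_iff, mul_smul, mul_smul, ht, inv_smul_eq_iff, ht]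
  have hcol : ∀ i (x : B), col (a • t i • (x : Ω)) = (⟨_, hmem i⟩ : H) • x ∧ f (a • t i • (x : Ω)) = a • i ∧
      col (t i • (x : Ω)) = x ∧ f (t i • (x : Ω)) = i := by
    intro i x
    have e1 : f (t i • (x : Ω)) = i := by rw [hf, x.2, ht]
    have e2 : f (a • t i • (x : Ω)) = a • i := by rw [hf, e1]
    refine ⟨Subtype.ext ?_, e2, Subtype.ext ?_, e1⟩
    · show (t (f _))⁻¹ • a • t i • (x : Ω) = ((t (a • i))⁻¹ * a * t i) • (x : Ω)
      rw [e2, mul_smul, mul_smul]
    · show (t (f _))⁻¹ • t i • (x : Ω) = x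
      rw [e1, inv_smul_smul]
  have hkey : ∀ i (x : B), F (c' (a • i)) (c₀ ((⟨_, hmem i⟩ : H) • x)) =
      F (c' i) (c₀ x) := fun i x => by
    have h := ha (t i • (x : Ω))
    obtain ⟨c1, c2, c3, c4⟩ := hcol i x
    simp only [c1, c2, c3, c4] at h
    exact h
  have hlab : ∀ i, c' (a • i) = c' i := fun i =>
    (hF _ _ ⟨_, hmem i⟩ fun x => hkey i x).symm
  have hfix := hc' a hlab
  intro x
  obtain ⟨y, hy⟩ : ∃ y : B, t (f x) • (y : Ω) = x := ⟨col x, smul_inv_smul _ _⟩
  have h0 := hc₀ ⟨_, hmem (f x)⟩ (fun z => by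
    have h := hkey (f x) z
    rw [hlab] at h
    exact (F (c' (f x))).injective h) y
  have h1 : ((t (a • f x))⁻¹ * a * t (f x)) • (y : Ω) = y := congrArg Subtype.val h0
  rw [hfix, mul_smul, mul_smul, inv_smul_eq_iff, hy] at h1
  exact h1

/-- the step -/
theorem col3_step {N : ℕ} (hG : ∀ m < N, Col3.{u} m) : Col3.{u} N := by
  intro A Ω _ _ _ _ hA h3 hcard
  obtain ⟨n, hn⟩ : ∃ n, Nat.card Ω = n := ⟨_, rfl⟩
  induction n using Nat.strong_induction_on generalizing Ω with
  | _ n ih =>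
    classical
    have ih' : ∀ (Ω' : Type u) [Finite Ω'] [MulAction A Ω'], Nat.card Ω' < Nat.card Ω →
        ∃ c : Ω' → Fin 3, ∀ a : A, (∀ x, c (a • x) = c x) → ∀ x : Ω', a • x = x :=
      fun Ω' _ _ h => ih _ (hn ▸ h) Ω' rfl
    by_cases htriv : ∀ (a : A) (x : Ω), a • x = x
    · exact ⟨fun _ => 0, fun a _ x => htriv a x⟩
    push Not at htriv
    obtain ⟨a₀, ω, ha₀⟩ := htriv
    by_cases htr : ∀ x : Ω, ∃ a : A, a • ω = x
    swap
    · exact exists_col_of_invariant ih'
        { carrier := MulAction.orbit A ω, smul_mem' := fun a x hx => MulAction.mem_orbit_of_mem_orbit a hx }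
        ⟨ω, MulAction.mem_orbit_self ω⟩ (by
          push Not at htr
          obtain ⟨x, hx⟩ := htr
          exact ⟨x, fun ⟨a, ha⟩ => hx a ha⟩)
    have htr2 : ∀ x y : Ω, ∃ a : A, a • x = y := fun x y => by
      obtain ⟨a, rfl⟩ := htr x
      obtain ⟨b, rfl⟩ := htr y
      exact ⟨b * a⁻¹, by rw [mul_smul, inv_smul_smul]⟩
    let φ := MulAction.toPermHom A Ω
    haveI := hA
    by_cases hfaith : ∀ a : A, (∀ x : Ω, a • x = x) → a = 1
    swap
    · push Not at hfaith
      obtain ⟨b, hb, hb1⟩ := hfaith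
      have hlt : Nat.card φ.range < N := by
        have h1 : φ.ker ≠ ⊥ := fun e => hb1 (by
          have : b ∈ φ.ker := Equiv.ext hb
          rwa [e, Subgroup.mem_bot] at this)
        have h2 := φ.ker.card_eq_card_quotient_mul_card_subgroup
        rw [Nat.card_congr (QuotientGroup.quotientKerEquivRange φ).toEquiv] at h2
        have h3 : 1 < Nat.card φ.ker := (Subgroup.one_lt_card_iff_ne_bot _).2 h1
        have h4 : 0 < Nat.card φ.range := Nat.card_pos
        have h5 : Nat.card φ.range * 1 < Nat.card φ.range * Nat.card φ.ker := Nat.mul_lt_mul_of_pos_left h3 h4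
        omega
      obtain ⟨c, hc⟩ := hG _ hlt φ.range Ω (Group.isSolvable_of_surjective φ.rangeRestrict_surjective)
        (fun h => h3 (h.trans (Subgroup.card_range_dvd φ))) le_rfl
      exact ⟨c, fun a ha x => hc ⟨φ a, a, rfl⟩ ha x⟩
    haveI : Nontrivial A := ⟨⟨a₀, 1, fun e => ha₀ (by rw [e, one_smul])⟩⟩
    obtain ⟨M, hMn, hM, hmin⟩ := CfsgLib.Solvable.exists_minimal_normal (G := A)
    haveI := hMn
    have hMc := CfsgLib.Solvable.isMulCommutative_of_minimal_normal hM hmin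
    have hMc' : ∀ x ∈ M, ∀ y ∈ M, x * y = y * x := fun x hx y hy =>
      congrArg Subtype.val (hMc.is_comm.comm (⟨x, hx⟩ : M) ⟨y, hy⟩)
    by_cases hMt : ∀ x : Ω, ∃ m ∈ M, m • ω = x
    · exact exists_col_regular hA h3 hcard hfaith M hM hMc' hmin ω hMt
    letI setoidM : Setoid Ω := MulAction.orbitRel M Ω
    let Ω' := Quotient setoidM
    letI : MulAction A Ω' :=
      { smul := fun a => Quotient.map (fun x => a • x) fun x y h => by
          obtain ⟨m, hm⟩ := h
          refine ⟨⟨a * (m : A) * a⁻¹, hMn.conj_mem _ m.2 a⟩, ?_⟩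
          show (a * (m : A) * a⁻¹) • a • y = a • x
          rw [mul_smul, mul_smul, inv_smul_smul, ← show (m : A) • y = x from hm]
        one_smul := fun i => Quotient.inductionOn i fun x => congrArg (Quotient.mk _) (one_smul A x)
        mul_smul := fun a b i => Quotient.inductionOn i fun x => congrArg (Quotient.mk _) (mul_smul a b x) }
    haveI : Finite Ω' := Quotient.finite _
    refine exists_col_blocks hA h3 hcard hG ih' (Quotient.mk setoidM) (fun a x => rfl)
      Quotient.mk_surjective htr2 (fun hinj => ?_) ?_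
    · refine hM ((Subgroup.eq_bot_iff_forall _).2 fun m hm => hfaith m fun x => ?_)
      exact hinj (Quotient.sound ⟨⟨m, hm⟩, rfl⟩)
    · push Not at hMt
      obtain ⟨x, hx⟩ := hMt
      exact ⟨x, ω, fun e => by
        obtain ⟨m, hm⟩ := Quotient.exact e
        exact hx m m.2 hm⟩

theorem col3 : ∀ N, Col3.{u} N := by
  intro N
  induction N using Nat.strong_induction_on with
  | _ N ih => exact col3_step ih

end CfsgLib.BaseCop
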