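import Cfsg.Agent.Lib.BaseTwo.Blocks
import Cfsg.Agent.Lib.BaseCop.Colour

/-!
Bases of size two: the imprimitive case, by inequivalent pairs and colourings.
-/

set_option autoImplicit false
set_option linter.unusedSectionVars false
set_option linter.style.haveILetI false

namespace CfsgLib.BaseCop

open CfsgLib.BaseTwo (Inv CROn BaseOn Irr endo conjEnd conjEnd_apply conjEnd_one conjEnd_mul scalars scalars_comm
  scalars_reduced conjEnd_mem_scalars exists_pow_idempotent)

universe u

variable {A V : Type u} [Group A] [Finite A] [AddCommGroup V] [Finite V] [DistribMulAction A V]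

/-- pairs which are not conjugate and have trivial stabiliser -/
theorem inequivalent_pairs {p : ℕ} [Fact p.Prime] (hp : ¬ p ∣ Nat.card A) (hexp : ∀ v : V, p • v = 0)
    {H : Subgroup A} {W : AddSubgroup V} (hW : Inv H W) (hB : BaseOn H W) (hW0 : W ≠ ⊥) {n : ℕ} (hn : n ≤ p) :
    ∃ f : Fin n → Fin 2 → V, (∀ i k, f i k ∈ W) ∧
      ∀ i j, ∀ a ∈ H, (∀ k, a • f i k = f j k) → i = j ∧ ∀ x ∈ W, a • x = x := by
  obtain ⟨v, hv, w, hw, -, hv0, hb⟩ := hB.ne hW0
  refine ⟨fun i => ![v, w + (i : ℕ) • v], fun i => Fin.forall_fin_two.2 ⟨hv, add_mem hw (nsmul_mem hv _)⟩,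
    fun i j a ha h => ?_⟩
  have h0 : a • v = v := h 0
  have h1 : a • (w + (i : ℕ) • v) = w + (j : ℕ) • v := h 1
  have hi : (i : ℕ) ≤ p := le_trans i.2.le hn
  have h2 : a • w = w + ((j : ℕ) + (p - i)) • v := by
    rw [smul_add, smul_comm a (i : ℕ), h0] at h1
    have hpv : (p - i) • v + (i : ℕ) • v = 0 := by rw [← add_nsmul, Nat.sub_add_cancel hi, hexp]
    rw [add_nsmul]
    linear_combination (norm := abel) h1 - hpv
  have hd := eq_of_translate hp h0 hv0 (hexp v) h2
  obtain rfl : i = j := by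
    obtain ⟨c, hc⟩ := hd
    refine Fin.ext ?_
    have hjp : (j : ℕ) < p := lt_of_lt_of_le j.2 hn
    have hip : (i : ℕ) < p := lt_of_lt_of_le i.2 hn
    have : c = 1 := by
      rcases c with _ | _ | c
      · omega
      · rfl
      · exfalso; rw [Nat.mul_add, Nat.mul_add] at hc; omega
    subst this
    omega
  refine ⟨rfl, hb a ha h0 ?_⟩
  rw [smul_add, smul_comm a (i : ℕ), h0, add_left_inj] at h1
  exact h1

/-- enough colours, but not more than the characteristic -/
theorem exists_colours {A Ω : Type u} [Group A] [Finite A] [Finite Ω] [MulAction A Ω] (hA : Group.IsSolvable A)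
    {p : ℕ} [Fact p.Prime] (hp : ¬ p ∣ Nat.card A) (hp2 : p ≠ 2) {N : ℕ} (hcard : Nat.card A ≤ N) :
    ∃ n, n ≤ p ∧ ∃ c : Ω → Fin n, ∀ a : A, (∀ x, c (a • x) = c x) → ∀ x : Ω, a • x = x := by
  have h2 := (Fact.out : p.Prime).two_le
  by_cases h3 : p = 3
  · subst h3
    exact ⟨3, le_rfl, col3.{u} N A Ω hA hp hcard⟩
  · refine ⟨5, ?_, (CfsgLib.BaseThree.hyps.{u} N).2 A Ω hA hcard⟩
    by_contra h
    have : p = 4 := by omega
    subst this
    exact absurd (Fact.out : Nat.Prime 4) (by norm_num)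

/-- the imprimitive case -/
theorem base_of_idempotent (hA : Group.IsSolvable A) (hcop : (Nat.card A).Coprime (Nat.card V))
    {p : ℕ} [Fact p.Prime] (hp : ¬ p ∣ Nat.card A) (hp2 : p ≠ 2) (hexp : ∀ v : V, p • v = 0)
    {N : ℕ} (hcard : Nat.card A ≤ N) (hL : LinHypC.{u} (N - 1)) (hirr : Irr A V) {U : Subgroup A} (hU : U.Normal)
    (hUc : ∀ x ∈ U, ∀ y ∈ U, x * y = y * x) {e : AddMonoid.End V} (he : e ∈ scalars V U)
    (hee : e * e = e) (he0 : e ≠ 0) (he1 : e ≠ 1)
    (hprim : ∀ f ∈ scalars V U, f * f = f → f * e = f → f = 0 ∨ f = e) :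
    BaseOn (⊤ : Subgroup A) (⊤ : AddSubgroup V) := by
  classical
  haveI : Finite (AddMonoid.End V) := Finite.of_injective (fun f => (f : V → V)) DFunLike.coe_injective
  let Ω := Set.range fun a : A => conjEnd (V := V) a e
  letI : MulAction A Ω :=
    { smul := fun a i => ⟨conjEnd a i.1, by
        obtain ⟨b, hb⟩ := i.2
        exact ⟨a * b, show conjEnd (a * b) e = _ by rw [conjEnd_mul]; exact congrArg _ hb⟩⟩
      one_smul := fun i => Subtype.ext (conjEnd_one i.1)
      mul_smul := fun a b i => Subtype.ext (conjEnd_mul a b i.1) }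
  haveI : Fintype Ω := Fintype.ofFinite Ω
  have hmemS : ∀ i : Ω, (i : AddMonoid.End V) ∈ scalars V U := by
    rintro ⟨_, a, rfl⟩; exact conjEnd_mem_scalars hU a he
  have hidem : ∀ i : Ω, (i : AddMonoid.End V) * i = i := by
    rintro ⟨_, a, rfl⟩
    show conjEnd a e * conjEnd a e = conjEnd a e
    rw [← map_mul, hee]
  have hpr : ∀ i : Ω, ∀ f ∈ scalars V U, f * f = f → f * i.1 = f → f = 0 ∨ f = i.1 := by
    rintro ⟨_, a, rfl⟩ f hf hff hfe
    have h := hprim (conjEnd a⁻¹ f) (conjEnd_mem_scalars hU _ hf) (by rw [← map_mul, hff]) (by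
      have h := congrArg (conjEnd (V := V) a⁻¹) hfe
      rwa [map_mul, ← conjEnd_mul, inv_mul_cancel, conjEnd_one] at h)
    have hb : conjEnd a (conjEnd a⁻¹ f) = f := by rw [← conjEnd_mul, mul_inv_cancel, conjEnd_one]
    rcases h with h | h
    · left; rw [← hb, h, map_zero]
    · right; show f = conjEnd a e; rw [← hb, h]
  have horth : ∀ i j : Ω, i ≠ j → (i : AddMonoid.End V) * j = 0 := by
    intro i j hij
    have hc := scalars_comm hUc (hmemS i) (hmemS j)
    have hff : (i : AddMonoid.End V) * j * (i.1 * j.1) = i.1 * j.1 := by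
      rw [show (i : AddMonoid.End V) * j * (i.1 * j.1) = i.1 * (j.1 * i.1) * j.1 by simp only [mul_assoc],
        ← hc, ← mul_assoc i.1, hidem i, mul_assoc, hidem j]
    have hS := mul_mem (hmemS i) (hmemS j)
    rcases hpr j _ hS hff (by rw [mul_assoc, hidem j]) with h | h
    · exact h
    rcases hpr i _ hS hff (by rw [mul_assoc, ← hc, ← mul_assoc, hidem i]) with h' | h'
    · exact h'
    exact absurd (Subtype.ext (h'.symm.trans h)) hij
  let i₀ : Ω := ⟨e, 1, conjEnd_one e⟩
  have htr : ∀ i : Ω, ∃ a : A, a • i₀ = i := by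
    rintro ⟨_, a, rfl⟩; exact ⟨a, rfl⟩
  choose t ht using htr
  have hsmul : ∀ (a : A) (i : Ω) (x : V), (a • i).1 (a • x) = a • i.1 x := fun a i x => by
    show conjEnd a i.1 (a • x) = _
    rw [conjEnd_apply, inv_smul_smul]
  -- the sum of the blocks is everything
  have hsum : ∀ x : V, ∑ i : Ω, i.1 x = x := by
    let W : AddSubgroup V :=
      { carrier := {x | ∑ i : Ω, i.1 x = x}
        zero_mem' := by simp
        add_mem' := fun {x y} hx hy => by
          show ∑ i : Ω, i.1 (x + y) = x + y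
          simp only [map_add, Finset.sum_add_distrib]
          rw [hx, hy]
        neg_mem' := fun {x} hx => by
          show ∑ i : Ω, i.1 (-x) = -x
          simp only [map_neg, Finset.sum_neg_distrib]
          rw [hx] }
    have hW : Inv (⊤ : Subgroup A) W := by
      intro a _ x hx
      show ∑ i : Ω, i.1 (a • x) = a • x
      rw [← Equiv.sum_comp (MulAction.toPerm a : Equiv.Perm Ω) fun i => i.1 (a • x)]
      simp only [MulAction.toPerm_apply, hsmul, ← Finset.smul_sum]
      rw [show ∑ i : Ω, i.1 x = x from hx]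
    obtain ⟨x, hx⟩ : ∃ x, e x ≠ 0 := by
      by_contra hno
      push Not at hno
      exact he0 (DFunLike.ext _ _ hno)
    have hmem : e x ∈ W := by
      show ∑ i : Ω, i.1 (e x) = e x
      rw [Finset.sum_eq_single i₀]
      · exact DFunLike.congr_fun hee x
      · exact fun i _ hi => DFunLike.congr_fun (horth i i₀ hi) x
      · exact fun h => absurd (Finset.mem_univ _) h
    rcases hirr W hW with h | h
    · rw [h, AddSubgroup.mem_bot] at hmem; exact absurd hmem hx
    · intro y; exact (show y ∈ W by rw [h]; trivial)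
  let H := MulAction.stabilizer A i₀
  have hHlt : Nat.card H ≤ N - 1 := by
    have hne : H ≠ ⊤ := fun hH => he1 (by
      refine DFunLike.ext _ _ fun y => ?_
      have hsing : ∀ i : Ω, i = i₀ := fun i => by
        rw [← ht i]; exact (show t i ∈ H by rw [hH]; trivial : t i • i₀ = i₀)
      have h := hsum y
      rw [Finset.sum_eq_single i₀ (fun i _ hi => absurd (hsing i) hi)
        (fun h => absurd (Finset.mem_univ _) h)] at h
      exact h)
    have hlt : Nat.card H < Nat.card A :=
      lt_of_le_of_ne (Subgroup.card_le_card_group H) fun e => hne ((Subgroup.card_eq_iff_eq_top H).1 e)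
    omega
  let W₀ : AddSubgroup V := AddMonoidHom.range (e : V →+ V)
  have hfixW : ∀ x ∈ W₀, e x = x := by
    rintro _ ⟨y, rfl⟩; exact DFunLike.congr_fun hee y
  have hW₀ : Inv H W₀ := fun a ha x hx => by
    refine ⟨a • x, ?_⟩
    have h := hsmul a i₀ x
    rw [show a • i₀ = i₀ from ha] at h
    rw [show i₀.1 x = x from hfixW x hx] at h
    exact h
  have hirr₀ : ∀ Y ≤ W₀, Inv H Y → Y = ⊥ ∨ Y = W₀ := by
    intro Y hY hYinv
    let X : AddSubgroup V := ⨆ a : A, Y.map (DistribSMul.toAddMonoidHom V a)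
    have hX : Inv (⊤ : Subgroup A) X := by
      intro b _ x hx
      have : X ≤ X.comap (DistribSMul.toAddMonoidHom V b) := iSup_le fun a => by
        rintro _ ⟨y, hy, rfl⟩
        refine AddSubgroup.mem_iSup_of_mem (b * a) ⟨y, hy, ?_⟩
        simp [mul_smul]
      exact this hx
    rcases hirr X hX with h | h
    · refine Or.inl ((AddSubgroup.eq_bot_iff_forall _).2 fun x hx => ?_)
      have h' : (1 : A) • x ∈ X := AddSubgroup.mem_iSup_of_mem 1 ⟨x, hx, rfl⟩
      rwa [h, AddSubgroup.mem_bot, one_smul] at h'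
    · refine Or.inr (le_antisymm hY fun x hx => ?_)
      have hXY : X ≤ Y.comap e := iSup_le fun a => by
        rintro _ ⟨y, hy, rfl⟩
        show e (a • y) ∈ Y
        by_cases ha : a ∈ H
        · have h' := hYinv a ha y hy
          rw [hfixW _ (hY h')]
          exact h'
        · have h1 : a • y = (a • i₀).1 (a • y) := by
            rw [hsmul]; exact congrArg _ (hfixW y (hY hy)).symm
          rw [h1, show e ((a • i₀).1 (a • y)) = (i₀.1 * (a • i₀).1) (a • y) from rfl,
            horth i₀ (a • i₀) fun hh => ha hh.symm]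
          exact zero_mem _
      have h' : e x ∈ Y := hXY (show x ∈ X by rw [h]; trivial)
      rwa [hfixW x hx] at h'
  have hcr : CROn H W₀ := by
    intro Y hY hYinv
    rcases hirr₀ Y hY hYinv with rfl | rfl
    · exact ⟨W₀, le_rfl, hW₀, bot_inf_eq _, bot_sup_eq _⟩
    · exact ⟨⊥, bot_le, fun a _ x hx => by rw [AddSubgroup.mem_bot] at hx ⊢; rw [hx, smul_zero],
        inf_bot_eq _, sup_bot_eq _⟩
  have hW₀0 : W₀ ≠ ⊥ := fun h => he0 (by
    refine DFunLike.ext _ _ fun v => ?_
    have hv : e v ∈ W₀ := ⟨v, rfl⟩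
    rwa [h, AddSubgroup.mem_bot] at hv)
  obtain ⟨n, hn, c, hc⟩ := exists_colours hA hp hp2 hcard (Ω := Ω)
  obtain ⟨f, hfW, hf⟩ :=
    inequivalent_pairs hp hexp hW₀ (hL.on hA hcop hHlt hW₀ hcr) hW₀0 hn
  refine ⟨∑ i, t i • f (c i) 0, trivial, ∑ i, t i • f (c i) 1, trivial, fun a _ h0 h1 v _ => ?_⟩
  have hak : ∀ k : Fin 2, a • (∑ i, t i • f (c i) k) = ∑ i, t i • f (c i) k := Fin.forall_fin_two.2 ⟨h0, h1⟩
  have hcomp : ∀ k i, i.1 (∑ j, t j • f (c j) k) = t i • f (c i) k := by
    intro k i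
    have hj : ∀ j, t j • f (c j) k = j.1 (t j • f (c j) k) := fun j => by
      have h := hsmul (t j) i₀ (f (c j) k)
      rw [ht j, show i₀.1 (f (c j) k) = f (c j) k from hfixW _ (hfW _ _)] at h
      exact h.symm
    rw [map_sum, Finset.sum_eq_single i]
    · exact (hj i).symm
    · intro j _ hne
      rw [hj j]
      exact DFunLike.congr_fun (horth i j hne.symm) _
    · exact fun h => absurd (Finset.mem_univ _) h
  have hmem : ∀ i, (t (a • i))⁻¹ * a * t i ∈ H := fun i => by
    rw [MulAction.mem_stabilizer_iff, mul_smul, mul_smul, ht, inv_smul_eq_iff, ht]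
  have hmove : ∀ i k, ((t (a • i))⁻¹ * a * t i) • f (c i) k = f (c (a • i)) k := by
    intro i k
    have h' := hsmul a i (∑ j, t j • f (c j) k)
    rw [hak k, hcomp, hcomp] at h'
    rw [mul_smul, mul_smul, inv_smul_eq_iff]
    exact h'.symm
  have hkey := fun i => hf _ _ _ (hmem i) (hmove i)
  have hfix := hc a fun i => (hkey i).1.symm
  rw [← hsum v, Finset.smul_sum]
  refine Finset.sum_congr rfl fun i _ => ?_
  have hiv : i.1 v = t i • e ((t i)⁻¹ • v) := by
    conv_lhs => rw [← ht i]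
    show conjEnd (t i) e v = _
    rw [conjEnd_apply]
  rw [hiv]
  have h0 := (hkey i).2 (e ((t i)⁻¹ • v)) ⟨_, rfl⟩
  rw [hfix, mul_smul, mul_smul, inv_smul_eq_iff] at h0
  exact h0

/-- either an idempotent splits the action or the ring is a field -/
theorem scalars_cases (hA : Group.IsSolvable A) (hcop : (Nat.card A).Coprime (Nat.card V))
    {p : ℕ} [Fact p.Prime] (hp : ¬ p ∣ Nat.card A) (hp2 : p ≠ 2) (hexp : ∀ v : V, p • v = 0)
    {N : ℕ} (hcard : Nat.card A ≤ N) (hL : LinHypC.{u} (N - 1)) (hirr : Irr A V) {U : Subgroup A} (hU : U.Normal)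
    (hUc : ∀ x ∈ U, ∀ y ∈ U, x * y = y * x) :
    BaseOn (⊤ : Subgroup A) (⊤ : AddSubgroup V) ∨
      ∀ s ∈ scalars V U, s ≠ 0 → ∃ s' ∈ scalars V U, s * s' = 1 := by
  classical
  haveI : Finite (AddMonoid.End V) := Finite.of_injective (fun f => (f : V → V)) DFunLike.coe_injective
  by_cases htriv : ∀ e ∈ scalars V U, e * e = e → e = 0 ∨ e = 1
  · refine Or.inr fun s hs hs0 => ?_
    obtain ⟨n, hn, hidem⟩ := exists_pow_idempotent s
    rcases htriv _ (pow_mem hs n) hidem with h | h
    · exact absurd (scalars_reduced hirr hU hUc hs ⟨n, h⟩) hs0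
    · refine ⟨s ^ (n - 1), pow_mem hs _, ?_⟩
      rw [← pow_succ', show n - 1 + 1 = n by omega, h]
  refine Or.inl ?_
  push Not at htriv
  obtain ⟨f, hf, hff, hf0, hf1⟩ := htriv
  obtain ⟨e, he, hmin⟩ := Set.exists_min_image
    {e : AddMonoid.End V | e ∈ scalars V U ∧ e * e = e ∧ e ≠ 0}
    (fun e : AddMonoid.End V => Nat.card (AddMonoidHom.range (e : V →+ V))) (Set.toFinite _) ⟨f, hf, hff, hf0⟩
  obtain ⟨heS, hee, he0⟩ := he
  refine base_of_idempotent hA hcop hp hp2 hexp hcard hL hirr hU hUc heS hee he0 (fun h1 => ?_) fun g hg hgg hge => ?_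
  · -- otherwise `f` would be everything
    have h := hmin f ⟨hf, hff, hf0⟩
    refine hf1 (DFunLike.ext _ _ fun v => ?_)
    have htop : AddMonoidHom.range (f : V →+ V) = ⊤ := by
      refine AddSubgroup.eq_top_of_card_eq _ (le_antisymm (Nat.card_le_card_of_injective _ Subtype.val_injective) ?_)
      refine le_trans (le_of_eq ?_) h
      rw [h1]
      exact Nat.card_congr
        { toFun := fun x => ⟨x, x, rfl⟩, invFun := Subtype.val, left_inv := fun x => rfl, right_inv := fun x => rfl }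
    obtain ⟨w, rfl⟩ : v ∈ AddMonoidHom.range (f : V →+ V) := by rw [htop]; trivial
    exact DFunLike.congr_fun hff w
  · by_contra hno
    push Not at hno
    have hle : AddMonoidHom.range (g : V →+ V) ≤ AddMonoidHom.range (e : V →+ V) := by
      rintro _ ⟨v, rfl⟩
      exact ⟨g v, DFunLike.congr_fun ((scalars_comm hUc heS hg).trans hge) v⟩
    have heq : AddMonoidHom.range (g : V →+ V) = AddMonoidHom.range (e : V →+ V) :=
      AddSubgroup.eq_of_le_of_card_ge hle (hmin g ⟨hg, hgg, hno.1⟩)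
    refine hno.2 (DFunLike.ext _ _ fun v => ?_)
    obtain ⟨w, hw⟩ : e v ∈ AddMonoidHom.range (g : V →+ V) := by rw [heq]; exact ⟨v, rfl⟩
    have h : g (e v) = e v := by rw [← hw]; exact DFunLike.congr_fun hgg w
    rw [show g (e v) = (g * e) v from rfl, hge] at h
    exact h

end CfsgLib.BaseCop
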