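import Cfsg.Agent.Lib.OddLocal.PiCore

/-!
Three conjugates of a Hall subgroup of a `π`-solvable group meet in the `π`-core, given bases of
size two for coprime solvable automorphism groups.
-/

set_option autoImplicit false
set_option linter.unusedSectionVars false
set_option linter.style.haveILetI false

open Pointwise

namespace CfsgLib.BaseCop.PiSolvable

open Subgroup

universe u

/-- Bases of size two for coprime solvable automorphism groups. -/
def AutBase : Prop :=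
  ∀ (A K : Type u) [Group A] [Finite A] [Group K] [Finite K] [MulDistribMulAction A K]
    [FaithfulSMul A K], Group.IsSolvable A → (Nat.card A).Coprime (Nat.card K) →
      ∃ x y : K, ∀ a : A, a • x = x → a • y = y → a = 1

variable {G : Type u} [Group G] [Finite G]

/-- Intersecting with a subgroup divides the layer. -/
theorem relIndex_inf_dvd {A B : Subgroup G} [A.Normal] (hAB : A ≤ B) (C : Subgroup G) :
    (A ⊓ C).relIndex (B ⊓ C) ∣ A.relIndex B := by
  rw [show A ⊓ C = A ⊓ (B ⊓ C) by rw [← inf_assoc, inf_eq_left.2 hAB], inf_relIndex_right,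
    ← relIndex_sup_right (B ⊓ C) A]
  exact dvd_of_mul_right_eq _
    (relIndex_mul_relIndex A ((B ⊓ C) ⊔ A) B le_sup_right (sup_le inf_le_left hAB))

/-- The π-separability centraliser bound. -/
theorem centralizer_piCore_le {π : Set ℕ} (hcore : Cfsg.piCore π G = ⊥) {n : ℕ}
    (M : Fin (n + 1) → Subgroup G) (h0 : M 0 = ⊥) (h1 : M (Fin.last n) = ⊤) (hmono : Monotone M)
    (hnorm : ∀ i, (M i).Normal)
    (hlay : ∀ i : Fin n, (∀ q : ℕ, q.Prime → q ∣ (M i.castSucc).relIndex (M i.succ) → q ∈ π) ∨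
      ∀ q : ℕ, q.Prime → q ∣ (M i.castSucc).relIndex (M i.succ) → q ∉ π) :
    centralizer (Cfsg.piCore {q | q ∉ π} G : Set G) ≤ Cfsg.piCore {q | q ∉ π} G := by
  obtain ⟨N, hN⟩ : ∃ N, N = Cfsg.piCore {q | q ∉ π} G := ⟨_, rfl⟩
  haveI hNn : N.Normal := hN ▸ Cfsg.piCore_normal _ G
  rw [← hN]
  have hNπ : ∀ q : ℕ, q.Prime → q ∣ Nat.card N → q ∉ π := fun q hq hd =>
    CfsgLib.OddLocal.piCore_spec {q | q ∉ π} q hq (hN ▸ hd)
  obtain ⟨C, hC⟩ : ∃ C, C = centralizer (N : Set G) := ⟨_, rfl⟩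
  haveI hCn : C.Normal := hC ▸ Subgroup.normal_centralizer
  rw [← hC]
  by_contra hle
  obtain ⟨i, hi1, hi2⟩ : ∃ i : Fin n, M i.castSucc ⊓ C ≤ N ∧ ¬ M i.succ ⊓ C ≤ N := by
    by_contra hno
    simp only [not_exists, not_and, not_not] at hno
    have hall : ∀ i, M i ⊓ C ≤ N := Fin.induction (by rw [h0, bot_inf_eq]; exact bot_le) hno
    exact hle (by simpa [h1] using hall (Fin.last n))
  haveI := hnorm i.castSucc
  haveI := hnorm i.succ
  obtain ⟨L, hL⟩ : ∃ L, L = M i.succ ⊓ C := ⟨_, rfl⟩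
  haveI hLn : L.Normal := hL ▸ inferInstance
  obtain ⟨Z, hZ⟩ : ∃ Z, Z = C ⊓ N := ⟨_, rfl⟩
  haveI hZn : Z.Normal := hZ ▸ inferInstance
  obtain ⟨L', hL'⟩ : ∃ L', L' = L ⊔ Z := ⟨_, rfl⟩
  haveI hL'n : L'.Normal := hL' ▸ inferInstance
  have hL'C : L' ≤ C := hL' ▸ sup_le (hL ▸ inf_le_right) (hZ ▸ inf_le_left)
  have hdvd : Z.relIndex L' ∣ (M i.castSucc).relIndex (M i.succ) := by
    rw [hL', relIndex_sup_right]
    refine (relIndex_dvd_of_le_left L (show M i.castSucc ⊓ C ≤ Z from hZ ▸ le_inf inf_le_right hi1)).trans ?_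
    rw [hL]
    exact relIndex_inf_dvd (hmono (Fin.castSucc_le_succ i)) C
  have hZL' : Z ≤ L' := hL' ▸ le_sup_right
  have hcardL' : Nat.card L' = Nat.card Z * Z.relIndex L' := by
    rw [← relIndex_bot_left Z, ← relIndex_bot_left L', relIndex_mul_relIndex ⊥ Z L' bot_le hZL']
  have hZπ : ∀ q : ℕ, q.Prime → q ∣ Nat.card Z → q ∉ π := fun q hq hd =>
    hNπ q hq (hd.trans (card_dvd_of_le (hZ ▸ inf_le_right)))
  rcases hlay i with hπ | hπ
  · -- a `π`-layer splits off a normal `π`-subgroup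
    have hcop : (Nat.card Z).Coprime (Z.relIndex L') :=
      Nat.coprime_of_dvd fun q hq h h' => hZπ q hq h (hπ q hq (h'.trans hdvd))
    have hcz : Nat.card (Z.subgroupOf L') = Nat.card Z :=
      Nat.card_congr (subgroupOfEquivOfLe hZL').toEquiv
    obtain ⟨K, hK⟩ := exists_right_complement'_of_coprime (N := Z.subgroupOf L')
      (by rw [hcz]; exact hcop)
    obtain ⟨K₀, hK₀⟩ : ∃ K₀, K₀ = K.map L'.subtype := ⟨_, rfl⟩
    have hK₀L : K₀ ≤ L' := hK₀ ▸ map_subtype_le K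
    have hK₀card : Nat.card K₀ = Z.relIndex L' := by
      rw [hK₀, card_map_of_injective L'.subtype_injective]
      have h := hK.card_mul_card
      rw [hcz, hcardL'] at h
      exact Nat.eq_of_mul_eq_mul_left Nat.card_pos h
    have hK₀n : K₀.Normal := by
      refine ⟨fun k hk g => ?_⟩
      have hgk : g * k * g⁻¹ ∈ L' := hL'n.conj_mem k (hK₀L hk) g
      obtain ⟨z, hz, k', hk', hzk⟩ : ∃ z ∈ Z, ∃ k' ∈ K₀, z * k' = g * k * g⁻¹ := by
        obtain ⟨⟨z, k'⟩, e⟩ := hK.2 ⟨_, hgk⟩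
        exact ⟨(z : L'), z.2, (k' : L'), hK₀ ▸ ⟨(k' : L'), k'.2, rfl⟩, congrArg Subtype.val e⟩
      have hcomm : Commute z k' := by
        have hk'C : k' ∈ centralizer (N : Set G) := hC ▸ hL'C (hK₀L hk')
        have hzN : z ∈ C ⊓ N := hZ ▸ hz
        exact mem_centralizer_iff.1 hk'C z hzN.2
      have hpow : ∀ x ∈ K₀, x ^ Z.relIndex L' = 1 := fun x hx =>
        hK₀card ▸ congrArg Subtype.val (pow_card_eq_one' (G := K₀) (x := ⟨x, hx⟩))
      have hz1 : z ^ Z.relIndex L' = 1 := by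
        have h : (g * k * g⁻¹) ^ Z.relIndex L' = 1 := by
          rw [conj_pow, hpow k hk, mul_one, mul_inv_cancel]
        rwa [← hzk, hcomm.mul_pow, hpow k' hk', mul_one] at h
      have hz' : z = 1 := by
        have h2 : z ^ Nat.card Z = 1 :=
          congrArg Subtype.val (pow_card_eq_one' (G := Z) (x := ⟨z, hz⟩))
        have h3 := pow_gcd_eq_one.2 ⟨h2, hz1⟩
        rwa [hcop.gcd_eq_one, pow_one] at h3
      rwa [← hzk, hz', one_mul]
    have hK₀bot : K₀ = ⊥ := le_bot_iff.1 (hcore ▸ CfsgLib.OddLocal.le_piCore hK₀n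
      fun q hq hd => hπ q hq ((hK₀card ▸ hd).trans hdvd))
    rw [hK₀bot, card_bot, eq_comm, relIndex_eq_one] at hK₀card
    exact hi2 (hL ▸ (show L ≤ N from
      (le_sup_left.trans (hL' ▸ hK₀card : L ⊔ Z ≤ Z)).trans (hZ ▸ inf_le_right)))
  · refine hi2 (hL ▸ (show L ≤ N from (le_sup_left.trans hL'.ge).trans ?_))
    refine hN ▸ CfsgLib.OddLocal.le_piCore hL'n fun q hq hd => ?_
    rw [hcardL'] at hd
    exact (hq.dvd_mul.1 hd).elim (hZπ q hq) fun h => hπ q hq (h.trans hdvd)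

/-- A `π`-subgroup of a `π`-solvable group is solvable. -/
theorem isSolvable_of_piNum {π : Set ℕ} {n : ℕ} (M : Fin (n + 1) → Subgroup G) (h0 : M 0 = ⊥)
    (h1 : M (Fin.last n) = ⊤) (hmono : Monotone M) (hnorm : ∀ i, (M i).Normal)
    (hlay : ∀ i : Fin n, (∃ p ∈ π, p.Prime ∧ ∃ k : ℕ, (M i.castSucc).relIndex (M i.succ) = p ^ k) ∨
      ∀ q : ℕ, q.Prime → q ∣ (M i.castSucc).relIndex (M i.succ) → q ∉ π)
    (H : Subgroup G) (hH : ∀ q : ℕ, q.Prime → q ∣ Nat.card H → q ∈ π) : Group.IsSolvable H := by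
  have key : ∀ i, Group.IsSolvable (M i ⊓ H : Subgroup G) := by
    refine Fin.induction ?_ fun i ih => ?_
    · rw [h0, bot_inf_eq]
      infer_instance
    haveI := hnorm i.castSucc
    haveI := ih
    let f : (M i.succ ⊓ H : Subgroup G) →* G ⧸ M i.castSucc :=
      (QuotientGroup.mk' (M i.castSucc)).comp (Subgroup.subtype _)
    have hcard : Nat.card f.range ∣ (M i.castSucc).relIndex (M i.succ) ∧ Nat.card f.range ∣ Nat.card H := by
      refine ⟨?_, (card_range_dvd f).trans (card_dvd_of_le inf_le_right)⟩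
      have hr : f.range = (M i.succ ⊓ H).map (QuotientGroup.mk' (M i.castSucc)) := by
        rw [MonoidHom.range_eq_map, ← map_map, ← MonoidHom.range_eq_map, range_subtype]
      rw [hr]
      refine (card_dvd_of_le (map_mono inf_le_left)).trans ?_
      rw [← relIndex_bot_left ((M i.succ).map (QuotientGroup.mk' (M i.castSucc))), ← relIndex_comap,
        MonoidHom.comap_bot, QuotientGroup.ker_mk']
    have hsol : Group.IsSolvable f.range := by
      rcases hlay i with ⟨p, -, hp, k, hk⟩ | hπ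
      · haveI := Fact.mk hp
        obtain ⟨j, -, hj⟩ := (Nat.dvd_prime_pow hp).1 (hk ▸ hcard.1)
        haveI : Group.IsNilpotent f.range := (IsPGroup.of_card hj).isNilpotent
        infer_instance
      · have h : Nat.card f.range = 1 := Nat.eq_one_iff_not_exists_prime_dvd.2 fun q hq hd =>
          hπ q hq (hd.trans hcard.1) (hH q hq (hd.trans hcard.2))
        rw [card_eq_one] at h
        rw [h]
        infer_instance
    haveI := hsol
    refine Group.isSolvable_of_ker_le_range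
      (inclusion (inf_le_inf_right H (hmono (Fin.castSucc_le_succ i)))) f.rangeRestrict ?_
    intro x hx
    rw [f.ker_rangeRestrict] at hx
    exact ⟨⟨(x : G), (QuotientGroup.eq_one_iff _).1 hx, x.2.2⟩, rfl⟩
  have h := key (Fin.last n)
  rwa [h1, top_inf_eq] at h

/-- Three conjugates of a Hall subgroup meet in the `π`-core. -/
theorem three_conjugates (hbase : AutBase.{u}) (π : Set ℕ)
    (hsolv : ∃ (n : ℕ) (N : Fin (n + 1) → Subgroup G), N 0 = ⊥ ∧ N (Fin.last n) = ⊤ ∧ Monotone N ∧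
      (∀ i, (N i).Normal) ∧
      ∀ i : Fin n, (∃ p ∈ π, p.Prime ∧ ∃ k : ℕ, (N i.castSucc).relIndex (N i.succ) = p ^ k) ∨
        (∀ q : ℕ, q.Prime → q ∣ (N i.castSucc).relIndex (N i.succ) → q ∉ π))
    (H : Subgroup G) (hH : Cfsg.IsPiHall π H) :
    ∃ x y : G, H ⊓ MulAut.conj x • H ⊓ MulAut.conj y • H = Cfsg.piCore π G := by
  obtain ⟨n, M, h0, h1, hmono, hnorm, hlay⟩ := hsolv
  obtain ⟨P, hP⟩ : ∃ P, P = Cfsg.piCore π G := ⟨_, rfl⟩
  haveI hPn : P.Normal := hP ▸ Cfsg.piCore_normal π G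
  have hPπ : ∀ q : ℕ, q.Prime → q ∣ Nat.card P → q ∈ π := fun q hq hd =>
    CfsgLib.OddLocal.piCore_spec π q hq (hP ▸ hd)
  have hPH : P ≤ H := by
    refine le_sup_right.trans (relIndex_eq_one.1 (Nat.eq_one_iff_not_exists_prime_dvd.2 fun q hq hd => ?_)
      : H ⊔ P ≤ H)
    refine hH.2 q hq (hPπ q hq (hd.trans ?_)) (hd.trans (relIndex_dvd_index_of_le le_sup_left))
    have h := CfsgLib.Solvable.card_sup_dvd H P
    rw [← relIndex_bot_left (H ⊔ P), ← relIndex_mul_relIndex ⊥ H (H ⊔ P) bot_le le_sup_left,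
      relIndex_bot_left] at h
    exact Nat.dvd_of_mul_dvd_mul_left Nat.card_pos h
  -- pass to the quotient by the core
  let mk := QuotientGroup.mk' P
  have hmk : Function.Surjective mk := QuotientGroup.mk'_surjective P
  have hcore : Cfsg.piCore π (G ⧸ P) = ⊥ := by
    have hle : (Cfsg.piCore π (G ⧸ P)).comap mk ≤ P := by
      refine (CfsgLib.OddLocal.le_piCore ((Cfsg.piCore_normal π _).comap mk) fun q hq hd => ?_).trans hP.ge
      rw [CfsgLib.Solvable.card_comap_mk'] at hd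
      exact (hq.dvd_mul.1 hd).elim (CfsgLib.OddLocal.piCore_spec π q hq) (hPπ q hq)
    rw [← map_comap_eq_self_of_surjective hmk (Cfsg.piCore π (G ⧸ P)), Subgroup.map_eq_bot_iff,
      QuotientGroup.ker_mk']
    exact hle
  have hHH := centralizer_piCore_le (G := G ⧸ P) hcore (fun i => (M i).map mk) (by simp [h0])
    (by rw [h1, map_top_of_surjective _ hmk]) (fun i j hij => map_mono (hmono hij))
    (fun i => (hnorm i).map _ hmk)
    (fun i => by
      haveI := hnorm i.castSucc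
      have hd : ((M i.castSucc).map mk).relIndex ((M i.succ).map mk) ∣
          (M i.castSucc).relIndex (M i.succ) := by
        rw [relIndex_map_map, QuotientGroup.ker_mk',
          show M i.succ ⊔ P = M i.succ ⊔ (M i.castSucc ⊔ P) by
            rw [← sup_assoc, sup_eq_left.2 (hmono (Fin.castSucc_le_succ i))],
          relIndex_sup_right]
        exact relIndex_dvd_of_le_left _ le_sup_left
      rcases hlay i with ⟨p, hpπ, hp, k, hk⟩ | h
      · exact Or.inl fun q hq hqd => by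
          rw [(Nat.prime_dvd_prime_iff_eq hq hp).1 (hq.dvd_of_dvd_pow (hk ▸ hqd.trans hd))]
          exact hpπ
      · exact Or.inr fun q hq hqd => h q hq (hqd.trans hd))
  obtain ⟨N, hN⟩ : ∃ N, N = Cfsg.piCore {q | q ∉ π} (G ⧸ P) := ⟨_, rfl⟩
  haveI hNn : N.Normal := hN ▸ Cfsg.piCore_normal _ _
  rw [← hN] at hHH
  obtain ⟨H₀, hH₀⟩ : ∃ H₀, H₀ = H.map mk := ⟨_, rfl⟩
  have hH₀π : ∀ q : ℕ, q.Prime → q ∣ Nat.card H₀ → q ∈ π := fun q hq hd =>
    hH.1 q hq (hd.trans (hH₀ ▸ CfsgLib.Solvable.card_map_mk'_dvd P H))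
  have hcop : (Nat.card H₀).Coprime (Nat.card N) := Nat.coprime_of_dvd fun q hq h h' =>
    CfsgLib.OddLocal.piCore_spec {q | q ∉ π} q hq (hN ▸ h') (hH₀π q hq h)
  have hdisj : H₀ ⊓ N = ⊥ := (disjoint_of_coprime_natCard hcop).eq_bot
  have hsol : Group.IsSolvable H₀ := by
    haveI := isSolvable_of_piNum M h0 h1 hmono hnorm hlay H hH.1
    exact hH₀ ▸ Group.isSolvable_of_surjective (mk.subgroupMap_surjective H)
  letI : MulDistribMulAction H₀ N :=
    MulDistribMulAction.compHom N ((MulAut.conjNormal (H := N)).comp H₀.subtype)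
  have hsmul : ∀ (h : H₀) (x : N), ((h • x : N) : G ⧸ P) = h * x * (h : G ⧸ P)⁻¹ := fun h x => rfl
  haveI : FaithfulSMul H₀ N := ⟨fun {a b} hab => by
    have h : ((b⁻¹ * a : H₀) : G ⧸ P) ∈ centralizer (N : Set (G ⧸ P)) := mem_centralizer_iff.2 fun x hx => by
      have h1 : (b⁻¹ * a) • (⟨x, hx⟩ : N) = ⟨x, hx⟩ := by rw [mul_smul, hab, inv_smul_smul]
      have h2 := congrArg Subtype.val h1
      rw [hsmul] at h2
      exact (mul_inv_eq_iff_eq_mul.1 h2).symm
    have h2 : ((b⁻¹ * a : H₀) : G ⧸ P) ∈ H₀ ⊓ N := ⟨(b⁻¹ * a).2, hHH h⟩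
    rw [hdisj, mem_bot] at h2
    exact (inv_mul_eq_one.1 (Subtype.ext h2)).symm⟩
  obtain ⟨x, y, hxy⟩ := hbase H₀ N hsol hcop
  obtain ⟨x₀, hx₀⟩ := hmk (x : G ⧸ P)
  obtain ⟨y₀, hy₀⟩ := hmk (y : G ⧸ P)
  refine ⟨x₀, y₀, le_antisymm ?_ ?_⟩
  · rintro g ⟨⟨hg, hgx⟩, hgy⟩
    have key : ∀ (z : N) (z₀ : G), mk z₀ = z → g ∈ MulAut.conj z₀ • H →
        (⟨mk g, hH₀ ▸ ⟨g, hg, rfl⟩⟩ : H₀) • z = z := by
      intro z z₀ hz₀ hgz
      obtain ⟨h, hh, hgh⟩ := hgz
      refine Subtype.ext ?_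
      rw [hsmul]
      obtain ⟨a, ha⟩ : ∃ a, a = mk h := ⟨_, rfl⟩
      have hmem : a ∈ H₀ := ha ▸ hH₀ ▸ ⟨h, hh, rfl⟩
      have hmem' : mk g ∈ H₀ := hH₀ ▸ ⟨g, hg, rfl⟩
      have e : mk g = (z : G ⧸ P) * a * (z : G ⧸ P)⁻¹ := by
        rw [ha, ← hz₀, ← map_inv, ← map_mul, ← map_mul]
        exact congrArg mk hgh.symm
      have hA : mk g * a⁻¹ ∈ H₀ ⊓ N := by
        refine ⟨H₀.mul_mem hmem' (H₀.inv_mem hmem), ?_⟩
        rw [e, show (↑z : G ⧸ P) * a * (↑z : G ⧸ P)⁻¹ * a⁻¹ = ↑z * (a * (↑z : G ⧸ P)⁻¹ * a⁻¹) by group]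
        exact mul_mem z.2 (hNn.conj_mem _ (inv_mem z.2) _)
      rw [hdisj, mem_bot, mul_inv_eq_one] at hA
      show mk g * (z : G ⧸ P) * (mk g)⁻¹ = z
      rw [hA] at e ⊢
      calc a * (z : G ⧸ P) * a⁻¹ = ↑z * a * (↑z : G ⧸ P)⁻¹ * ↑z * a⁻¹ := by rw [← e]
        _ = z := by group
    have h := congrArg Subtype.val (hxy _ (key x x₀ hx₀ hgx) (key y y₀ hy₀ hgy))
    rw [← hP]
    exact (QuotientGroup.eq_one_iff g).1 h
  · intro g hg
    rw [← hP] at hg
    have hc : ∀ z : G, g ∈ MulAut.conj z • H := fun z =>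
      ⟨z⁻¹ * g * z, hPH (hPn.conj_mem' g hg z), by
        show z * (z⁻¹ * g * z) * z⁻¹ = g
        group⟩
    exact ⟨⟨hPH hg, hc x₀⟩, hc y₀⟩

end CfsgLib.BaseCop.PiSolvable
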