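import Cfsg.Agent.Lib.BaseCop.Small.CheckThreeTwo
import Cfsg.Agent.Lib.BaseCop.Small.CheckThreeThree
import Cfsg.Agent.Lib.BaseCop.Small.CheckThreeFour
import Cfsg.Agent.Lib.BaseCop.Small.CheckFiveTwo
import Cfsg.Agent.Lib.BaseCop.Small.CheckFiveThree
import Cfsg.Agent.Lib.BaseCop.Small.CheckFiveFour
import Cfsg.Agent.Lib.BaseCop.Small.CheckMinus

/-!
Bases of size two for groups of order prime to `p` normalising the signed monomial frame in small dimensions.
-/

set_option autoImplicit false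

namespace CfsgLib.BaseCop

open CfsgLib.BaseCop.Small

/-- the exceptional small cases -/
theorem exists_base_small {p d : ℕ} [Fact p.Prime]
    (h : p = 3 ∧ 2 ≤ d ∧ d ≤ 4 ∨ p = 5 ∧ 2 ≤ d ∧ d ≤ 4)
    {G : Type*} [Group G] [Finite G] [DistribMulAction G ((Fin d → ZMod 2) → ZMod p)]
    (_hsol : Group.IsSolvable G) (hp : ¬p ∣ Nat.card G)
    (hf : ∀ g : G, (∀ x : (Fin d → ZMod 2) → ZMod p, g • x = x) → g = 1)
    (hnorm : ∀ (g : G) (b c : Fin d → ZMod 2), ∃ s b' c', ∀ x : (Fin d → ZMod 2) → ZMod p, g • mon 1 b c x = mon s b' c' (g • x)) :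
    ∃ v w : (Fin d → ZMod 2) → ZMod p, ∀ g : G, g • v = v → g • w = w → g = 1 := by
  rcases h with ⟨rfl, h2, h4⟩ | ⟨rfl, h2, h3⟩
  · interval_cases d
    · exact exists_base_of_check (by norm_num) hp hf hnorm _ _ _ checkThreeTwo
    · exact baseThreeThree hp hf hnorm
    · exact baseThreeFour hp hf hnorm
  · interval_cases d
    · exact exists_base_of_check (by norm_num) hp hf hnorm _ _ _ checkFiveTwo
    · exact baseFiveThree hp hf hnorm
    · exact exists_base_of_check (by norm_num) hp hf hnorm _ _ _ checkFiveFour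

/-- the exceptional case of minus type -/
theorem exists_base_small_minus {G : Type*} [Group G] [Finite G]
    [DistribMulAction G ((Fin 3 → ZMod 2) → ZMod 3)] (_hsol : Group.IsSolvable G) (hp : ¬3 ∣ Nat.card G)
    (hf : ∀ g : G, (∀ x : (Fin 3 → ZMod 2) → ZMod 3, g • x = x) → g = 1)
    (hnorm : ∀ (g : G) (j : Fin 2) (b c : Fin 3 → ZMod 2), b 0 = c 0 → ∃ s j' b' c', b' 0 = c' 0 ∧
      ∀ x : (Fin 3 → ZMod 2) → ZMod 3, g • q2map j (mon 1 b c x) = q2map j' (mon s b' c' (g • x))) :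
    ∃ v w : (Fin 3 → ZMod 2) → ZMod 3, ∀ g : G, g • v = v → g • w = w → g = 1 :=
  Minus.exists_base_of_check hp hf hnorm Minus.checkMinus

end CfsgLib.BaseCop
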