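import Cfsg.Agent.Lib.BaseCop.Final
import Cfsg.Agent.Lib.BaseCop.PiSolvable
import Cfsg.Agent.Lib.BaseCop.SmallCases

/-!
Bases of size two: the finite certificates put into the engine.
-/

set_option autoImplicit false

namespace CfsgLib.BaseCop

universe u

/-- the finite cases hold -/
theorem certs : Certs.{u} := by
  refine ⟨fun p d h G _ _ _ hsol hp hf hnorm => ?_, fun G _ _ _ hsol hp hf hnorm =>
    exists_base_small_minus hsol hp hf hnorm⟩
  haveI : Fact p.Prime := ⟨by rcases h with ⟨rfl, _⟩ | ⟨rfl, _⟩ <;> norm_num⟩
  exact exists_base_small h hsol hp hf hnorm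

/-- bases of size two for coprime modules -/
theorem modBase : Marks.ModBase.{u} := modBase_of_certs certs

end CfsgLib.BaseCop
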