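import Mathlib

/-!
A colouring of sixteen points with three colours which no affine map preserves.
-/

set_option autoImplicit false

namespace CfsgLib.BaseCop

/-- colours on sixteen points -/
def col16 (n : ℕ) : Fin 3 := [2,2,1,1,2,1,0,2,1,0,0,0,0,2,2,0].getD n 0
def bitPart (n i x : ℕ) : ℕ := if n.testBit i then x else 0
def aff16 (a0 a1 a2 a3 a4 n : ℕ) : ℕ :=
  a0 ^^^ (bitPart n 0 (a0 ^^^ a1) ^^^ bitPart n 1 (a0 ^^^ a2) ^^^ bitPart n 2 (a0 ^^^ a3) ^^^ bitPart n 3 (a0 ^^^ a4))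
theorem aff16_rigid : ∀ a0 ∈ [0,1,4,7,13,14], ∀ a1 ∈ [0,1,4,7,13,14], ∀ a2 ∈ [2,3,5,8], ∀ a3 ∈ [0,1,4,7,13,14], ∀ a4 ∈ [2,3,5,8],
    (∀ n ∈ List.range 16, col16 (aff16 a0 a1 a2 a3 a4 n) = col16 n) → a0 = 0 ∧ a1 = 1 ∧ a2 = 2 ∧ a3 = 4 ∧ a4 = 8 := by
  decide +kernel

end CfsgLib.BaseCop
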