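import Cfsg.Agent.Lib.BaseCop.Basic
import Cfsg.Agent.Lib.BaseCop.Sixteen
import Cfsg.Agent.Lib.BaseTwo.Main
import Cfsg.Agent.Lib.BaseThree.Basic
import Cfsg.Agent.Lib.Solvable.MinNormal

/-!
Three colours on an irreducible module which no affine map of the group preserves.
-/

set_option autoImplicit false
set_option linter.unusedSectionVars false
set_option linter.style.haveILetI false

namespace CfsgLib.BaseCop

open CfsgLib.BaseTwo (Inv Irr)

universe u

variable {M : Type u} [AddCommGroup M] [Finite M] {H : Type u} [Group H] [Finite H] [DistribMulAction H M]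

theorem indep_three {m : ℕ} [Fact m.Prime] [Module (ZMod m) M] {b1 b2 b3 : M} (h1 : b1 ≠ 0)
    (h2 : b2 ∉ Submodule.span (ZMod m) {b1}) (h3 : b3 ∉ Submodule.span (ZMod m) {b1, b2}) {x y z : ZMod m}
    (h : x • b1 + y • b2 + z • b3 = 0) : x = 0 ∧ y = 0 ∧ z = 0 := by
  have hz : z = 0 := by
    by_contra hz
    refine h3 ?_
    rw [show b3 = (-z⁻¹ * x) • b1 + (-z⁻¹ * y) • b2 by
      have e : z • b3 = -(x • b1) - y • b2 := by linear_combination (norm := module) h
      rw [← inv_smul_smul₀ hz b3, e]; module]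
    exact add_mem (Submodule.smul_mem _ _ (Submodule.subset_span (by simp)))
      (Submodule.smul_mem _ _ (Submodule.subset_span (by simp)))
  subst hz
  have hy : y = 0 := by
    by_contra hy
    refine h2 ?_
    rw [show b2 = (-y⁻¹ * x) • b1 by
      have e : y • b2 = -(x • b1) := by linear_combination (norm := module) h
      rw [← inv_smul_smul₀ hy b2, e]; module]
    exact Submodule.smul_mem _ _ (Submodule.subset_span (by simp))
  subst hy
  simp only [zero_smul, add_zero, smul_eq_zero, h1, or_false] at h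
  exact ⟨h, rfl, rfl⟩

/-- five points in three directions, or three points in two -/
def pts (m : ℕ) (full : Bool) : List (ZMod m × ZMod m × ZMod m) :=
  [(1, 0, 0), (2, 0, 0), (0, 1, 0)] ++ if full then [(1, 1, 0), (0, 0, 1)] else []

theorem pts_double {m : ℕ} [Fact m.Prime] (h2 : (2 : ZMod m) ≠ 0) (h3 : (3 : ZMod m) ≠ 0) (full : Bool) :
    ∀ u ∈ pts m full, ∀ v ∈ pts m full, u + u = v → u = (1, 0, 0) := by
  have h4 : (4 : ZMod m) ≠ 0 := by
    rw [show (4 : ZMod m) = 2 * 2 by norm_num]; exact mul_ne_zero h2 h2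
  intro u hu v hv h
  cases full <;> simp [pts] at hu hv <;>
    rcases hu with rfl | rfl | rfl | rfl | rfl <;> rcases hv with rfl | rfl | rfl | rfl | rfl <;>
    simp [Prod.ext_iff] at h ⊢ <;> grind

theorem pts_succ {m : ℕ} [Fact m.Prime] (h2 : (2 : ZMod m) ≠ 0) (h3 : (3 : ZMod m) ≠ 0) :
    ∀ u ∈ pts m true, ∀ v ∈ pts m true, u + (1, 0, 0) = v → u = (1, 0, 0) ∨ u = (0, 1, 0) := by
  intro u hu v hv h
  simp [pts] at hu hv
  rcases hu with rfl | rfl | rfl | rfl | rfl <;> rcases hv with rfl | rfl | rfl | rfl | rfl <;>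
    simp [Prod.ext_iff] at h ⊢ <;> grind

/-- colour two at zero, colour one on a rigid set, for large characteristic -/
theorem exists_col_large {m : ℕ} [Fact m.Prime] [Module (ZMod m) M] (h2 : (2 : ZMod m) ≠ 0)
    (h3 : (3 : ZMod m) ≠ 0) (t : Fin 3 → M) :
    ∃ T : Set M, (0 : M) ∉ T ∧
      ∀ h : H, (∀ x, h • x ∈ T ↔ x ∈ T) → ∀ i, h • t i = t i := by
  classical
  have hlin : ∀ (h : H) (c : ZMod m) (x : M), h • c • x = c • h • x := fun h c x =>
    ((DistribSMul.toAddMonoidHom M h).toZModLinearMap m).map_smul c x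
  have hspan : ∀ (h : H) (S : Set M), (∀ x ∈ S, h • x = x) → ∀ x ∈ Submodule.span (ZMod m) S, h • x = x := by
    intro h S hS x hx
    induction hx using Submodule.span_induction with
    | mem x hx => exact hS x hx
    | zero => exact smul_zero _
    | add x y _ _ hx hy => rw [smul_add, hx, hy]
    | smul c x _ hx => rw [hlin, hx]
  by_cases hz : ∀ i, t i = 0
  · exact ⟨∅, id, fun h _ i => by rw [hz i, smul_zero]⟩
  push Not at hz
  obtain ⟨i, hi⟩ := hz
  by_cases hone : ∀ j, t j ∈ Submodule.span (ZMod m) {t i}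
  · refine ⟨{t i}, fun h => hi h.symm, fun h hh j => hspan h _ ?_ _ (hone j)⟩
    rintro x rfl
    exact (hh (t i)).2 rfl
  push Not at hone
  obtain ⟨j, hj⟩ := hone
  -- the common part of the two remaining cases
  have main : ∀ (full : Bool) (b3 : M),
      (∀ {x y z : ZMod m}, x • t i + y • t j + z • b3 = 0 → (z = 0 ∨ full = true) → x = 0 ∧ y = 0 ∧ z = 0) →
      (∀ k, t k ∈ Submodule.span (ZMod m) (if full then {t i, t j, b3} else {t i, t j})) →
      ∃ T : Set M, (0 : M) ∉ T ∧ ∀ h : H, (∀ x, h • x ∈ T ↔ x ∈ T) → ∀ i, h • t i = t i := by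
    intro full b3 hind hall
    let ψ : ZMod m × ZMod m × ZMod m → M := fun u => u.1 • t i + u.2.1 • t j + u.2.2 • b3
    have hψadd : ∀ u v, ψ (u + v) = ψ u + ψ v := fun u v => by
      simp only [ψ, Prod.fst_add, Prod.snd_add, add_smul]; abel
    have hz : ∀ u ∈ pts m full, u.2.2 = 0 ∨ full = true := fun u hu => by
      cases full
      · simp [pts] at hu; rcases hu with rfl | rfl | rfl <;> exact Or.inl rfl
      · exact Or.inr rfl
    have hinj : ∀ u v, (u.2.2 = v.2.2 ∨ full = true) → ψ u = ψ v → u = v := fun u v hs e => by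
      obtain ⟨a, b, c⟩ := hind (x := u.1 - v.1) (y := u.2.1 - v.2.1) (z := u.2.2 - v.2.2) (by
        simp only [ψ] at e; linear_combination (norm := module) e) (hs.imp_left fun e => by rw [e, sub_self])
      exact Prod.ext (sub_eq_zero.1 a) (Prod.ext (sub_eq_zero.1 b) (sub_eq_zero.1 c))
    refine ⟨{x | ∃ u ∈ pts m full, ψ u = x}, fun ⟨u, hu, e⟩ => ?_, fun h hh => ?_⟩
    · have hu0 : u = 0 := hinj u 0 (hz u hu) (by rw [e]; simp [ψ])
      cases full <;> simp [pts] at hu <;> rcases hu with rfl | rfl | rfl | rfl | rfl <;>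
        simp [Prod.ext_iff, h2] at hu0
    have himg : ∀ u ∈ pts m full, ∃ v ∈ pts m full, ψ v = h • ψ u := fun u hu =>
      (hh (ψ u)).2 ⟨u, hu, rfl⟩
    have m1 : ((1, 0, 0) : ZMod m × ZMod m × ZMod m) ∈ pts m full := by simp [pts]
    have m2 : ((2, 0, 0) : ZMod m × ZMod m × ZMod m) ∈ pts m full := by simp [pts]
    have m3 : ((0, 1, 0) : ZMod m × ZMod m × ZMod m) ∈ pts m full := by simp [pts]
    have hsame : ∀ u ∈ pts m full, ∀ v ∈ pts m full, ψ u = ψ v → u = v := fun u hu v hv e =>
      hinj u v (by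
        rcases hz u hu with a | a
        · rcases hz v hv with b | b
          · exact Or.inl (a.trans b.symm)
          · exact Or.inr b
        · exact Or.inr a) e
    have hinjh : ∀ u ∈ pts m full, ∀ v ∈ pts m full, h • ψ u = ψ v → h • ψ v = ψ v → u = v :=
      fun u hu v hv e e' => hsame u hu v hv (smul_left_cancel h (e.trans e'.symm))
    obtain ⟨v1, hv1, e1⟩ := himg _ m1
    obtain ⟨v2, hv2, e2⟩ := himg _ m2
    have hdd : ψ (v1 + v1) = ψ v2 := by
      rw [hψadd, e1, e2, ← smul_add, ← hψadd]; simp [one_add_one_eq_two]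
    have hv1' : v1 = (1, 0, 0) := pts_double h2 h3 full v1 hv1 v2 hv2 (hinj _ _ (by
      rcases hz v1 hv1 with a | a
      · rcases hz v2 hv2 with b | b
        · left; show v1.2.2 + v1.2.2 = v2.2.2; rw [a, b, add_zero]
        · exact Or.inr b
      · exact Or.inr a) hdd)
    have f1 : h • ψ (1, 0, 0) = ψ (1, 0, 0) := by rw [← e1, hv1']
    have f2 : h • ψ (2, 0, 0) = ψ (2, 0, 0) := by
      rw [show ((2, 0, 0) : ZMod m × ZMod m × ZMod m) = (1, 0, 0) + (1, 0, 0) by simp [one_add_one_eq_two],
        hψadd, smul_add, f1]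
    have hne : ∀ {a b : ZMod m × ZMod m × ZMod m}, a ∈ pts m full → b ∈ pts m full → a ≠ b →
        h • ψ b = ψ b → h • ψ a ≠ ψ b := fun ha hb hab e e' => hab (hinjh _ ha _ hb e' e)
    obtain ⟨v3, hv3, e3⟩ := himg _ m3
    have f3 : h • ψ (0, 1, 0) = ψ (0, 1, 0) := by
      have n1 : v3 ≠ (1, 0, 0) := fun e => hne m3 m1 (by simp [Prod.ext_iff]) f1 (by rw [← e3, e])
      have n2 : v3 ≠ (2, 0, 0) := fun e => hne m3 m2 (by simp [Prod.ext_iff, h2.symm]) f2 (by rw [← e3, e])
      cases full with
      | false =>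
        simp [pts] at hv3
        rw [← e3]; rcases hv3 with rfl | rfl | rfl <;> first | rfl | exact absurd rfl n1 | exact absurd rfl n2
      | true =>
        obtain ⟨v4, hv4, e4⟩ := himg ((1, 1, 0) : ZMod m × ZMod m × ZMod m) (by simp [pts])
        have : ψ (v3 + (1, 0, 0)) = ψ v4 := by
          rw [hψadd, e3, e4, ← f1, ← smul_add, ← hψadd]; simp
        rcases pts_succ h2 h3 v3 hv3 v4 hv4 (hinj _ _ (Or.inr rfl) this) with e | e
        · exact absurd e n1
        · rw [← e3, e]
    have p1 : ψ (1, 0, 0) = t i := by simp [ψ]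
    have p3 : ψ (0, 1, 0) = t j := by simp [ψ]
    intro k
    refine hspan h _ ?_ _ (hall k)
    cases full with
    | false =>
      intro x hx
      simp only [Bool.false_eq_true, if_false, Set.mem_insert_iff, Set.mem_singleton_iff] at hx
      rcases hx with rfl | rfl
      · rwa [p1] at f1
      · rwa [p3] at f3
    | true =>
      have m4 : ((1, 1, 0) : ZMod m × ZMod m × ZMod m) ∈ pts m true := by simp [pts]
      have m5 : ((0, 0, 1) : ZMod m × ZMod m × ZMod m) ∈ pts m true := by simp [pts]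
      have f4 : h • ψ (1, 1, 0) = ψ (1, 1, 0) := by
        rw [show ((1, 1, 0) : ZMod m × ZMod m × ZMod m) = (1, 0, 0) + (0, 1, 0) by simp, hψadd, smul_add, f1, f3]
      obtain ⟨v5, hv5, e5⟩ := himg _ m5
      have f5 : h • ψ (0, 0, 1) = ψ (0, 0, 1) := by
        rw [← e5]
        simp [pts] at hv5
        rcases hv5 with rfl | rfl | rfl | rfl | rfl
        · exact absurd e5.symm (hne m5 m1 (by simp [Prod.ext_iff]) f1)
        · exact absurd e5.symm (hne m5 m2 (by simp [Prod.ext_iff]) f2)
        · exact absurd e5.symm (hne m5 m3 (by simp [Prod.ext_iff]) f3)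
        · exact absurd e5.symm (hne m5 m4 (by simp [Prod.ext_iff]) f4)
        · rfl
      have p5 : ψ (0, 0, 1) = b3 := by simp [ψ]
      intro x hx
      simp only [if_true, Set.mem_insert_iff, Set.mem_singleton_iff] at hx
      rcases hx with rfl | rfl | rfl
      · rwa [p1] at f1
      · rwa [p3] at f3
      · rwa [p5] at f5
  by_cases htwo : ∀ k, t k ∈ Submodule.span (ZMod m) {t i, t j}
  · refine main false 0 (fun {x y z} h hs => ?_) (by simpa using htwo)
    have hz : z = 0 := hs.resolve_right (by simp)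
    subst hz
    simp only [smul_zero, add_zero] at h
    have hy : y = 0 := by
      by_contra hy
      refine hj ?_
      rw [show t j = (-y⁻¹ * x) • t i by
        have e : y • t j = -(x • t i) := by linear_combination (norm := module) h
        rw [← inv_smul_smul₀ hy (t j), e]; module]
      exact Submodule.smul_mem _ _ (Submodule.subset_span (by simp))
    subst hy
    simp only [zero_smul, add_zero, smul_eq_zero, hi, or_false] at h
    exact ⟨h, rfl, rfl⟩
  · push Not at htwo
    obtain ⟨k, hk⟩ := htwo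
    have hji : j ≠ i := fun e => hj (e ▸ Submodule.subset_span rfl)
    have hki : k ≠ i := fun e => hk (e ▸ Submodule.subset_span (by simp))
    have hkj : k ≠ j := fun e => hk (e ▸ Submodule.subset_span (by simp))
    refine main true (t k) (fun h _ => indep_three hi hj hk h) fun l => ?_
    have : l = i ∨ l = j ∨ l = k :=
      (by decide : ∀ i j k l : Fin 3, j ≠ i → k ≠ i → k ≠ j → l = i ∨ l = j ∨ l = k) i j k l hji hki hkj
    rcases this with rfl | rfl | rfl <;> exact Submodule.subset_span (by simp)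

end CfsgLib.BaseCop
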