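import Cfsg.Agent.Lib.BaseCop.ColourModule

/-!
Three colours on a module of exponent two which no affine map of the group preserves.
-/

set_option autoImplicit false
set_option linter.unusedSectionVars false
set_option linter.style.haveILetI false

namespace CfsgLib.BaseCop

open CfsgLib.BaseTwo (Inv Irr)

universe u

variable {M : Type u} [AddCommGroup M] [Finite M] {H : Type u} [Group H] [Finite H] [DistribMulAction H M]

/-- a subgroup with one more generator, in exponent two -/
def adj (h2 : ∀ x : M, x + x = 0) (P : AddSubgroup M) (b : M) : AddSubgroup M where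
  carrier := {x | x ∈ P ∨ x + b ∈ P}
  zero_mem' := Or.inl (zero_mem P)
  add_mem' := by
    rintro x y (hx | hx) (hy | hy)
    · exact Or.inl (add_mem hx hy)
    · exact Or.inr (by rw [add_assoc]; exact add_mem hx hy)
    · exact Or.inr (by rw [add_right_comm]; exact add_mem hx hy)
    · exact Or.inl (by
        have h := add_mem hx hy
        rwa [add_add_add_comm, h2 b, add_zero] at h)
  neg_mem' := fun {x} hx => by rwa [show -x = x from neg_eq_of_add_eq_zero_left (h2 x)]

/-- one step in choosing independent vectors around given ones -/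
theorem grow (h2 : ∀ x : M, x + x = 0) (P : AddSubgroup M) (hP : Nat.card P < Nat.card M) (t : M) :
    ∃ b, b ∉ P ∧ t ∈ adj h2 P b ∧ Nat.card (adj h2 P b) ≤ 2 * Nat.card P := by
  classical
  have hb : ∀ b, Nat.card (adj h2 P b) ≤ 2 * Nat.card P := fun b => by
    calc Nat.card (adj h2 P b) = ((P : Set M) ∪ (fun x => x + b) ⁻¹' (P : Set M)).ncard := rfl
      _ ≤ (P : Set M).ncard + ((fun x => x + b) ⁻¹' (P : Set M)).ncard := Set.ncard_union_le _ _
      _ = 2 * Nat.card P := by
        rw [two_mul]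
        congr 1
        exact Set.ncard_preimage_of_injective_subset_range (add_left_injective b)
          (fun x _ => ⟨x - b, sub_add_cancel x b⟩)
  by_cases ht : t ∈ P
  · obtain ⟨b, hb'⟩ : ∃ b, b ∉ P := by
      by_contra hno
      push Not at hno
      rw [(AddSubgroup.eq_top_iff' P).2 hno, AddSubgroup.card_top] at hP
      exact lt_irrefl _ hP
    exact ⟨b, hb', Or.inl ht, hb b⟩
  · exact ⟨t, ht, Or.inr (by rw [h2]; exact zero_mem P), hb t⟩

theorem bits_zero : ∀ n < 16, n.testBit 0 = false → n.testBit 1 = false → n.testBit 2 = false →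
    n.testBit 3 = false → n = 0 := by decide

theorem bits_inv : ∀ c0 c1 c2 c3 : Bool, ∃ n < 16,
    n.testBit 0 = c0 ∧ n.testBit 1 = c1 ∧ n.testBit 2 = c2 ∧ n.testBit 3 = c3 := by decide

theorem classes16 : ∀ n < 16, (col16 n = 2 → n ∈ [0,1,4,7,13,14]) ∧ (col16 n = 1 → n ∈ [2,3,5,8]) := by decide

/-- sixteen coloured points inside a larger module -/
theorem exists_col_big (h2 : ∀ x : M, x + x = 0) (hbig : 16 ≤ Nat.card M) (t : Fin 3 → M) :
    ∃ d : M → Fin 3, ∀ (h : H) (m : M), (∀ x, d (h • x + m) = d x) → m = 0 ∧ ∀ i, h • t i = t i := by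
  classical
  obtain ⟨b0, n0, s0, c0⟩ := grow h2 ⊥ (by rw [AddSubgroup.card_bot]; omega) (t 0)
  rw [AddSubgroup.card_bot] at c0
  obtain ⟨b1, n1, s1, c1⟩ := grow h2 (adj h2 ⊥ b0) (by omega) (t 1)
  obtain ⟨b2, n2, s2, c2⟩ := grow h2 (adj h2 (adj h2 ⊥ b0) b1) (by omega) (t 2)
  obtain ⟨b3, n3, -, -⟩ := grow h2 (adj h2 (adj h2 (adj h2 ⊥ b0) b1) b2) (by omega) 0
  let pick : Bool → M → M := fun c b => if c then b else 0
  let f : Bool → Bool → Bool → Bool → M := fun e0 e1 e2 e3 => pick e0 b0 + pick e1 b1 + pick e2 b2 + pick e3 b3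
  let ψ : ℕ → M := fun n => f (n.testBit 0) (n.testBit 1) (n.testBit 2) (n.testBit 3)
  have hpick : ∀ (c c' : Bool) (b : M), pick (c ^^ c') b = pick c b + pick c' b := fun c c' b => by
    cases c <;> cases c' <;> simp [pick, h2]
  have hxor : ∀ a b, ψ (a ^^^ b) = ψ a + ψ b := fun a b => by
    simp only [ψ, f, Nat.testBit_xor, hpick]; abel
  have hm0 : ∀ {P : AddSubgroup M} {b x : M}, x ∈ P → x ∈ adj h2 P b := fun h => Or.inl h
  have hmb : ∀ {P : AddSubgroup M} {b : M} (c : Bool), pick c b ∈ adj h2 P b := fun {P b} c => by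
    cases c
    · exact Or.inl (zero_mem P)
    · exact Or.inr (by show pick true b + b ∈ P; simp only [pick, if_true, h2]; exact zero_mem P)
  have hzero : ∀ n < 16, ψ n = 0 → n = 0 := by
    intro n hn h
    have e3 : n.testBit 3 = false := by
      by_contra e
      refine n3 ?_
      simp only [ψ, f, Bool.not_eq_false] at h e
      rw [e] at h
      simp only [pick, if_true] at h
      rw [show b3 = -(pick (n.testBit 0) b0 + pick (n.testBit 1) b1 + pick (n.testBit 2) b2) from
        eq_neg_of_add_eq_zero_right h]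
      exact neg_mem (add_mem (add_mem (hm0 (hm0 (hmb _))) (hm0 (hmb _))) (hmb _))
    have e2 : n.testBit 2 = false := by
      by_contra e
      refine n2 ?_
      simp only [ψ, f, Bool.not_eq_false] at h e
      rw [e, e3] at h
      simp only [pick, if_true, Bool.false_eq_true, if_false, add_zero] at h
      rw [show b2 = -(pick (n.testBit 0) b0 + pick (n.testBit 1) b1) from eq_neg_of_add_eq_zero_right h]
      exact neg_mem (add_mem (hm0 (hmb _)) (hmb _))
    have e1 : n.testBit 1 = false := by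
      by_contra e
      refine n1 ?_
      simp only [ψ, f, Bool.not_eq_false] at h e
      rw [e, e2, e3] at h
      simp only [pick, if_true, Bool.false_eq_true, if_false, add_zero] at h
      rw [show b1 = -(pick (n.testBit 0) b0) from eq_neg_of_add_eq_zero_right h]
      exact neg_mem (hmb _)
    have e0 : n.testBit 0 = false := by
      by_contra e
      refine n0 ?_
      simp only [ψ, f, Bool.not_eq_false] at h e
      rw [e, e1, e2, e3] at h
      simp only [pick, if_true, Bool.false_eq_true, if_false, add_zero] at h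
      rw [h]; exact zero_mem _
    exact bits_zero n hn e0 e1 e2 e3
  have hlt : ∀ a b, a < 16 → b < 16 → a ^^^ b < 16 := fun a b ha hb => Nat.xor_lt_two_pow (n := 4) ha hb
  have hinj : ∀ a < 16, ∀ b < 16, ψ a = ψ b → a = b := fun a ha b hb e => by
    have := hzero _ (hlt a b ha hb) (by rw [hxor, e, h2])
    exact Nat.xor_eq_zero_iff.1 this
  have h00 : ψ 0 = 0 := by simp [ψ, f, pick]
  let d : M → Fin 3 := fun x => if hx : ∃ n < 16, ψ n = x then col16 hx.choose else 0
  have hd : ∀ n < 16, d (ψ n) = col16 n := fun n hn => by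
    have hx : ∃ k < 16, ψ k = ψ n := ⟨n, hn, rfl⟩
    show (if hx : ∃ k < 16, ψ k = ψ n then col16 hx.choose else 0) = col16 n
    rw [dif_pos hx, hinj _ hx.choose_spec.1 n hn hx.choose_spec.2]
  have hback : ∀ x, d x ≠ 0 → ∃ n < 16, ψ n = x := fun x hx => by
    by_contra hno
    exact hx (dif_neg hno)
  refine ⟨d, fun h m hh => ?_⟩
  have key : ∀ n < 16, col16 n ≠ 0 → ∃ a < 16, ψ a = h • ψ n + m ∧ col16 a = col16 n := by
    intro n hn hc
    obtain ⟨a, ha, e⟩ := hback (h • ψ n + m) (by rw [hh, hd n hn]; exact hc)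
    exact ⟨a, ha, e, by rw [← hd a ha, e, hh, hd n hn]⟩
  obtain ⟨a0, l0, p0, q0⟩ := key 0 (by norm_num) (by decide)
  obtain ⟨a1, l1, p1, q1⟩ := key 1 (by norm_num) (by decide)
  obtain ⟨a2, l2, p2, q2⟩ := key 2 (by norm_num) (by decide)
  obtain ⟨a3, l3, p3, q3⟩ := key 4 (by norm_num) (by decide)
  obtain ⟨a4, l4, p4, q4⟩ := key 8 (by norm_num) (by decide)
  rw [h00, smul_zero, zero_add] at p0
  have hbit : ∀ (c : Bool) (n a : ℕ), ψ a = h • ψ n + m →
      ψ (if c then a0 ^^^ a else 0) = h • ψ (if c then n else 0) := fun c n a e => by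
    cases c
    · simp [h00]
    · simp only [if_true]
      rw [hxor, p0, e, add_left_comm, h2, add_zero]
  have hdec : ∀ n < 16, n = bitPart n 0 1 ^^^ bitPart n 1 2 ^^^ bitPart n 2 4 ^^^ bitPart n 3 8 := by decide
  have himg : ∀ n < 16, ψ (aff16 a0 a1 a2 a3 a4 n) = h • ψ n + m := fun n hn => by
    conv_rhs => rw [hdec n hn]
    unfold aff16
    simp only [hxor, bitPart, hbit _ _ _ p1, hbit _ _ _ p2, hbit _ _ _ p3, hbit _ _ _ p4, smul_add]
    rw [p0]; abel
  have haff : ∀ n ∈ List.range 16, col16 (aff16 a0 a1 a2 a3 a4 n) = col16 n := fun n hn => by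
    rw [List.mem_range] at hn
    have hl : aff16 a0 a1 a2 a3 a4 n < 16 := by
      unfold aff16 bitPart
      refine hlt _ _ l0 (hlt _ _ (hlt _ _ (hlt _ _ ?_ ?_) ?_) ?_) <;> split_ifs <;>
        first | exact hlt _ _ l0 ‹_› | norm_num
    rw [← hd _ hl, himg n hn, hh, hd n hn]
  obtain ⟨e0, e1, e2, e3, e4⟩ := aff16_rigid a0 ((classes16 a0 l0).1 (q0.trans (by decide)))
    a1 ((classes16 a1 l1).1 (q1.trans (by decide))) a2 ((classes16 a2 l2).2 (q2.trans (by decide)))
    a3 ((classes16 a3 l3).1 (q3.trans (by decide))) a4 ((classes16 a4 l4).2 (q4.trans (by decide))) haff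
  rw [e0, h00] at p0
  rw [e1, ← p0, add_zero] at p1
  rw [e2, ← p0, add_zero] at p2
  rw [e3, ← p0, add_zero] at p3
  rw [e4, ← p0, add_zero] at p4
  refine ⟨p0.symm, ?_⟩
  have hall : ∀ n < 16, h • ψ n = ψ n := fun n hn => by
    rw [hdec n hn]
    simp only [hxor, bitPart, smul_add]
    congr 1; congr 1; congr 1
    all_goals split_ifs <;> first | (rw [h00, smul_zero]) | exact p1.symm | exact p2.symm | exact p3.symm | exact p4.symm
  have mem1 : ∀ {P : AddSubgroup M} {b x : M}, x ∈ adj h2 P b → ∃ c : Bool, x + pick c b ∈ P := by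
    rintro P b x (hx | hx)
    · exact ⟨false, by simpa [pick] using hx⟩
    · exact ⟨true, by simpa [pick] using hx⟩
  have hrange : ∀ x, x ∈ adj h2 (adj h2 (adj h2 ⊥ b0) b1) b2 → h • x = x := fun x hx => by
    obtain ⟨c2, hc2⟩ := mem1 hx
    obtain ⟨c1, hc1⟩ := mem1 hc2
    obtain ⟨c0, hc0⟩ := mem1 hc1
    rw [AddSubgroup.mem_bot] at hc0
    obtain ⟨n, hn, r0, r1, r2, r3⟩ := bits_inv c0 c1 c2 false
    have : ψ n = x := by
      simp only [ψ, f, r0, r1, r2, r3]
      simp only [pick, Bool.false_eq_true, if_false, add_zero]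
      rw [show x = -(pick c2 b2 + pick c1 b1 + pick c0 b0) from
        eq_neg_of_add_eq_zero_left (by rw [← hc0]; abel)]
      rw [neg_eq_of_add_eq_zero_left (h2 _)]
      simp only [pick]; abel
    rw [← this]; exact hall n hn
  intro i
  fin_cases i
  · exact hrange _ (hm0 (hm0 s0))
  · exact hrange _ (hm0 s1)
  · exact hrange _ s2

theorem small_primes {n j q : ℕ} (hn : n < 4) (hj : j < n) (hq : q = 5 ∨ q = 7) (h : q ∣ 2 ^ n - 2 ^ j) :
    j = 0 ∧ n = 3 ∧ q = 7 := by
  rcases hq with rfl | rfl <;> interval_cases n <;> interval_cases j <;> first | omega | (norm_num at h ⊢)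

/-- a group without threes on at most eight points has odd order -/
theorem odd_of_small (hH : Group.IsSolvable H) (h3 : ¬ 3 ∣ Nat.card H) (hirr : Irr H M)
    (hf : ∀ h : H, (∀ x : M, h • x = x) → h = 1) (h2 : ∀ x : M, x + x = 0) (h8 : Nat.card M ≤ 8) :
    Odd (Nat.card H) := by
  classical
  haveI := hH
  by_contra hodd
  obtain ⟨g, hg⟩ := exists_prime_orderOf_dvd_card' 2 (Nat.not_odd_iff_even.1 hodd).two_dvd
  have hg1 : g ≠ 1 := fun e => by rw [e, orderOf_one] at hg; omega
  haveI : Nontrivial H := ⟨⟨g, 1, hg1⟩⟩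
  obtain ⟨Z, hZn, hZ, hZmin⟩ := CfsgLib.Solvable.exists_minimal_normal (G := H)
  haveI := hZn
  haveI := CfsgLib.Solvable.isMulCommutative_of_minimal_normal hZ hZmin
  obtain ⟨q, hq, hexp⟩ := CfsgLib.Solvable.exists_prime_pow_eq_one_of_minimal_normal hZ hZmin
  haveI := Fact.mk hq
  have hPZ : IsPGroup q Z := fun z => ⟨1, Subtype.ext (by simpa using hexp z z.2)⟩
  obtain ⟨n, hn⟩ : ∃ n, Nat.card M = 2 ^ n := by
    haveI : Fact (Nat.Prime 2) := ⟨Nat.prime_two⟩
    refine (IsPGroup.iff_card (p := 2) (G := Multiplicative M)).1 fun x => ⟨1, ?_⟩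
    exact Multiplicative.toAdd.injective (by simpa [two_nsmul] using h2 x.toAdd)
  let Fix : Set H → AddSubgroup M := fun S =>
    { carrier := {x | ∀ s ∈ S, s • x = x}
      zero_mem' := fun s _ => smul_zero s
      add_mem' := fun {x y} hx hy s hs => by rw [smul_add, hx s hs, hy s hs]
      neg_mem' := fun {x} hx s hs => by rw [smul_neg, hx s hs] }
  have hfixZ : Fix (Z : Set H) = ⊥ := by
    have hinv : Inv (⊤ : Subgroup H) (Fix (Z : Set H)) := fun a _ x hx s hs => ?_
    · exact (hirr _ hinv).resolve_right fun e => hZ ((Subgroup.eq_bot_iff_forall _).2 fun z hz =>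
        hf z fun x => (show x ∈ Fix (Z : Set H) by rw [e]; trivial) z hz)
    have h' := hx _ (hZn.conj_mem s hs a⁻¹)
    rw [inv_inv, mul_smul, mul_smul, inv_smul_eq_iff] at h'
    exact h'
  have hq2 : q ≠ 2 := by
    rintro rfl
    obtain ⟨x, hx, hx0⟩ := hPZ.exists_fixed_point_of_prime_dvd_card_of_fixed_point M
      (by
        have : 1 < Nat.card M := by
          by_contra hle
          haveI := (Finite.card_le_one_iff_subsingleton.1 (not_lt.1 hle))
          exact hg1 (hf g fun x => Subsingleton.elim _ _)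
        rw [hn] at this ⊢
        exact dvd_pow_self 2 (fun e => by rw [e] at this; simp at this))
      (a := (0 : M)) (fun z => smul_zero (z : H))
    have hm : x ∈ Fix (Z : Set H) := fun s hs => hx ⟨s, hs⟩
    rw [hfixZ, AddSubgroup.mem_bot] at hm
    exact hx0 hm.symm
  have hq3 : q ≠ 3 := by
    rintro rfl
    obtain ⟨z, hz, hz1⟩ : ∃ z ∈ Z, z ≠ 1 := Z.bot_or_exists_ne_one.resolve_left hZ
    exact h3 (orderOf_eq_prime (hexp z hz) hz1 ▸ orderOf_dvd_natCard z)
  -- a non-trivial element of `Z` only fixes zero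
  have hsemi : ∀ z ∈ Z, z ≠ 1 → ∀ x : M, z • x = x → x = 0 ∧ Nat.card M = 8 ∧ q = 7 := by
    intro z hz hz1 x hx
    have hP : IsPGroup q (Subgroup.zpowers z) :=
      IsPGroup.of_card (n := 1) (by rw [Nat.card_zpowers, orderOf_eq_prime (hexp z hz) hz1, pow_one])
    have hmod := hP.card_modEq_card_fixedPoints M
    have hset : MulAction.fixedPoints (Subgroup.zpowers z) M = (Fix {z} : Set M) := by
      ext y
      constructor
      · rintro hy s rfl
        exact hy ⟨s, Subgroup.mem_zpowers s⟩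
      · rintro hy ⟨w, hw⟩
        exact (Subgroup.zpowers_le.2 (show z ∈ MulAction.stabilizer H y from hy z rfl)) hw
    rw [hset] at hmod
    have hdvd := (Fix {z}).card_addSubgroup_dvd_card
    rw [hn] at hdvd hmod h8
    obtain ⟨j, hj, e⟩ := (Nat.dvd_prime_pow Nat.prime_two).1 hdvd
    have hne : j ≠ n := fun e' => hz1 (hf z fun y =>
      (show y ∈ Fix {z} by
        rw [AddSubgroup.eq_top_of_card_eq (Fix {z}) (by rw [e, e', hn])]; trivial) z rfl)
    have hn3 : n ≤ 3 := by
      by_contra h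
      have : 2 ^ 4 ≤ 2 ^ n := Nat.pow_le_pow_right (by norm_num) (by omega)
      omega
    rw [show Nat.card ((Fix {z} : Set M)) = 2 ^ j from e] at hmod
    have hq' := (Nat.modEq_iff_dvd' (Nat.pow_le_pow_right (by norm_num) hj)).1 hmod.symm
    have hqle : q ≤ 7 := Nat.le_of_dvd (by
      have := Nat.pow_lt_pow_right (show 1 < 2 by norm_num) (lt_of_le_of_ne hj hne)
      omega) hq' |>.trans (by
      have := Nat.pow_le_pow_right (show 0 < 2 by norm_num) hn3
      have := Nat.one_le_pow j 2 (by norm_num)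
      omega)
    have hj0 : j = 0 ∧ n = 3 ∧ q = 7 :=
      small_primes (by omega) (lt_of_le_of_ne hj hne) (by
        have := hq.two_le
        interval_cases q <;> first | omega | exact absurd hq (by norm_num)) hq'
    refine ⟨?_, by rw [hn, hj0.2.1]; rfl, hj0.2.2⟩
    have hb : Fix {z} = ⊥ := AddSubgroup.eq_bot_of_card_eq _ (by rw [e, hj0.1]; rfl)
    have hm : x ∈ Fix {z} := fun s hs => by rw [Set.mem_singleton_iff.1 hs]; exact hx
    rwa [hb, AddSubgroup.mem_bot] at hm
  -- an involution fixes two non-zero vectors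
  have hgg : g * g = 1 := by rw [← sq, ← hg]; exact pow_orderOf_eq_one g
  let δ : M →+ M := AddMonoidHom.mk' (fun x => g • x + x) fun x y => by simp only [smul_add]; abel
  have hker : δ.ker = Fix {g} := by
    ext x
    show g • x + x = 0 ↔ ∀ s ∈ ({g} : Set H), s • x = x
    simp only [Set.mem_singleton_iff, forall_eq]
    exact ⟨fun h => (eq_neg_of_add_eq_zero_left h).trans (neg_eq_of_add_eq_zero_left (h2 x)), fun h => by rw [h, h2]⟩
  have hsub : δ.range ≤ Fix {g} := by
    rintro _ ⟨x, rfl⟩ s hs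
    rw [Set.mem_singleton_iff.1 hs]
    show g • (g • x + x) = g • x + x
    rw [smul_add, ← mul_smul, hgg, one_smul, add_comm]
  obtain ⟨z, hz, hz1⟩ : ∃ z ∈ Z, z ≠ 1 := Z.bot_or_exists_ne_one.resolve_left hZ
  obtain ⟨hc8, hq7⟩ := (hsemi z hz hz1 0 (smul_zero z)).2
  have hprod : Nat.card M ≤ Nat.card (Fix {g}) * Nat.card (Fix {g}) := by
    have e := δ.ker.card_eq_card_quotient_mul_card_addSubgroup
    rw [Nat.card_congr (QuotientAddGroup.quotientKerEquivRange δ).toEquiv, hker] at e
    rw [e]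
    exact Nat.mul_le_mul_right _ (AddSubgroup.card_le_of_le hsub)
  rw [hc8] at hprod
  have hthree : 3 ≤ Nat.card (Fix {g}) := by
    by_contra hlt
    have := Nat.mul_le_mul (show Nat.card (Fix {g}) ≤ 2 by omega) (show Nat.card (Fix {g}) ≤ 2 by omega)
    omega
  obtain ⟨x, hx, hx0⟩ : ∃ x ∈ Fix {g}, x ≠ 0 := by
    refine (AddSubgroup.bot_or_exists_ne_zero _).resolve_left fun e => ?_
    rw [e, AddSubgroup.card_bot] at hthree
    omega
  obtain ⟨y, hy, hy0, hyx⟩ : ∃ y ∈ Fix {g}, y ≠ 0 ∧ y ≠ x := by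
    by_contra hno
    push Not at hno
    have : (Fix {g} : Set M) ⊆ {0, x} := fun y hy => by
      by_cases h : y = 0
      · exact Or.inl h
      · exact Or.inr (hno y hy h)
    have := (Set.ncard_le_ncard this (Set.toFinite _)).trans (Set.ncard_pair hx0.symm).le
    rw [← Nat.card_coe_set_eq] at this
    exact absurd (hthree.trans this) (by norm_num)
  have hgx : g • x = x := hx g rfl
  have hgy : g • y = y := hy g rfl
  have hsev : ∀ w ∈ Z, w ≠ 1 → ∀ u : M, u ≠ 0 → ∃ j : ℕ, w ^ j • x = u := by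
    intro w hw hw1 u hu
    have hw7 : orderOf w = 7 := hq7 ▸ orderOf_eq_prime (hexp w hw) hw1
    let e : Fin 7 → {u : M // u ≠ 0} := fun i => ⟨w ^ (i : ℕ) • x, fun e => hx0 ((smul_eq_zero_iff_eq _).1 e)⟩
    have hinj : Function.Injective e := by
      intro i j h
      have h' : w ^ (i : ℕ) • x = w ^ (j : ℕ) • x := congrArg Subtype.val h
      by_contra hne
      have : (w ^ (j : ℕ))⁻¹ * w ^ (i : ℕ) = 1 := by
        by_contra h1
        refine hx0 (hsemi _ (mul_mem (inv_mem (pow_mem hw _)) (pow_mem hw _)) h1 x ?_).1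
        rw [mul_smul, h', inv_smul_smul]
      rw [inv_mul_eq_one, pow_eq_pow_iff_modEq, hw7] at this
      exact hne (Fin.ext (Nat.ModEq.eq_of_lt_of_lt this.symm i.2 j.2))
    have hcard : Nat.card {u : M // u ≠ 0} = 7 := by
      haveI := Fintype.ofFinite M
      rw [Nat.card_eq_fintype_card, Fintype.card_subtype_compl, Fintype.card_subtype_eq,
        ← Nat.card_eq_fintype_card, hc8]
    obtain ⟨i, hi⟩ := (hinj.bijective_of_nat_card_le (by rw [hcard, Nat.card_fin])).2 ⟨u, hu⟩
    exact ⟨i, congrArg Subtype.val hi⟩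
  obtain ⟨j, hj⟩ := hsev z hz hz1 y hy0
  have hw1 : z ^ j ≠ 1 := fun e => hyx (by rw [← hj, e, one_smul])
  have hcomm : g * z ^ j * g⁻¹ = z ^ j := by
    have hmem := hZn.conj_mem _ (pow_mem hz j) g
    refine (inv_mul_eq_one.1 ?_).symm
    by_contra h1
    refine hx0 (hsemi _ (mul_mem (inv_mem (pow_mem hz j)) hmem) h1 x ?_).1
    rw [mul_smul, mul_smul, mul_smul, show g⁻¹ • x = x from inv_smul_eq_iff.2 hgx.symm, hj, hgy, ← hj,
      inv_smul_smul]
  refine hg1 (hf g fun u => ?_)
  rcases eq_or_ne u 0 with rfl | hu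
  · exact smul_zero g
  obtain ⟨i, rfl⟩ := hsev _ (pow_mem hz j) hw1 u hu
  have hc : g * (z ^ j) ^ i = (z ^ j) ^ i * g :=
    (Commute.pow_right (show Commute g (z ^ j) from mul_inv_eq_iff_eq_mul.1 hcomm) i).eq
  rw [← mul_smul, hc, mul_smul, hgx]

/-- three colours in exponent two -/
theorem exists_col_exp_two (hH : Group.IsSolvable H) (h3 : ¬ 3 ∣ Nat.card H) (hirr : Irr H M)
    (hf : ∀ h : H, (∀ x : M, h • x = x) → h = 1) (h2 : ∀ x : M, x + x = 0) (t : Fin 3 → M)
    (ht : ∀ h : H, (∀ i, h • t i = t i) → ∀ x : M, h • x = x) :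
    ∃ d : M → Fin 3, ∀ (h : H) (m : M), (∀ x, d (h • x + m) = d x) → m = 0 ∧ ∀ x : M, h • x = x := by
  classical
  rcases le_or_gt 16 (Nat.card M) with hbig | hsmall
  · obtain ⟨d, hd⟩ := exists_col_big (H := H) h2 hbig t
    exact ⟨d, fun h m hh => ⟨(hd h m hh).1, ht h (hd h m hh).2⟩⟩
  have h8 : Nat.card M ≤ 8 := by
    obtain ⟨n, hn⟩ : ∃ n, Nat.card M = 2 ^ n := by
      haveI : Fact (Nat.Prime 2) := ⟨Nat.prime_two⟩
      refine (IsPGroup.iff_card (p := 2) (G := Multiplicative M)).1 fun x => ⟨1, ?_⟩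
      exact Multiplicative.toAdd.injective (by simpa [two_nsmul] using h2 x.toAdd)
    rw [hn] at hsmall ⊢
    have : n < 4 := (Nat.pow_lt_pow_iff_right (show 1 < 2 by norm_num)).1 (by simpa using hsmall)
    calc 2 ^ n ≤ 2 ^ 3 := Nat.pow_le_pow_right (by norm_num) (by omega)
      _ = 8 := by norm_num
  obtain ⟨T, hT⟩ := (CfsgLib.BaseTwo.hyps.{u} (Nat.card H)).2 H M (odd_of_small hH h3 hirr hf h2 h8) le_rfl
  refine ⟨fun x => if x = 0 then 2 else if x ∈ T then 1 else 0, fun h m hh => ?_⟩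
  have hm : m = 0 := by
    have e := hh 0
    simp only [smul_zero, zero_add, if_true] at e
    by_contra hm
    rw [if_neg hm] at e
    split_ifs at e <;> exact absurd e (by decide)
  refine ⟨hm, hT h fun x => ?_⟩
  subst hm
  have e := hh x
  rw [add_zero] at e
  by_cases hx : x = 0
  · rw [hx, smul_zero]
  · have hx' : h • x ≠ 0 := fun e' => hx ((smul_eq_zero_iff_eq _).1 e')
    simp only [if_neg hx, if_neg hx'] at e
    by_cases a : h • x ∈ T <;> by_cases b : x ∈ T <;> simp [a, b] at e ⊢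

end CfsgLib.BaseCop
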