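import Cfsg.Agent.Lib.BaseCop.Labels

/-!
Bases of size two: transport of monomial coordinates to the finite exceptional cases.
The finite certificates enter as hypotheses.
-/

set_option autoImplicit false
set_option linter.unusedSectionVars false
set_option linter.style.haveILetI false

namespace CfsgLib.BaseCop

open CfsgLib.BaseTwo (Inv BaseOn FieldCase zp zp_zero zp_one zp_mem dot dot_comm dot_add)
open CfsgLib.BaseThree (Data)

universe u

/-- a monomial map of the function space -/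
def tMon {p d : ℕ} (s : ZMod p) (b c : Fin d → ZMod 2) (x : (Fin d → ZMod 2) → ZMod p) :
    (Fin d → ZMod 2) → ZMod p :=
  fun a => s * (-1) ^ (∑ i, b i * a i : ZMod 2).val * x (a + c)

/-- the second generator of the quaternion group on the first coordinate -/
def tQ {d : ℕ} (j : Fin 2) (x : (Fin (d + 1) → ZMod 2) → ZMod 3) : (Fin (d + 1) → ZMod 2) → ZMod 3 :=
  if j = 0 then x
  else fun a => x (Function.update a 0 0) + (-1) ^ (a 0).val * x (Function.update a 0 1)

/-- the finite certificate for a solvable group normalising monomial maps -/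
def SmallHyp (p d : ℕ) : Prop :=
  ∀ (G : Type u) [Group G] [Finite G] [DistribMulAction G ((Fin d → ZMod 2) → ZMod p)],
    Group.IsSolvable G → ¬ p ∣ Nat.card G →
    (∀ g : G, (∀ x : (Fin d → ZMod 2) → ZMod p, g • x = x) → g = 1) →
    (∀ (g : G) (b c : Fin d → ZMod 2), ∃ s b' c', ∀ x : (Fin d → ZMod 2) → ZMod p,
      g • tMon 1 b c x = tMon s b' c' (g • x)) →
    ∃ v w : (Fin d → ZMod 2) → ZMod p, ∀ g : G, g • v = v → g • w = w → g = 1

/-- the finite certificate for minus type -/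
def SmallMinusHyp : Prop :=
  ∀ (G : Type u) [Group G] [Finite G] [DistribMulAction G ((Fin 3 → ZMod 2) → ZMod 3)],
    Group.IsSolvable G → ¬ 3 ∣ Nat.card G →
    (∀ g : G, (∀ x : (Fin 3 → ZMod 2) → ZMod 3, g • x = x) → g = 1) →
    (∀ (g : G) (j : Fin 2) (b c : Fin 3 → ZMod 2), b 0 = c 0 → ∃ s j' b' c', b' 0 = c' 0 ∧
      ∀ x : (Fin 3 → ZMod 2) → ZMod 3, g • tQ j (tMon 1 b c x) = tQ j' (tMon s b' c' (g • x))) →
    ∃ v w : (Fin 3 → ZMod 2) → ZMod 3, ∀ g : G, g • v = v → g • w = w → g = 1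

variable {A V : Type u} [Group A] [Finite A] [AddCommGroup V] [Finite V] [DistribMulAction A V]

/-- transport of the action and of the base along coordinates -/
theorem base_of_coords {X : Type*} [AddCommGroup X] (φ : X ≃+ V) (hA : Group.IsSolvable A) {p : ℕ}
    (hp : ¬ p ∣ Nat.card A) (hf : ∀ a : A, (∀ v : V, a • v = v) → a = 1)
    (hsmall : ∀ [DistribMulAction A X], (∀ (g : A) (x : X), φ (g • x) = g • φ x) → Group.IsSolvable A →
      ¬ p ∣ Nat.card A → (∀ g : A, (∀ x : X, g • x = x) → g = 1) →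
      ∃ v w : X, ∀ g : A, g • v = v → g • w = w → g = 1) :
    BaseOn (⊤ : Subgroup A) (⊤ : AddSubgroup V) := by
  letI : DistribMulAction A X :=
    { smul := fun g x => φ.symm (g • φ x)
      one_smul := fun x => show φ.symm ((1 : A) • φ x) = x by rw [one_smul, φ.symm_apply_apply]
      mul_smul := fun g h x => show φ.symm ((g * h) • φ x) = φ.symm (g • φ (φ.symm (h • φ x))) by
        rw [φ.apply_symm_apply, mul_smul]
      smul_zero := fun g => show φ.symm (g • φ 0) = 0 by rw [map_zero, smul_zero, map_zero]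
      smul_add := fun g x y => show φ.symm (g • φ (x + y)) = φ.symm (g • φ x) + φ.symm (g • φ y) by
        rw [map_add, smul_add, map_add] }
  have hφ : ∀ (g : A) (x : X), φ (g • x) = g • φ x := fun g x => φ.apply_symm_apply _
  obtain ⟨v, w, h⟩ := hsmall hφ hA hp fun g hg => hf g fun y => by
    obtain ⟨x, rfl⟩ := φ.surjective y
    rw [← hφ, hg]
  refine ⟨φ v, trivial, φ w, trivial, fun g _ hv hw x _ => ?_⟩
  rw [h g (φ.injective (by rw [hφ, hv])) (φ.injective (by rw [hφ, hw])), one_smul]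

/-- scalars of the prime field commute with the action -/
theorem smul_zsmul_comm {p : ℕ} [Fact p.Prime] [Module (ZMod p) V] (g : A) (t : ZMod p) (v : V) :
    g • t • v = t • g • v := ZMod.map_smul (DistribSMul.toAddMonoidHom V g) t v

theorem zmod_two_cases : ∀ c : ZMod 2, c = 0 ∨ c = 1 := by decide

section data

variable {U : Subgroup A} {d : ℕ} [Fact (Nat.Prime 2)] (F : FieldCase A V U) (D : Data A V U 2 d)
include F

theorem zeta_neg (v : V) : D.ζ • v = -v := by
  have h2 : D.ζ * D.ζ = 1 := by rw [← sq]; exact D.zeta_pow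
  have h : D.ζ • (D.ζ • v + v) = D.ζ • v + v := by
    rw [smul_add, ← mul_smul, h2, one_smul, add_comm]
  have hne : D.ζ ≠ 1 := fun e => by
    have := D.order
    rw [e, orderOf_one] at this
    exact absurd this (by norm_num)
  exact add_eq_zero_iff_eq_neg.1 (F.eq_zero_of_smul_eq D.zmem hne h)

theorem sc_neg {p : ℕ} [Fact p.Prime] [Module (ZMod p) V] (c : ZMod 2) (v : V) :
    D.sc c • v = ((-1 : ZMod p) ^ c.val) • v := by
  rcases zmod_two_cases c with rfl | rfl
  · rw [show D.sc (0 : ZMod 2) = 1 from zp_zero _, one_smul, ZMod.val_zero, pow_zero, one_smul]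
  · rw [show D.sc (1 : ZMod 2) = D.ζ from zp_one _, ZMod.val_one, pow_one, neg_smul, one_smul,
      zeta_neg F D]

omit F in
theorem gen_XY {e : A} (he : e ∈ D.E) : ∃ k ∈ D.K, ∃ b c, e = k * (D.X b * D.Y c) := by
  obtain ⟨k, hk, c, b, rfl⟩ := D.gen e he
  refine ⟨k * D.sc (dot b c), mul_mem hk (D.le (zp_mem D.zmem _)), b, c, ?_⟩
  rw [D.rel, show D.sc (dot b c) = zp D.ζ (dot b c) from rfl]
  have h : zp D.ζ (dot b c) * zp D.ζ (dot b c) = 1 := by
    show D.sc _ * D.sc _ = 1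
    rw [← D.sc_add, show dot b c + dot b c = 0 from CharTwo.add_self_eq_zero _]
    exact zp_zero _
  calc k * (D.Y c * D.X b) = k * (zp D.ζ (dot b c) * zp D.ζ (dot b c)) * (D.Y c * D.X b) := by
        rw [h, mul_one]
    _ = _ := by simp only [mul_assoc]

omit F in
theorem sub_two (a c : Fin d → ZMod 2) : c + (a + c) = a := by
  rw [add_comm a c, ← add_assoc, show c + c = 0 from funext fun i => CharTwo.add_self_eq_zero _, zero_add]

/-- the action of an element of `E` on a vector in coordinates -/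
theorem act_coords {p : ℕ} [Fact p.Prime] [Module (ZMod p) V] {k : A} (hk : k ∈ D.K) (b c : Fin d → ZMod 2)
    {w : (Fin d → ZMod 2) → V} (hw : ∀ a, w a ∈ D.W) :
    (k * (D.X b * D.Y c)) • ∑ a, D.Y a • w a =
      ∑ a, D.Y a • (((-1 : ZMod p) ^ (dot b a).val) • k • w (a + c)) := by
  rw [Finset.smul_sum]
  refine Fintype.sum_equiv (Equiv.addRight c) _ _ fun a => ?_
  rw [Equiv.coe_addRight, show a + c + c = a by
    rw [add_assoc, show c + c = 0 from funext fun i => CharTwo.add_self_eq_zero _, add_zero]]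
  calc (k * (D.X b * D.Y c)) • D.Y a • w a = k • D.X b • D.Y (a + c) • w a := by
        rw [mul_smul, mul_smul, add_comm a c, D.addY, mul_smul]
    _ = k • D.sc (dot b (a + c)) • D.Y (a + c) • w a := by rw [D.smul_W (hw a)]
    _ = ((-1 : ZMod p) ^ (dot b (a + c)).val) • D.Y (a + c) • k • w a := by
        rw [sc_neg F D (p := p), smul_zsmul_comm (p := p), ← mul_smul k, D.commY k hk, mul_smul]
    _ = _ := by rw [smul_zsmul_comm (p := p)]

end data

/-- the exceptional cases with one-dimensional blocks -/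
theorem base_exceptional {U : Subgroup A} {d : ℕ} [Fact (Nat.Prime 2)] (F : FieldCase A V U)
    (D : Data A V U 2 d) (hA : Group.IsSolvable A) {p : ℕ} [Fact p.Prime] (hp : ¬ p ∣ Nat.card A)
    (hexp : ∀ v : V, p • v = 0) {u₀ : V} (hu₀ : u₀ ∈ D.W) (h00 : u₀ ≠ 0)
    (hW : ∀ w ∈ D.W, ∃ c : ℕ, c • u₀ = w) (hsmall : SmallHyp.{u} p d) :
    BaseOn (⊤ : Subgroup A) (⊤ : AddSubgroup V) := by
  classical
  haveI := D.normal
  obtain ⟨iM⟩ : Nonempty (Module (ZMod p) V) := ⟨AddCommGroup.zmodModule hexp⟩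
  let w : ((Fin d → ZMod 2) → ZMod p) → (Fin d → ZMod 2) → V := fun x a => x a • u₀
  have hw : ∀ x a, w x a ∈ D.W := fun x a => by
    show x a • u₀ ∈ D.W
    rw [← ZMod.natCast_zmod_val (x a), Nat.cast_smul_eq_nsmul]
    exact nsmul_mem hu₀ _
  let f : ((Fin d → ZMod 2) → ZMod p) →+ V :=
    AddMonoidHom.mk' (fun x => ∑ a, D.Y a • w x a) fun x y => by
      simp only [w, Pi.add_apply, add_smul, smul_add, Finset.sum_add_distrib]
  have hinj : Function.Injective f := fun x y h => funext fun a =>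
    smul_left_injective (ZMod p) h00 (D.uniq F (hw x) (hw y) h a)
  have hsurj : Function.Surjective f := fun v => by
    obtain ⟨z, hz, rfl⟩ := D.exists_decomp F v
    choose n hn using fun a => hW _ (hz a)
    refine ⟨fun a => (n a : ZMod p), Finset.sum_congr rfl fun a _ => ?_⟩
    show D.Y a • ((n a : ZMod p) • u₀) = _
    rw [Nat.cast_smul_eq_nsmul, hn]
  let φ := AddEquiv.ofBijective f ⟨hinj, hsurj⟩
  have hrep : ∀ e ∈ D.E, ∃ s b c, ∀ x, e • φ x = φ (tMon s b c x) := by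
    intro e he
    obtain ⟨k, hk, b, c, rfl⟩ := gen_XY D he
    obtain ⟨n, hn⟩ := hW _ (D.W_K hu₀ hk)
    refine ⟨(n : ZMod p), b, c, fun x => ?_⟩
    show (k * (D.X b * D.Y c)) • (∑ a, D.Y a • w x a) = ∑ a, D.Y a • w (tMon _ b c x) a
    rw [act_coords F D (p := p) hk b c (hw x)]
    refine Finset.sum_congr rfl fun a _ => congrArg (D.Y a • ·) ?_
    show _ • k • (x (a + c) • u₀) = ((n : ZMod p) * _ * x (a + c)) • u₀
    rw [smul_zsmul_comm k (x (a + c)), ← hn, ← Nat.cast_smul_eq_nsmul (ZMod p), ← mul_smul, ← mul_smul]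
    congr 1
    simp only [dot]
    ring
  have hone : ∀ b c x, (D.X b * D.Y c) • φ x = φ (tMon 1 b c x) := by
    intro b c x
    show (D.X b * D.Y c) • (∑ a, D.Y a • w x a) = ∑ a, D.Y a • w (tMon 1 b c x) a
    conv_lhs => rw [← one_mul (D.X b * D.Y c)]
    rw [act_coords F D (p := p) (one_mem D.K) b c (hw x)]
    refine Finset.sum_congr rfl fun a _ => congrArg (D.Y a • ·) ?_
    show _ • (1 : A) • (x (a + c) • u₀) = (1 * _ * x (a + c)) • u₀
    rw [one_smul, ← mul_smul, one_mul]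
    rfl
  refine base_of_coords φ hA hp F.faithful fun {i} hφ hsol hpA hfaith => @hsmall A _ _ i hsol hpA hfaith ?_
  intro g b c
  obtain ⟨s, b', c', hs⟩ := hrep _ (D.normal.conj_mem _ (mul_mem (D.memX b) (D.memY c)) g)
  refine ⟨s, b', c', fun x => φ.injective ?_⟩
  rw [hφ, ← hone, ← hs, hφ, mul_smul (g * (D.X b * D.Y c)), inv_smul_smul, ← mul_smul]

section minus

/-- a block with two coordinates -/
def mNeg (f : ZMod 2 → ZMod 3) : ZMod 2 → ZMod 3 := fun a => -f a

/-- the first generator on a block -/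
def mJ (f : ZMod 2 → ZMod 3) : ZMod 2 → ZMod 3 := fun a => if a = 0 then -f 1 else f 0

/-- the second generator on a block -/
def mB (α β : ZMod 3) (f : ZMod 2 → ZMod 3) : ZMod 2 → ZMod 3 :=
  fun a => if a = 0 then α * f 0 + β * f 1 else β * f 0 - α * f 1

/-- a monomial map followed by the second generator, on a block -/
def mT (j : Fin 2) (s : ZMod 3) (i : ZMod 2) (f : ZMod 2 → ZMod 3) : ZMod 2 → ZMod 3 :=
  fun a => if j = 0 then s * (-1) ^ (i * a).val * f (a + i)
    else s * f (0 + i) + (-1) ^ a.val * (s * (-1) ^ i.val * f (1 + i))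

theorem block_rep : ∀ α β : ZMod 3, α * α + β * β = -1 → ∀ (x : ZMod 2) (i j : Fin 2),
    ∃ (j' : Fin 2) (s : ZMod 3) (i' : ZMod 2), ∀ f : ZMod 2 → ZMod 3, ∀ a,
      mNeg^[x.val] (mJ^[(i : ℕ)] ((mB α β)^[(j : ℕ)] f)) a = mT j' s i' f a := by
  decide +kernel

theorem block_real : ∀ α β : ZMod 3, α * α + β * β = -1 → ∀ (j' : Fin 2) (i' : ZMod 2),
    ∃ (x : ZMod 2) (i j : Fin 2), ∀ f : ZMod 2 → ZMod 3, ∀ a,
      mNeg^[x.val] (mJ^[(i : ℕ)] ((mB α β)^[(j : ℕ)] f)) a = mT j' 1 i' f a := by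
  decide +kernel

theorem neg_one_pow_add : ∀ u v : ZMod 2, (-1 : ZMod 3) ^ (u + v).val = (-1) ^ u.val * (-1) ^ v.val := by
  decide

theorem sum_sq_zero : ∀ a b : ZMod 3, a * a + b * b = 0 → a = 0 ∧ b = 0 := by decide

/-- the exceptional case of minus type -/
theorem base_exceptional_minus {U : Subgroup A} [Fact (Nat.Prime 2)] (F : FieldCase A V U)
    (D : Data A V U 2 2) (hA : Group.IsSolvable A) (hp : ¬ 3 ∣ Nat.card A) (hexp : ∀ v : V, 3 • v = 0)
    {u₀ : V} (hu₀ : u₀ ∈ D.W) (h00 : u₀ ≠ 0) {q₁ q₂ : A} (hq₁ : q₁ ∈ D.K) (hq₂ : q₂ ∈ D.K)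
    (h11 : q₁ * q₁ = D.ζ) (h22 : q₂ * q₂ = D.ζ) (h12 : q₁ * q₂ = D.ζ * (q₂ * q₁))
    (hgenK : ∀ k ∈ D.K, ∃ (x : ZMod 2) (i j : Fin 2), k = D.sc x * (q₁ ^ (i : ℕ) * q₂ ^ (j : ℕ)))
    (hW : ∀ w ∈ D.W, ∃ c c' : ℕ, c • u₀ + c' • (q₁ • u₀) = w) (hsmall : SmallMinusHyp.{u}) :
    BaseOn (⊤ : Subgroup A) (⊤ : AddSubgroup V) := by
  classical
  haveI := D.normal
  haveI : Fact (Nat.Prime 3) := ⟨Nat.prime_three⟩
  obtain ⟨iM⟩ : Nonempty (Module (ZMod 3) V) := ⟨AddCommGroup.zmodModule hexp⟩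
  obtain ⟨u₁, hu₁d⟩ : ∃ u₁, u₁ = q₁ • u₀ := ⟨_, rfl⟩
  have hu₁ : u₁ ∈ D.W := hu₁d ▸ D.W_K hu₀ hq₁
  have hq11 : q₁ • u₁ = -u₀ := by rw [hu₁d, ← mul_smul, h11, zeta_neg F D]
  have hmem : ∀ (t : ZMod 3) {v : V}, v ∈ D.W → t • v ∈ D.W := fun t v hv => by
    rw [← ZMod.natCast_zmod_val t, Nat.cast_smul_eq_nsmul]
    exact nsmul_mem hv _
  let ψ : (ZMod 2 → ZMod 3) → V := fun f => f 0 • u₀ + f 1 • u₁
  have hψW : ∀ f, ψ f ∈ D.W := fun f => add_mem (hmem _ hu₀) (hmem _ hu₁)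
  have hψinj : Function.Injective ψ := by
    intro f f' h
    have h1 : (f 0 - f' 0) • u₀ + (f 1 - f' 1) • u₁ = 0 := by
      simp only [ψ] at h
      rw [sub_smul, sub_smul]
      linear_combination (norm := abel) h
    have h2 := congrArg (q₁ • ·) h1
    simp only [smul_add, smul_zsmul_comm, ← hu₁d, hq11, smul_zero, smul_neg] at h2
    have h3 : ((f 0 - f' 0) * (f 0 - f' 0) + (f 1 - f' 1) * (f 1 - f' 1)) • u₀ = 0 := by
      have e1 := congrArg ((f 0 - f' 0) • ·) h1
      have e2 := congrArg ((f 1 - f' 1) • ·) h2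
      simp only [smul_add, smul_neg, smul_smul, smul_zero] at e1 e2
      rw [mul_comm (f 1 - f' 1) (f 0 - f' 0)] at e2
      rw [add_smul]
      linear_combination (norm := abel) e1 - e2
    obtain ⟨z0, z1⟩ := sum_sq_zero _ _ ((smul_eq_zero.1 h3).resolve_right h00)
    funext a
    rcases zmod_two_cases a with rfl | rfl
    · exact sub_eq_zero.1 z0
    · exact sub_eq_zero.1 z1
  obtain ⟨α, β, hab⟩ : ∃ α β : ZMod 3, q₂ • u₀ = α • u₀ + β • u₁ := by
    obtain ⟨c, c', h⟩ := hW _ (D.W_K hu₀ hq₂)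
    exact ⟨c, c', by rw [Nat.cast_smul_eq_nsmul, Nat.cast_smul_eq_nsmul, hu₁d, h]⟩
  have hq21 : q₂ • u₁ = β • u₀ + (-α) • u₁ := by
    have h : q₂ * q₁ = D.ζ * (q₁ * q₂) := by
      rw [h12, ← mul_assoc D.ζ D.ζ, show D.ζ * D.ζ = 1 by rw [← sq]; exact D.zeta_pow, one_mul]
    rw [hu₁d, ← mul_smul, h, mul_smul, mul_smul, zeta_neg F D, hab, smul_add, smul_zsmul_comm,
      smul_zsmul_comm, hq11, ← hu₁d, smul_neg, neg_add_rev, neg_neg, neg_smul]
  have hnorm : α * α + β * β = -1 := by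
    have h : q₂ • q₂ • u₀ = -u₀ := by rw [← mul_smul, h22, zeta_neg F D]
    rw [hab, smul_add, smul_zsmul_comm, smul_zsmul_comm, hab, hq21, smul_add, smul_add, smul_smul,
      smul_smul, smul_smul, smul_smul, mul_neg, neg_smul, mul_comm β α] at h
    have h' : ((α * α + β * β) + 1) • u₀ = 0 := by
      rw [add_smul, add_smul, one_smul]
      linear_combination (norm := abel) h
    exact add_eq_zero_iff_eq_neg.1 ((smul_eq_zero.1 h').resolve_right h00)
  -- the blocks
  have hJ : ∀ f, q₁ • ψ f = ψ (mJ f) := fun f => by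
    simp only [ψ, mJ, if_true, one_ne_zero, if_false, smul_add, smul_zsmul_comm, hq11, ← hu₁d, smul_neg, neg_smul]
    abel
  have hB : ∀ f, q₂ • ψ f = ψ (mB α β f) := fun f => by
    simp only [ψ, mB, if_true, one_ne_zero, if_false, smul_add, smul_zsmul_comm, hab, hq21, smul_smul]
    simp only [mul_neg, neg_smul, add_smul, sub_smul, mul_comm α, mul_comm β]
    abel
  have hJn : ∀ (i : Fin 2) f, (q₁ ^ (i : ℕ)) • ψ f = ψ (mJ^[(i : ℕ)] f) := fun i f => by
    fin_cases i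
    · exact (congrArg (· • ψ f) (pow_zero q₁)).trans (one_smul A _)
    · exact (congrArg (· • ψ f) (pow_one q₁)).trans (hJ f)
  have hBn : ∀ (j : Fin 2) f, (q₂ ^ (j : ℕ)) • ψ f = ψ ((mB α β)^[(j : ℕ)] f) := fun j f => by
    fin_cases j
    · exact (congrArg (· • ψ f) (pow_zero q₂)).trans (one_smul A _)
    · exact (congrArg (· • ψ f) (pow_one q₂)).trans (hB f)
  have hN : ∀ (x : ZMod 2) f, D.sc x • ψ f = ψ (mNeg^[x.val] f) := fun x f => by
    rw [sc_neg F D (p := 3)]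
    rcases zmod_two_cases x with rfl | rfl
    · simp [ψ]
    · simp only [ψ, ZMod.val_one, pow_one, Function.iterate_one, mNeg, smul_add, neg_smul, one_smul]
  have hkact : ∀ (x : ZMod 2) (i j : Fin 2) f, (D.sc x * (q₁ ^ (i : ℕ) * q₂ ^ (j : ℕ))) • ψ f =
      ψ (mNeg^[x.val] (mJ^[(i : ℕ)] ((mB α β)^[(j : ℕ)] f))) := fun x i j f => by
    rw [mul_smul, mul_smul, hBn, hJn, hN]
  -- the coordinates
  let sl : ((Fin 3 → ZMod 2) → ZMod 3) → (Fin 2 → ZMod 2) → ZMod 2 → ZMod 3 :=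
    fun x a a₀ => x (Fin.cons a₀ a)
  let f : ((Fin 3 → ZMod 2) → ZMod 3) →+ V :=
    AddMonoidHom.mk' (fun x => ∑ a, D.Y a • ψ (sl x a)) fun x y => by
      rw [← Finset.sum_add_distrib]
      refine Finset.sum_congr rfl fun a _ => ?_
      rw [← smul_add]
      congr 1
      simp only [ψ, sl, Pi.add_apply, add_smul]
      abel
  have hinj : Function.Injective f := fun x y h => funext fun a => by
    have := congrFun (hψinj (D.uniq F (fun a => hψW (sl x a)) (fun a => hψW (sl y a)) h (Fin.tail a))) (a 0)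
    simpa [sl, Fin.cons_self_tail] using this
  have hsurj : Function.Surjective f := fun v => by
    obtain ⟨z, hz, rfl⟩ := D.exists_decomp F v
    choose n n' hn using fun a => hW _ (hz a)
    refine ⟨fun a => if a 0 = 0 then (n (Fin.tail a) : ZMod 3) else (n' (Fin.tail a) : ZMod 3), ?_⟩
    show ∑ a, D.Y a • ψ (sl (fun a : Fin 3 → ZMod 2 =>
      if a 0 = 0 then (n (Fin.tail a) : ZMod 3) else (n' (Fin.tail a) : ZMod 3)) a) = _
    refine Finset.sum_congr rfl fun a _ => ?_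
    simp only [ψ, sl, Fin.cons_zero, Fin.tail_cons, if_true, one_ne_zero, if_false, Nat.cast_smul_eq_nsmul]
    rw [hu₁d, hn]
  let φ := AddEquiv.ofBijective f ⟨hinj, hsurj⟩
  have hmain : ∀ (k : A) (j' : Fin 2) (s : ZMod 3) (i' : ZMod 2) (b c : Fin 2 → ZMod 2), k ∈ D.K →
      (∀ h : ZMod 2 → ZMod 3, k • ψ h = ψ (mT j' s i' h)) →
      ∀ x, (k * (D.X b * D.Y c)) • φ x = φ (tQ j' (tMon s (Fin.cons i' b) (Fin.cons i' c) x)) := by
    intro k j' s i' b c hk hkk x
    show (k * (D.X b * D.Y c)) • (∑ a, D.Y a • ψ (sl x a)) = ∑ a, D.Y a • ψ (sl _ a)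
    rw [act_coords F D (p := 3) hk b c fun a => hψW (sl x a)]
    refine Finset.sum_congr rfl fun a _ => congrArg (D.Y a • ·) ?_
    rw [hkk]
    simp only [ψ, smul_add, smul_smul]
    have key : ∀ a₀ : ZMod 2, sl (tQ j' (tMon s (Fin.cons i' b) (Fin.cons i' c) x)) a a₀ =
        (-1) ^ (dot b a).val * mT j' s i' (sl x (a + c)) a₀ := by
      intro a₀
      have hsum : ∀ v : ZMod 2, (∑ i, (Fin.cons i' b : Fin 3 → ZMod 2) i * (Fin.cons v a : Fin 3 → ZMod 2) i)
          = i' * v + dot b a := fun v => by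
        rw [Fin.sum_univ_succ]; simp [dot]
      have hadd : ∀ v : ZMod 2, (Fin.cons v a : Fin 3 → ZMod 2) + Fin.cons i' c = Fin.cons (v + i') (a + c) :=
        fun v => by funext i; refine Fin.cases ?_ (fun i => ?_) i <;> simp
      have hpow := neg_one_pow_add
      fin_cases j'
      · simp only [sl, tQ, tMon, mT, hsum, hadd, hpow, if_true, Fin.zero_eta]
        ring
      · simp only [sl, tQ, tMon, mT, Fin.mk_one, one_ne_zero, if_false, Fin.update_cons_zero, Fin.cons_zero,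
          hsum, hadd, hpow, mul_zero, mul_one, zero_add]
        ring
    rw [key, key]
  have hrep : ∀ e ∈ D.E, ∃ s j b c, b 0 = c 0 ∧ ∀ x, e • φ x = φ (tQ j (tMon s b c x)) := by
    intro e he
    obtain ⟨k, hk, b, c, rfl⟩ := gen_XY D he
    obtain ⟨x, i, j, hkx⟩ := hgenK k hk
    obtain ⟨j', s, i', h⟩ := block_rep α β hnorm x i j
    exact ⟨s, j', Fin.cons i' b, Fin.cons i' c, by simp, hmain k j' s i' b c hk fun f => by
      rw [hkx, hkact, funext (h f)]⟩
  have hone : ∀ (j' : Fin 2) (b c : Fin 3 → ZMod 2), b 0 = c 0 →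
      ∃ e ∈ D.E, ∀ x, e • φ x = φ (tQ j' (tMon 1 b c x)) := by
    intro j' b c hbc
    obtain ⟨x, i, j, h⟩ := block_real α β hnorm j' (b 0)
    have hk : D.sc x * (q₁ ^ (i : ℕ) * q₂ ^ (j : ℕ)) ∈ D.K :=
      mul_mem (D.le (D.sc_mem x)) (mul_mem (pow_mem hq₁ _) (pow_mem hq₂ _))
    refine ⟨_, mul_mem (D.leE hk) (mul_mem (D.memX (Fin.tail b)) (D.memY (Fin.tail c))), fun y => ?_⟩
    have := hmain _ j' 1 (b 0) (Fin.tail b) (Fin.tail c) hk (fun f => by rw [hkact, funext (h f)]) y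
    rwa [Fin.cons_self_tail, show (Fin.cons (b 0) (Fin.tail c) : Fin 3 → ZMod 2) = c by
      rw [hbc, Fin.cons_self_tail]] at this
  refine base_of_coords φ hA hp F.faithful fun {act} hφ hsol hpA hfaith => @hsmall A _ _ act hsol hpA hfaith ?_
  intro g j b c hbc
  obtain ⟨e, he, he'⟩ := hone j b c hbc
  obtain ⟨s, j', b', c', hbc', hs⟩ := hrep _ (D.normal.conj_mem _ he g)
  refine ⟨s, j', b', c', hbc', fun x => φ.injective ?_⟩
  rw [hφ, ← he', ← hs, hφ, mul_smul (g * e), inv_smul_smul, ← mul_smul]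

end minus

end CfsgLib.BaseCop
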