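import Cfsg.Agent.Lib.Coprime.Sylow
import Cfsg.Agent.Lib.Transfer.ClassTwo
import Cfsg.Agent.Lib.Fusion.Marks
import Cfsg.Agent.Lib.BaseTwo.Main

/-!
Coprime action on an arbitrary finite group: reduction of bases of size two to modules.
A finite group `K` with a coprime action of a solvable group has the same marks as a product of
elementary abelian modules, so is isomorphic to it as a set with action.
-/

set_option autoImplicit false
set_option linter.unusedSectionVars false
set_option linter.style.haveILetI false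

namespace CfsgLib.BaseCop.Marks

open Subgroup

universe u v

/-- Bases of size two for coprime solvable linear groups in odd characteristic. -/
def ModBase : Prop :=
  ∀ (p : ℕ), p.Prime → p ≠ 2 → ∀ (W G : Type u) [AddCommGroup W] [Finite W] [Group G] [Finite G]
    [DistribMulAction G W] [FaithfulSMul G W], Group.IsSolvable G → (∀ w : W, p • w = 0) →
      ¬ p ∣ Nat.card G → ∃ x y : W, ∀ g : G, g • x = x → g • y = y → g = 1

/-- Maschke's theorem for subgroups of exponent `p`. -/
theorem crOn_of_coprime {G W : Type*} [Group G] [Finite G] [AddCommGroup W] [DistribMulAction G W]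
    {p : ℕ} [hp : Fact p.Prime] (hW : ∀ w : W, p • w = 0) (hG : ¬ p ∣ Nat.card G) :
    CfsgLib.BaseTwo.CROn (⊤ : Subgroup G) (⊤ : AddSubgroup W) := by
  classical
  haveI := Fintype.ofFinite G
  letI : Module (ZMod p) W := AddCommGroup.zmodModule hW
  intro U _ hU
  obtain ⟨C, hC⟩ := Submodule.exists_isCompl (AddSubgroup.toZModSubmodule p U)
  let π : W →+ W := (Submodule.projection (AddSubgroup.toZModSubmodule p U) C hC).toAddMonoidHom
  have hπ1 : ∀ u ∈ U, π u = u := fun u hu => Submodule.projection_apply_left hC ⟨u, hu⟩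
  have hπ2 : ∀ u, π u ∈ U := fun u => Submodule.projection_apply_mem hC u
  let m : ℕ := ((Nat.card G : ZMod p)⁻¹).val
  have hm : ∀ w : W, m • Nat.card G • w = w := fun w => by
    rw [← mul_smul, ← Nat.cast_smul_eq_nsmul (ZMod p), Nat.cast_mul, ZMod.natCast_zmod_val,
      inv_mul_cancel₀, one_smul]
    rwa [ne_eq, CharP.cast_eq_zero_iff (ZMod p) p]
  let f : W → W := fun w => m • ∑ g : G, g • π (g⁻¹ • w)
  have hfU : ∀ w, f w ∈ U := fun w =>
    AddSubgroup.nsmul_mem _ (AddSubgroup.sum_mem _ fun g _ => hU g trivial _ (hπ2 _)) m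
  have hfid : ∀ w ∈ U, f w = w := fun w hw => by
    have : ∀ g : G, g • π (g⁻¹ • w) = w := fun g => by
      rw [hπ1 _ (hU g⁻¹ trivial w hw), smul_inv_smul]
    show m • ∑ g : G, g • π (g⁻¹ • w) = w
    rw [Finset.sum_congr rfl fun g _ => this g, Finset.sum_const, Finset.card_univ,
      ← Nat.card_eq_fintype_card, hm]
  have hfadd : ∀ a b, f (a + b) = f a + f b := fun a b => by
    simp only [f, smul_add, map_add, Finset.sum_add_distrib]
  have hfeq : ∀ (h : G) w, f (h • w) = h • f w := fun h w => by
    show m • ∑ g : G, g • π (g⁻¹ • h • w) = h • (m • ∑ g : G, g • π (g⁻¹ • w))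
    rw [show ∀ z : W, h • (m • z) = m • (h • z) from
      fun z => (DistribSMul.toAddMonoidHom W h).map_nsmul m z]
    congr 1
    rw [Finset.smul_sum]
    refine (Fintype.sum_equiv (Equiv.mulLeft h) (fun g => h • g • π (g⁻¹ • w))
      (fun g => g • π (g⁻¹ • h • w)) fun g => ?_).symm
    simp only [Equiv.coe_mulLeft, mul_smul, mul_inv_rev, inv_smul_smul]
  let F : W →+ W := AddMonoidHom.mk' f hfadd
  refine ⟨F.ker, le_top, fun h _ w hw => ?_, ?_, ?_⟩
  · show f (h • w) = 0
    rw [hfeq, show f w = 0 from hw, smul_zero]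
  · refine (AddSubgroup.eq_bot_iff_forall _).2 fun w hw => ?_
    rw [← hfid w hw.1]
    exact hw.2
  · refine eq_top_iff.2 fun w _ => AddSubgroup.mem_sup.2 ⟨f w, hfU w, w - f w, ?_, add_sub_cancel _ _⟩
    show F (w - f w) = 0
    rw [map_sub]
    show f w - f (f w) = 0
    rw [hfid _ (hfU w), sub_self]

section Fix

variable {A : Type v} [Group A] {K : Type u} [Group K] [MulDistribMulAction A K]

/-- The fixed points of a subgroup of the acting group. -/
def fix (B : Subgroup A) : Subgroup K where
  carrier := {x | ∀ b ∈ B, b • x = x}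
  mul_mem' hx hy b hb := by rw [smul_mul', hx b hb, hy b hb]
  one_mem' b _ := smul_one b
  inv_mem' hx b hb := by rw [smul_inv', hx b hb]

theorem mem_fix {B : Subgroup A} {x : K} : x ∈ fix B ↔ ∀ b ∈ B, b • x = x := Iff.rfl

/-- The ambient semidirect product. -/
abbrev Amb (A : Type v) (K : Type u) [Group A] [Group K] [MulDistribMulAction A K] : Type (max u v) :=
  K ⋊[MulDistribMulAction.toMulAut A K] A

/-- The copy of `K`. -/
abbrev inK : K →* Amb A K := SemidirectProduct.inl

/-- The copy of `A`. -/
abbrev inA : A →* Amb A K := SemidirectProduct.inr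

theorem conj_inK (a : A) (x : K) : (inA a : Amb A K) * inK x * (inA a)⁻¹ = inK (a • x) := by
  rw [← map_inv]
  exact (SemidirectProduct.inl_aut a x).symm

theorem inK_injective : Function.Injective (inK : K →* Amb A K) := SemidirectProduct.inl_injective

theorem normalizes {B : Subgroup A} {M : Subgroup K} (hM : ∀ b ∈ B, ∀ x ∈ M, b • x ∈ M) :
    (B.map inA : Subgroup (Amb A K)) ≤ normalizer ((M.map inK : Subgroup (Amb A K)) : Set (Amb A K)) := by
  rintro _ ⟨b, hb, rfl⟩
  rw [mem_normalizer_iff]
  intro y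
  constructor
  · rintro ⟨m, hm, rfl⟩
    exact ⟨b • m, hM b hb m hm, (conj_inK b m).symm⟩
  · rintro ⟨m, hm, e⟩
    refine ⟨b⁻¹ • m, hM b⁻¹ (inv_mem hb) m hm, ?_⟩
    rw [← conj_inK, e, map_inv]
    group

theorem mem_centralizer_iff_fix {B : Subgroup A} {x : K} :
    (inK x : Amb A K) ∈ centralizer ((B.map inA : Subgroup (Amb A K)) : Set (Amb A K)) ↔ x ∈ fix B := by
  rw [mem_centralizer_iff]
  constructor
  · intro h b hb
    refine inK_injective (A := A) ?_
    rw [← conj_inK, h _ ⟨b, hb, rfl⟩, mul_inv_cancel_right]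
  · rintro h _ ⟨b, hb, rfl⟩
    calc (inA b : Amb A K) * inK x = inA b * inK x * (inA b)⁻¹ * inA b := by group
      _ = inK x * inA b := by rw [conj_inK, h b hb]

variable [Finite A] [Finite K]

instance : Finite (Amb A K) := Finite.of_equiv _ SemidirectProduct.equivProd.symm

theorem coprime_amb (hcop : (Nat.card A).Coprime (Nat.card K)) (B : Subgroup A) (M : Subgroup K) :
    (Nat.card (B.map inA : Subgroup (Amb A K))).Coprime (Nat.card (M.map inK : Subgroup (Amb A K))) := by
  rw [card_map_of_injective SemidirectProduct.inr_injective, card_map_of_injective inK_injective]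
  exact (hcop.coprime_dvd_left B.card_subgroup_dvd_card).coprime_dvd_right M.card_subgroup_dvd_card

theorem solvable_map (hA : Group.IsSolvable A) (B : Subgroup A) :
    Group.IsSolvable (B.map inA : Subgroup (Amb A K)) := by
  haveI := hA
  exact Group.isSolvable_of_surjective (inA.subgroupMap_surjective B)

/-- Fixed cosets contain fixed points. -/
theorem exists_fix_in_coset (hA : Group.IsSolvable A) (hcop : (Nat.card A).Coprime (Nat.card K))
    (B : Subgroup A) (M : Subgroup K) (hM : ∀ b ∈ B, ∀ x ∈ M, b • x ∈ M) (x : K)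
    (hx : ∀ b ∈ B, x⁻¹ * (b • x) ∈ M) : ∃ m ∈ M, x * m ∈ fix B := by
  obtain ⟨_, ⟨m, hm, rfl⟩, h⟩ := Coprime.exists_mem_centralizer_of_coset
    (normalizes (B := B) (M := (⊤ : Subgroup K)) fun _ _ _ _ => trivial) (normalizes hM)
    (map_mono le_top) (coprime_amb hcop B ⊤) (Or.inl (solvable_map hA B))
    (g := inK x) ⟨x, trivial, rfl⟩ (by
      rintro _ ⟨b, hb, rfl⟩
      refine ⟨x⁻¹ * (b • x), hx b hb, ?_⟩
      rw [map_mul, map_inv, ← conj_inK]
      group)
  rw [← map_mul] at h
  exact ⟨m, hm, mem_centralizer_iff_fix.1 h⟩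

/-- An invariant Sylow subgroup. -/
theorem exists_invariant (hA : Group.IsSolvable A) (hcop : (Nat.card A).Coprime (Nat.card K))
    (p : ℕ) [Fact p.Prime] : ∃ P : Subgroup K,
      Nat.card P = p ^ (Nat.card K).factorization p ∧ ∀ (a : A), ∀ x ∈ P, a • x ∈ P := by
  obtain ⟨S, hS⟩ := Coprime.exists_invariant_sylow
    (normalizes (B := (⊤ : Subgroup A)) (M := (⊤ : Subgroup K)) fun _ _ _ _ => trivial)
    (coprime_amb hcop ⊤ ⊤) (Or.inl (solvable_map hA ⊤)) p
  let T : Subgroup (Amb A K) := (S : Subgroup ((⊤ : Subgroup K).map inK : Subgroup (Amb A K))).map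
    (Subgroup.subtype _)
  have hT : T ≤ (inK : K →* Amb A K).range := (map_subtype_le _).trans (map_le_range _ _)
  refine ⟨T.comap inK, ?_, fun a x hx => ?_⟩
  · rw [← card_map_of_injective (f := (inK : K →* Amb A K)) inK_injective, map_comap_eq_self hT,
      card_map_of_injective (subtype_injective _), S.card_eq_multiplicity,
      card_map_of_injective inK_injective, card_top]
  · show inK (a • x) ∈ T
    rw [← conj_inK]
    exact (mem_normalizer_iff.1 (hS ⟨a, trivial, rfl⟩) (inK x)).1 hx

/-- The fixed points on an invariant Sylow subgroup form a Sylow subgroup of all fixed points. -/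
theorem card_inf_fix (hA : Group.IsSolvable A) (hcop : (Nat.card A).Coprime (Nat.card K))
    {p : ℕ} [hp : Fact p.Prime] (P : Subgroup K) (hP : Nat.card P = p ^ (Nat.card K).factorization p)
    (hPA : ∀ (a : A), ∀ x ∈ P, a • x ∈ P) (B : Subgroup A) :
    Nat.card (P ⊓ fix B : Subgroup K) = p ^ (Nat.card (fix B : Subgroup K)).factorization p := by
  let G : Subgroup (Amb A K) := (⊤ : Subgroup K).map inK
  have hBG := normalizes (K := K) (B := B) (M := (⊤ : Subgroup K)) fun _ _ _ _ => trivial
  have hc := coprime_amb hcop B (⊤ : Subgroup K)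
  have hs := solvable_map (K := K) hA B
  obtain ⟨S⟩ : Nonempty (Sylow p (fix B : Subgroup K)) := inferInstance
  let S₀ : Subgroup K := (S : Subgroup (fix B : Subgroup K)).map (Subgroup.subtype _)
  have hS₀ : S₀ ≤ fix B := map_subtype_le _
  obtain ⟨Q, hUQ, hQ⟩ := Coprime.exists_invariant_sylow_ge hBG hc (Or.inl hs)
    (U := S₀.map inK) ((S.isPGroup'.map _).map _) (map_mono le_top)
    (normalizes fun b hb x hx => by rwa [hS₀ hx b hb])
  have hPle : P.map inK ≤ G := map_mono le_top
  let P' : Sylow p G := Sylow.ofCard ((P.map inK).subgroupOf G) (by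
    rw [Coprime.card_subgroupOf hPle, card_map_of_injective inK_injective, hP,
      card_map_of_injective inK_injective, card_top])
  have hP' : ((P' : Subgroup G).map G.subtype : Subgroup (Amb A K)) = P.map inK := by
    rw [Sylow.coe_ofCard, subgroupOf_map_subtype, inf_eq_left.2 hPle]
  obtain ⟨_, ⟨⟨c, -, rfl⟩, hc1⟩, hc2⟩ := Coprime.exists_conj_invariant_sylow hBG hc (Or.inl hs) Q P' hQ
    (by rw [hP']; exact normalizes fun b _ x hx => hPA b x hx)
  rw [hP'] at hc2
  have hcf : c ∈ fix B := mem_centralizer_iff_fix.1 hc1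
  have hle : S₀.map (MulAut.conj c).toMonoidHom ≤ P ⊓ fix B := by
    rintro _ ⟨s, hs', rfl⟩
    refine ⟨?_, (fix B).mul_mem ((fix B).mul_mem hcf (hS₀ hs')) ((fix B).inv_mem hcf)⟩
    have h : (inK c : Amb A K) * inK s * (inK c)⁻¹ ∈ P.map inK :=
      hc2.le ⟨inK s, hUQ ⟨s, hs', rfl⟩, rfl⟩
    rw [← map_mul, ← map_inv, ← map_mul] at h
    exact (mem_map_iff_mem inK_injective).1 h
  have h1 : p ^ (Nat.card (fix B : Subgroup K)).factorization p ∣ Nat.card (P ⊓ fix B : Subgroup K) := by
    have h := card_dvd_of_le hle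
    rwa [Coprime.card_map_conj, card_map_of_injective (subtype_injective _),
      S.card_eq_multiplicity] at h
  obtain ⟨k, -, hk⟩ := (Nat.dvd_prime_pow hp.out).1 (hP ▸ card_dvd_of_le (inf_le_left : P ⊓ fix B ≤ P))
  refine Nat.dvd_antisymm ?_ h1
  rw [hk]
  refine pow_dvd_pow p ((hp.out.pow_dvd_iff_le_factorization Nat.card_pos.ne').1 ?_)
  rw [← hk]
  exact card_dvd_of_le inf_le_right

end Fix

/-- A `p`-group with coprime action has the marks of an elementary abelian module. -/
theorem exists_module {A : Type v} [Group A] [Finite A] (hA : Group.IsSolvable A) (p : ℕ)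
    [hp : Fact p.Prime] : ∀ (n : ℕ) (K : Type u) [Group K] [Finite K] [MulDistribMulAction A K],
      Nat.card K ≤ n → IsPGroup p K → (Nat.card A).Coprime (Nat.card K) →
      ∃ (V : Type u) (_ : AddCommGroup V) (_ : Finite V) (_ : DistribMulAction A V),
        (∀ v : V, p • v = 0) ∧ ∀ B : Subgroup A,
          Nat.card {v : V // ∀ b ∈ B, b • v = v} = Nat.card (fix B : Subgroup K) := by
  intro n
  induction n with
  | zero =>
    intro K _ _ _ hn
    exact absurd hn (by have := Nat.card_pos (α := K); omega)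
  | succ n ih =>
  intro K _ _ _ hn hK hcop
  rcases subsingleton_or_nontrivial K with h | h
  · letI : DistribMulAction A PUnit.{u+1} :=
      { smul := fun _ x => x
        one_smul := fun _ => rfl
        mul_smul := fun _ _ _ => rfl
        smul_zero := fun _ => rfl
        smul_add := fun _ _ _ => rfl }
    refine ⟨PUnit.{u+1}, inferInstance, inferInstance, inferInstance, fun _ => rfl, fun B => ?_⟩
    haveI : Nonempty {v : PUnit.{u+1} // ∀ b ∈ B, b • v = v} := ⟨⟨PUnit.unit, fun _ _ => rfl⟩⟩
    rw [Nat.card_of_subsingleton (Classical.arbitrary _), Nat.card_of_subsingleton (1 : (fix B : Subgroup K))]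
  let M : Subgroup K := frattini K
  have hMlt : M ≠ ⊤ := by
    obtain ⟨C, hC, -⟩ := (IsCoatomic.eq_top_or_exists_le_coatom (⊥ : Subgroup K)).resolve_left bot_ne_top
    exact fun e => hC.1 (top_le_iff.1 (e ▸ frattini_le_coatom hC))
  have hMA : ∀ (a : A), ∀ x ∈ M, a • x ∈ M := fun a x hx =>
    (characteristic_iff_le_comap.1 (frattini_characteristic (G := K))
      (MulDistribMulAction.toMulAut A K a)) hx
  haveI : M.Normal := normal_of_characteristic _
  letI actM : MulDistribMulAction A M :=
    { smul := fun a x => ⟨a • (x : K), hMA a x x.2⟩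
      one_smul := fun x => Subtype.ext (one_smul A (x : K))
      mul_smul := fun a b x => Subtype.ext (mul_smul a b (x : K))
      smul_one := fun a => Subtype.ext (smul_one a)
      smul_mul := fun a x y => Subtype.ext (smul_mul' a (x : K) (y : K)) }
  obtain ⟨V', i1, i2, i3, hV'p, hV'⟩ := ih M
    (Nat.lt_succ_iff.1 (lt_of_lt_of_le (CfsgLib.Solvable.card_subgroup_lt hMlt) hn))
    (hK.to_subgroup M) (hcop.coprime_dvd_right M.card_subgroup_dvd_card)
  letI : CommGroup (K ⧸ M) :=
    { (inferInstance : Group (K ⧸ M)) with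
      mul_comm := fun a b => by
        obtain ⟨x, rfl⟩ := QuotientGroup.mk'_surjective M a
        obtain ⟨y, rfl⟩ := QuotientGroup.mk'_surjective M b
        rw [← commutatorElement_eq_one_iff_mul_comm, ← map_commutatorElement]
        exact (QuotientGroup.eq_one_iff _).2
          (CfsgLib.Transfer.commutatorElement_mem_frattini hK x y) }
  let q : A → (K ⧸ M) →* (K ⧸ M) := fun a =>
    QuotientGroup.map M M (MulDistribMulAction.toMonoidHom K a) (fun x hx => hMA a x hx)
  have hq : ∀ a (x : K), q a (x : K ⧸ M) = ((a • x : K) : K ⧸ M) := fun a x => rfl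
  letI actQ : DistribMulAction A (Additive (K ⧸ M)) :=
    { smul := fun a x => Additive.ofMul (q a x.toMul)
      one_smul := fun x => by
        obtain ⟨y, hy⟩ := QuotientGroup.mk'_surjective M x.toMul
        refine Additive.toMul.injective ?_
        show q 1 x.toMul = x.toMul
        rw [← hy]
        show q 1 (y : K ⧸ M) = (y : K ⧸ M)
        rw [hq, one_smul]
      mul_smul := fun a b x => by
        obtain ⟨y, hy⟩ := QuotientGroup.mk'_surjective M x.toMul
        refine Additive.toMul.injective ?_
        show q (a * b) x.toMul = q a (q b x.toMul)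
        rw [← hy]
        show q (a * b) (y : K ⧸ M) = q a (q b (y : K ⧸ M))
        rw [hq, hq, hq, mul_smul]
      smul_zero := fun a => congrArg Additive.ofMul (map_one (q a))
      smul_add := fun a x y => congrArg Additive.ofMul (map_mul (q a) x.toMul y.toMul) }
  refine ⟨Additive (K ⧸ M) × V', inferInstance, inferInstance, inferInstance, fun v => ?_, fun B => ?_⟩
  · refine Prod.ext ?_ (hV'p v.2)
    obtain ⟨y, hy⟩ := QuotientGroup.mk'_surjective M v.1.toMul
    show Additive.ofMul (v.1.toMul ^ p) = 0
    rw [← hy, ← map_pow]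
    exact congrArg Additive.ofMul ((QuotientGroup.eq_one_iff _).2
      (CfsgLib.Transfer.pow_mem_frattini hK y))
  let π : (fix B : Subgroup K) →* K ⧸ M := (QuotientGroup.mk' M).comp (fix B : Subgroup K).subtype
  have hrange : ∀ x : K ⧸ M, x ∈ π.range ↔ ∀ b ∈ B, q b x = x := by
    intro x
    constructor
    · rintro ⟨y, rfl⟩ b hb
      show q b ((y : K) : K ⧸ M) = ((y : K) : K ⧸ M)
      rw [hq, y.2 b hb]
    · intro h
      obtain ⟨y, rfl⟩ := QuotientGroup.mk'_surjective M x
      obtain ⟨m, hm, hym⟩ := exists_fix_in_coset hA hcop B M (fun b _ => hMA b) y fun b hb =>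
        QuotientGroup.eq.1 ((hq b y).symm.trans (h b hb)).symm
      exact ⟨⟨y * m, hym⟩, (QuotientGroup.eq.2 (by simpa using inv_mem hm))⟩
  let e1 : {v : Additive (K ⧸ M) × V' // ∀ b ∈ B, b • v = v} ≃ π.range × {v : V' // ∀ b ∈ B, b • v = v} :=
    { toFun := fun v => (⟨v.1.1.toMul, (hrange _).2 fun b hb =>
          congrArg (fun w => Additive.toMul w.1) (v.2 b hb)⟩, ⟨v.1.2, fun b hb => congrArg Prod.snd (v.2 b hb)⟩)
      invFun := fun w => ⟨(Additive.ofMul (w.1 : K ⧸ M), (w.2 : V')), fun b hb =>
          Prod.ext (congrArg Additive.ofMul ((hrange _).1 w.1.2 b hb)) (w.2.2 b hb)⟩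
      left_inv := fun v => rfl
      right_inv := fun w => rfl }
  let e2 : π.ker ≃ (fix B : Subgroup M) :=
    { toFun := fun y => ⟨⟨(y : K), (QuotientGroup.eq_one_iff _).1 y.2⟩, fun b hb => Subtype.ext (y.1.2 b hb)⟩
      invFun := fun m => ⟨⟨((m : M) : K), fun b hb => congrArg Subtype.val (m.2 b hb)⟩,
        (QuotientGroup.eq_one_iff _).2 (m : M).2⟩
      left_inv := fun y => rfl
      right_inv := fun m => rfl }
  rw [Nat.card_congr e1, Nat.card_prod, hV', ← Nat.card_congr e2,
    ← Nat.card_congr (QuotientGroup.quotientKerEquivRange π).toEquiv,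
    ← card_eq_card_quotient_mul_card_subgroup]

/-- A base of size two for the group induced on a module of exponent `p`. -/
theorem exists_base_of_module (hbase : ModBase.{u}) {A : Type v} [Group A] [Finite A]
    (hA : Group.IsSolvable A) {W : Type u} [AddCommGroup W] [Finite W] [DistribMulAction A W]
    {p : ℕ} [hp : Fact p.Prime] (hW : ∀ w : W, p • w = 0) (hpA : ¬ p ∣ Nat.card A) :
    ∃ x y : W, ∀ a : A, a • x = x → a • y = y → ∀ w : W, a • w = w := by
  let φ := MulAction.toPermHom A W
  let A' := φ.range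
  letI : DistribMulAction A' W :=
    { smul := fun g x => (g : Equiv.Perm W) x
      one_smul := fun x => rfl
      mul_smul := fun g h x => rfl
      smul_zero := fun g => by obtain ⟨_, a, rfl⟩ := g; exact smul_zero a
      smul_add := fun g x y => by obtain ⟨_, a, rfl⟩ := g; exact smul_add a x y }
  haveI : FaithfulSMul A' W := ⟨fun h => Subtype.ext (Equiv.ext h)⟩
  haveI := hA
  have hsol : Group.IsSolvable A' := Group.isSolvable_of_surjective φ.rangeRestrict_surjective
  have hpA' : ¬ p ∣ Nat.card A' := fun h => hpA (h.trans (card_range_dvd φ))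
  obtain ⟨x, y, h⟩ : ∃ x y : W, ∀ g : A', g • x = x → g • y = y → g = 1 := by
    rcases eq_or_ne p 2 with rfl | h2
    · exact CfsgLib.BaseTwo.exists_base
        (Nat.not_even_iff_odd.1 fun he => hpA' (even_iff_two_dvd.1 he)) (crOn_of_coprime hW hpA')
    · exact hbase p hp.out h2 W A' hsol hW hpA'
  refine ⟨x, y, fun a hx hy w => ?_⟩
  have h' := h ⟨φ a, a, rfl⟩ hx hy
  exact congrArg (fun g : A' => g • w) h'

/-- The theorem of Halasi and Podoski from its linear case. -/
theorem exists_two_points (hbase : ModBase.{u}) {A : Type v} [Group A] [Finite A] {K : Type u}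
    [Group K] [Finite K] [MulDistribMulAction A K] [FaithfulSMul A K] (hA : Group.IsSolvable A)
    (hcop : (Nat.card A).Coprime (Nat.card K)) :
    ∃ x y : K, ∀ a : A, a • x = x → a • y = y → a = 1 := by
  classical
  let ι := {p : ℕ // p ∈ (Nat.card K).primeFactors}
  haveI : ∀ i : ι, Fact (i : ℕ).Prime := fun i => ⟨Nat.prime_of_mem_primeFactors i.2⟩
  have hV : ∀ i : ι, ∃ (V : Type u) (_ : AddCommGroup V) (_ : Finite V) (_ : DistribMulAction A V),
      (∀ v : V, (i : ℕ) • v = 0) ∧ ∀ B : Subgroup A, Nat.card {v : V // ∀ b ∈ B, b • v = v} =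
        (i : ℕ) ^ (Nat.card (fix B : Subgroup K)).factorization i := by
    intro i
    obtain ⟨P, hP, hPA⟩ := exists_invariant hA hcop (i : ℕ)
    letI : MulDistribMulAction A P :=
      { smul := fun a x => ⟨a • (x : K), hPA a x x.2⟩
        one_smul := fun x => Subtype.ext (one_smul A (x : K))
        mul_smul := fun a b x => Subtype.ext (mul_smul a b (x : K))
        smul_one := fun a => Subtype.ext (smul_one a)
        smul_mul := fun a x y => Subtype.ext (smul_mul' a (x : K) (y : K)) }
    obtain ⟨V, i1, i2, i3, hp, hcard⟩ := exists_module hA (i : ℕ) (Nat.card P) P le_rfl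
      (IsPGroup.of_card hP) (hcop.coprime_dvd_right P.card_subgroup_dvd_card)
    refine ⟨V, i1, i2, i3, hp, fun B => ?_⟩
    rw [hcard, ← card_inf_fix hA hcop P hP hPA B]
    exact Nat.card_congr
      { toFun := fun x => ⟨((x : P) : K), (x : P).2, fun b hb => congrArg Subtype.val (x.2 b hb)⟩
        invFun := fun x => ⟨⟨(x : K), x.2.1⟩, fun b hb => Subtype.ext (x.2.2 b hb)⟩
        left_inv := fun x => rfl
        right_inv := fun x => rfl }
  choose V iV1 iV2 iV3 hexp hmark using hV
  haveI : Fintype ι := Fintype.ofFinite ι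
  obtain ⟨e, he⟩ := CfsgLib.Fusion.exists_equiv_of_marks (G := A) (X := K) (Y := (i : ι) → V i)
    fun H => by
      have hl : Nat.card {x : K // H ≤ MulAction.stabilizer A x} = Nat.card (fix H : Subgroup K) :=
        Nat.card_congr (Equiv.subtypeEquivRight fun x => Iff.rfl)
      have hr : Nat.card {v : (i : ι) → V i // H ≤ MulAction.stabilizer A v} =
          ∏ i : ι, Nat.card {v : V i // ∀ b ∈ H, b • v = v} := by
        rw [← Nat.card_pi]
        exact Nat.card_congr
          { toFun := fun v i => ⟨v.1 i, fun b hb => congrFun (v.2 hb) i⟩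
            invFun := fun w => ⟨fun i => (w i).1, fun b hb => funext fun i => (w i).2 b hb⟩
            left_inv := fun v => rfl
            right_inv := fun w => rfl }
      rw [hl, hr, Finset.prod_congr rfl fun i _ => hmark i H]
      let c := Nat.card (fix H : Subgroup K)
      rw [show (∏ i : ι, (i : ℕ) ^ c.factorization i) =
        ∏ p ∈ (Nat.card K).primeFactors, p ^ c.factorization p from
          (Finset.prod_subtype _ (fun _ => Iff.rfl) fun p => p ^ c.factorization p).symm]
      rw [← Finset.prod_subset (Nat.primeFactors_mono (fix H : Subgroup K).card_subgroup_dvd_card (Nat.card_pos (α := K)).ne')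
        fun p _ hp => by rw [Finsupp.notMem_support_iff.1 (by rwa [Nat.support_factorization]), pow_zero]]
      exact Nat.prod_primeFactors_pow_factorization (Nat.card_pos (α := (fix H : Subgroup K))).ne'
  choose x y hxy using fun i : ι => exists_base_of_module hbase hA (W := V i) (hexp i)
    fun h => (Fact.out : (i : ℕ).Prime).ne_one (Nat.eq_one_of_dvd_coprimes hcop h
      (Nat.dvd_of_mem_primeFactors i.2))
  refine ⟨e.symm x, e.symm y, fun a hx hy => eq_of_smul_eq_smul (α := K) fun k => ?_⟩
  have hx' : a • x = x := by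
    have := congrArg e hx
    rwa [he, e.apply_symm_apply] at this
  have hy' : a • y = y := by
    have := congrArg e hy
    rwa [he, e.apply_symm_apply] at this
  rw [one_smul]
  refine e.injective ?_
  rw [he]
  exact funext fun i => hxy i a (congrFun hx' i) (congrFun hy' i) (e k i)

end CfsgLib.BaseCop.Marks
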