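import Cfsg.Agent.Lib.BaseCop.Main
import Cfsg.Agent.Lib.BaseCop.Marks

/-!
Consequences of bases of size two: modules and representations.
-/

set_option autoImplicit false
set_option linter.unusedSectionVars false
set_option linter.style.haveILetI false

namespace CfsgLib.BaseCop

open CfsgLib.BaseTwo (CROn)

universe u

/-- the module form -/
theorem modBase_of_certs (hC₀ : Certs.{u}) : Marks.ModBase.{u} := by
  intro p hp _ W G _ _ _ _ _ _ hG hexp hpG
  haveI := Fact.mk hp
  have hW : IsPGroup p (Multiplicative W) := fun x => ⟨1, Multiplicative.toAdd.injective (by simpa using hexp x.toAdd)⟩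
  obtain ⟨n, hn⟩ := IsPGroup.iff_card.1 hW
  have hcop : (Nat.card G).Coprime (Nat.card W) := by
    rw [show Nat.card W = p ^ n from hn]
    exact ((hp.coprime_iff_not_dvd).2 hpG).symm.pow_right n
  exact exists_base_coprime hC₀ hG hcop
    (crOn_coprime hexp (fun h => hpG (h.trans (Subgroup.card_subgroup_dvd_card _))) fun _ _ _ _ => trivial)

/-- the form for representations over finite fields -/
theorem exists_base_rep (hC₀ : Certs.{u}) {F : Type*} [Field F] [Fintype F] {V : Type u} [AddCommGroup V]
    [Module F V] [Finite V] {G : Type*} [Group G] [Finite G] (hG : Group.IsSolvable G) (ρ : Representation F G V)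
    (hfaith : Function.Injective ρ) (hcop : (Nat.card G).Coprime (Nat.card V)) :
    ∃ x y : V, ∀ g : G, ρ g x = x → ρ g y = y → g = 1 := by
  by_cases hV : ∀ v : V, v = 0
  · exact ⟨0, 0, fun g _ _ => hfaith (LinearMap.ext fun v => by rw [hV v, map_zero, map_zero])⟩
  push Not at hV
  obtain ⟨v, hv⟩ := hV
  letI : DistribMulAction G V :=
    { smul := fun g x => ρ g x
      one_smul := fun x => show ρ 1 x = x by rw [map_one]; rfl
      mul_smul := fun g h x => show ρ (g * h) x = ρ g (ρ h x) by rw [map_mul]; rfl
      smul_zero := fun g => map_zero (ρ g)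
      smul_add := fun g x y => map_add (ρ g) x y }
  haveI : FaithfulSMul G V := ⟨fun h => hfaith (LinearMap.ext h)⟩
  haveI : Fact (ringChar F).Prime := ⟨CharP.char_is_prime F (ringChar F)⟩
  have hexp : ∀ x : V, ringChar F • x = 0 := fun x => by
    rw [← Nat.cast_smul_eq_nsmul F, CharP.cast_eq_zero, zero_smul]
  have hpG : ¬ ringChar F ∣ Nat.card G := fun h => by
    have hdvd : ringChar F ∣ Nat.card V := by
      rw [← addOrderOf_eq_prime (hexp v) hv]
      exact addOrderOf_dvd_natCard v
    exact (Fact.out : (ringChar F).Prime).ne_one (Nat.dvd_one.1 (hcop ▸ Nat.dvd_gcd h hdvd))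
  exact exists_base_coprime hC₀ hG hcop
    (crOn_coprime hexp (fun h => hpG (h.trans (Subgroup.card_subgroup_dvd_card _))) fun _ _ _ _ => trivial)

end CfsgLib.BaseCop
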