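import Cfsg.Agent.Lib.BaseCop.Marks

/-!
The linear input in the form of representations over prime fields.
-/

set_option autoImplicit false
set_option linter.style.haveILetI false

namespace CfsgLib.BaseCop.Marks

universe u

/-- Representations over prime fields give the linear input. -/
theorem modBase_of_rep
    (h : ∀ (p : ℕ) [Fact p.Prime], p ≠ 2 → ∀ (V : Type u) [AddCommGroup V] [Module (ZMod p) V] [Finite V]
      (G : Type u) [Group G] [Finite G] (ρ : Representation (ZMod p) G V), Group.IsSolvable G →
      Function.Injective ρ → (Nat.card G).Coprime (Nat.card V) →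
        ∃ x y : V, ∀ g : G, ρ g x = x → ρ g y = y → g = 1) :
    ModBase.{u} := by
  intro p hp h2 W G _ _ _ _ _ _ hsol hW hpG
  haveI := Fact.mk hp
  obtain ⟨i⟩ : Nonempty (Module (ZMod p) W) := ⟨AddCommGroup.zmodModule hW⟩
  have hmul : ∀ (a b : G) (w : W), (a * b) • w = a • b • w := fun a b w => mul_smul a b w
  let L : G → (W →ₗ[ZMod p] W) := fun g => (DistribSMul.toAddMonoidHom W g).toZModLinearMap p
  have hL : ∀ g w, L g w = g • w := fun g w => rfl
  let ρ : Representation (ZMod p) G W :=
    { toFun := L
      map_one' := LinearMap.ext fun w => by rw [hL, one_smul]; rfl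
      map_mul' := fun a b => LinearMap.ext fun w => by
        show L (a * b) w = L a (L b w)
        rw [hL, hL, hL, hmul] }
  have hinj : Function.Injective ρ := fun a b hab =>
    eq_of_smul_eq_smul fun w : W => (hL a w).symm.trans ((LinearMap.congr_fun hab w).trans (hL b w))
  refine h p h2 W G ρ hsol hinj (Nat.coprime_of_dvd fun q hq hqG hqW => ?_)
  haveI := Fact.mk hq
  obtain ⟨w, hw⟩ := exists_prime_addOrderOf_dvd_card' (G := W) q hqW
  have hqp : q ∣ p := hw ▸ addOrderOf_dvd_of_nsmul_eq_zero (hW w)
  exact hpG ((Nat.prime_dvd_prime_iff_eq hq hp).1 hqp ▸ hqG)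

end CfsgLib.BaseCop.Marks
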