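import Cfsg.Agent.Lib.BaseThree.Labels
import Cfsg.Agent.Lib.BaseCop.Basic

/-!
Two vectors from monomial coordinates and rigid labels.
-/

set_option autoImplicit false
set_option linter.unusedSectionVars false
set_option linter.style.haveILetI false

namespace CfsgLib.BaseCop

open CfsgLib.BaseTwo (Inv CROn BaseOn endo conjEnd conjEnd_apply scalars endo_mem_scalars conjEnd_mem_scalars
  FieldCase zp zp_mem zp_zero dot dot_comm dot_add dot_add_right dot_single dot_zero eq_of_dot)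
open CfsgLib.BaseThree (Data)

universe u

variable {A V : Type u} [Group A] [Finite A] [AddCommGroup V] [Finite V] [DistribMulAction A V]

variable {U : Subgroup A} {r d : ℕ} [Fact r.Prime]

/-- the elements fixing a vector of `W` leave `W` invariant -/
theorem W_inv (F : FieldCase A V U) (D : Data A V U r d) {u₀ : V} (hu₀ : u₀ ∈ D.W) (h00 : u₀ ≠ 0)
    (h : A) (hh : h • u₀ = u₀) : ∀ x ∈ D.W, h • x ∈ D.W := by
  intro x hx b
  have hinv : h⁻¹ • u₀ = u₀ := inv_smul_eq_iff.2 hh.symm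
  obtain ⟨b', e⟩ := D.eq_mul_X F hu₀ h00 (D.normal.conj_mem _ (D.memX b) h⁻¹) (one_mem D.K) (by
    rw [one_smul, inv_inv, mul_smul, mul_smul, hh, hu₀ b, hinv])
  rw [one_mul, inv_inv] at e
  rw [show D.X b = h * D.X b' * h⁻¹ by rw [← e]; group, ← mul_smul,
    show h * D.X b' * h⁻¹ * h = h * D.X b' by group, mul_smul, hx b']

/-- the multiples of a vector under the scalars -/
def line (U : Subgroup A) (u₀ : V) : AddSubgroup V where
  carrier := {v | ∃ s ∈ scalars V U, s u₀ = v}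
  zero_mem' := ⟨0, zero_mem _, rfl⟩
  add_mem' := by
    rintro _ _ ⟨s, hs, rfl⟩ ⟨t, ht, rfl⟩
    exact ⟨s + t, add_mem hs ht, rfl⟩
  neg_mem' := by
    rintro _ ⟨s, hs, rfl⟩
    exact ⟨-s, neg_mem hs, rfl⟩

theorem line_inv (F : FieldCase A V U) {u₀ : V} {h : A} (hh : h • u₀ = u₀) :
    ∀ x ∈ line U u₀, h • x ∈ line U u₀ := by
  rintro _ ⟨s, hs, rfl⟩
  refine ⟨conjEnd h s, conjEnd_mem_scalars F.normal h hs, ?_⟩
  rw [conjEnd_apply, show h⁻¹ • u₀ = u₀ from inv_smul_eq_iff.2 hh.symm]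

/-- an element fixing two independent multiples commutes with all scalars -/
theorem fixed_scalars (F : FieldCase A V U) {γ : AddMonoid.End V} (hγ : γ ∈ scalars V U)
    (hgen : ∀ s ∈ scalars V U, s ≠ 0 → ∃ n : ℕ, s = γ ^ n) {u₀ : V} (h00 : u₀ ≠ 0) {g : A} (hg : g • u₀ = u₀)
    (hgγ : g • γ u₀ = γ u₀) :
    (∀ x ∈ U, g * x * g⁻¹ = x) ∧ ∀ s ∈ scalars V U, ∀ v : V, g • s v = s (g • v) := by
  have hσ : conjEnd g γ = γ := by
    refine sub_eq_zero.1 (F.eq_zero_of_apply (sub_mem (conjEnd_mem_scalars F.normal g hγ) hγ) h00 ?_)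
    show conjEnd g γ u₀ - γ u₀ = 0
    rw [conjEnd_apply, show g⁻¹ • u₀ = u₀ from inv_smul_eq_iff.2 hg.symm, hgγ, sub_self]
  have hall : ∀ s ∈ scalars V U, conjEnd g s = s := fun s hs => by
    rcases eq_or_ne s 0 with rfl | h
    · rw [map_zero]
    obtain ⟨n, rfl⟩ := hgen s hs h
    rw [map_pow, hσ]
  refine ⟨fun x hx => F.endo_inj (V := V) ?_, fun s hs v => ?_⟩
  · rw [map_mul, map_mul]
    exact hall _ (endo_mem_scalars hx)
  · conv_rhs => rw [← hall s hs, conjEnd_apply, inv_smul_smul]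

/-- a fixed sum in a direct sum of invariant parts -/
theorem fix_split {S L : AddSubgroup V} (hSL : S ⊓ L = ⊥) {g : A} (hS : ∀ x ∈ S, g • x ∈ S)
    (hL : ∀ x ∈ L, g • x ∈ L) {s y : V} (hs : s ∈ S) (hy : y ∈ L) (h : g • (s + y) = s + y) :
    g • s = s ∧ g • y = y := by
  rw [smul_add] at h
  have h0 : g • s - s ∈ S ⊓ L := AddSubgroup.mem_inf.2
    ⟨sub_mem (hS s hs) hs, by
      rw [show g • s - s = y - g • y by linear_combination (norm := abel) h]
      exact sub_mem hy (hL y hy)⟩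
  rw [hSL, AddSubgroup.mem_bot, sub_eq_zero] at h0
  rw [h0, add_right_inj] at h
  exact ⟨h0, h⟩

/-- monomial coordinates and rigid labels give two vectors -/
theorem base_of_labels (F : FieldCase A V U) (D : Data A V U r d) {u₀ : V} (hu₀ : u₀ ∈ D.W) (h00 : u₀ ≠ 0)
    (fam : (Fin d → ZMod r) → V) (hfam : ∀ a, fam a ∈ D.W)
    (hfixed : ∀ g : A, g • u₀ = u₀ → g • fam 0 = fam 0 → ∀ a, g • fam a = fam a)
    (hK : ∀ g : A, g • u₀ = u₀ → g • fam 0 = fam 0 → ∀ k ∈ D.K, ∃ b, g * k * g⁻¹ = k * D.X b)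
    (hB : ∀ g ∈ Subgroup.centralizer (D.E : Set A), g • u₀ = u₀ → g • fam 0 = fam 0 → ∀ x ∈ D.W, g • x = x)
    (hlab : ∀ g : A, g • u₀ = u₀ → g • fam 0 = fam 0 →
      ∀ (κ : (Fin d → ZMod r) → A) (τ β : (Fin d → ZMod r) →+ (Fin d → ZMod r)), Function.Injective τ →
        (∀ a, κ a ∈ D.K) → (∀ a b, κ (a + b) = κ a * κ b * D.sc (dot (β a) (τ b))) → κ 0 = 1 →
        (∀ a, κ a • fam a = fam (τ a)) → (∀ a, g * D.Y a * g⁻¹ = κ a * (D.Y (τ a) * D.X (β a))) →
        (∀ a, τ a = a) ∧ ∀ a, κ a = 1) :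
    BaseOn (⊤ : Subgroup A) (⊤ : AddSubgroup V) := by
  classical
  haveI := D.normal
  refine ⟨u₀, trivial, ∑ a, D.Y a • fam a, trivial, fun g _ hgu hgsum v _ => ?_⟩
  have hginv : g⁻¹ • u₀ = u₀ := inv_smul_eq_iff.2 hgu.symm
  have hXfix : ∀ h : A, h • u₀ = u₀ → ∀ b, ∃ b', h * D.X b * h⁻¹ = D.X b' := by
    intro h hh b
    obtain ⟨b', e⟩ := D.eq_mul_X F hu₀ h00 (D.normal.conj_mem _ (D.memX b) h) (one_mem D.K) (by
      rw [one_smul, mul_smul, mul_smul, show h⁻¹ • u₀ = u₀ from inv_smul_eq_iff.2 hh.symm, hu₀ b, hh])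
    exact ⟨b', by rw [e, one_mul]⟩
  have hgW : ∀ h : A, h • u₀ = u₀ → ∀ x ∈ D.W, h • x ∈ D.W := fun h hh x hx => W_inv F D hu₀ h00 h hh x hx
  choose κ hκK τ β hτ using fun a => D.gen _ (D.normal.conj_mem _ (D.memY a) g)
  have hmove : ∀ a, ∀ x ∈ D.W, g • D.Y a • x = D.Y (τ a) • κ a • g • x := by
    intro a x hx
    rw [show g • D.Y a • x = (g * D.Y a * g⁻¹) • g • x by rw [mul_smul, mul_smul, inv_smul_smul], hτ,
      mul_smul, mul_smul, hgW g hgu x hx (β a), ← mul_smul, D.commY _ (hκK a), mul_smul]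
  have hadd : ∀ a b, κ (a + b) = κ a * κ b * D.sc (dot (β a) (τ b)) ∧ τ (a + b) = τ a + τ b ∧
      β (a + b) = β a + β b := by
    intro a b
    refine D.norm_unique (hκK _)
      (mul_mem (mul_mem (hκK _) (hκK _)) (D.le (zp_mem D.zmem _))) ?_
    rw [← hτ, D.addY, show g * (D.Y a * D.Y b) * g⁻¹ = (g * D.Y a * g⁻¹) * (g * D.Y b * g⁻¹) by group, hτ, hτ]
    calc κ a * (D.Y (τ a) * D.X (β a)) * (κ b * (D.Y (τ b) * D.X (β b)))
        = κ a * (D.Y (τ a) * (D.X (β a) * κ b)) * (D.Y (τ b) * D.X (β b)) := by simp only [mul_assoc]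
      _ = κ a * ((D.Y (τ a) * κ b) * (D.X (β a) * D.Y (τ b)) * D.X (β b)) := by
          rw [← D.commX _ (hκK b)]; simp only [mul_assoc]
      _ = κ a * κ b * ((D.Y (τ a) * D.sc (dot (β a) (τ b))) * (D.Y (τ b) * (D.X (β a) * D.X (β b)))) := by
          rw [← D.commY _ (hκK b), D.rel]; simp only [mul_assoc]
      _ = κ a * κ b * D.sc (dot (β a) (τ b)) * ((D.Y (τ a) * D.Y (τ b)) * (D.X (β a) * D.X (β b))) := by
          rw [D.sc_comm _ (D.memY _)]; simp only [mul_assoc]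
      _ = _ := by rw [← D.addX, ← D.addY]
  let τh : (Fin d → ZMod r) →+ (Fin d → ZMod r) := AddMonoidHom.mk' τ fun a b => (hadd a b).2.1
  let βh : (Fin d → ZMod r) →+ (Fin d → ZMod r) := AddMonoidHom.mk' β fun a b => (hadd a b).2.2
  have τinj : Function.Injective τ := by
    refine (injective_iff_map_eq_zero τh).2 fun a ha => ?_
    have h := hmove a u₀ hu₀
    rw [show τ a = 0 from ha, D.Y_zero, one_smul, hgu] at h
    refine D.block_zero F hu₀ (hgW g⁻¹ hginv _ (D.W_K hu₀ (hκK a))) h00 ?_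
    rw [← h, inv_smul_smul]
  -- comparison of the components
  have hcomp : ∀ fam : (Fin d → ZMod r) → V, (∀ a, fam a ∈ D.W) →
      g • (∑ a, D.Y a • fam a) = ∑ a, D.Y a • fam a → ∀ a, κ a • g • fam a = fam (τ a) := by
    intro fam hfam hg a
    have hbij : Function.Bijective τ := ⟨τinj, Finite.injective_iff_surjective.1 τinj⟩
    let eτ := Equiv.ofBijective τ hbij
    let G : (Fin d → ZMod r) → V := fun a => κ a • g • fam a
    have h1 : g • ∑ a, D.Y a • fam a = ∑ a, D.Y a • G (eτ.symm a) := by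
      rw [← Equiv.sum_comp eτ fun a => D.Y a • G (eτ.symm a), Finset.smul_sum]
      refine Finset.sum_congr rfl fun a _ => ?_
      rw [Equiv.symm_apply_apply, hmove a _ (hfam a)]
      rfl
    rw [hg] at h1
    have h2 := D.uniq F hfam (fun a => D.W_K (hgW g hgu _ (hfam _)) (hκK _)) h1 (τ a)
    rw [show eτ.symm (τ a) = a from eτ.symm_apply_apply a] at h2
    exact h2.symm
  have c := hcomp fam hfam hgsum
  have hκ0 : κ 0 = 1 ∧ τ 0 = 0 := by
    obtain ⟨h1, h2, -⟩ := D.norm_unique (one_mem D.K) (hκK 0) (a := (0 : Fin d → ZMod r)) (a' := τ 0)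
      (b := (0 : Fin d → ZMod r)) (b' := β 0) (by
        rw [← hτ, D.Y_zero, D.X_zero]
        group)
    exact ⟨h1.symm, h2.symm⟩
  have hg0 : g • fam 0 = fam 0 := by
    have h1 := c 0
    rwa [hκ0.1, hκ0.2, one_smul] at h1
  obtain ⟨hid, hκ⟩ := hlab g hgu hg0 κ τh βh τinj hκK (fun a b => (hadd a b).1) hκ0.1
    (fun a => by
      have h1 := c a
      rwa [hfixed g hgu hg0 a] at h1) hτ
  have hid : ∀ a, τ a = a := hid
  have hβ0 : ∀ a, β a = 0 := fun a => eq_of_dot fun b => D.sc_inj (by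
    have h := (hadd a b).1
    rw [hid, hκ, hκ, hκ, one_mul, one_mul] at h
    rw [← h, show dot (0 : Fin d → ZMod r) b = 0 by simp [dot]]
    exact (zp_zero _).symm)
  have hY : ∀ a, g * D.Y a * g⁻¹ = D.Y a := fun a => by
    rw [hτ, hκ, hid, hβ0, D.X_zero, one_mul, mul_one]
  have hKfix : ∀ k ∈ D.K, g * k * g⁻¹ = k := by
    intro k hk
    obtain ⟨b, hb⟩ := hK g hgu hg0 k hk
    have hb0 : b = 0 := by
      refine eq_of_dot fun a => D.sc_inj ?_
      have h1 : (k * D.X b) * D.Y a = D.Y a * (k * D.X b) := by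
        rw [← hb, ← hY a, show g * k * g⁻¹ * (g * D.Y a * g⁻¹) = g * (k * D.Y a) * g⁻¹ by group,
          D.commY k hk]
        group
      rw [mul_assoc, D.rel, ← mul_assoc (D.Y a) k, ← D.commY k hk, mul_assoc k (D.Y a)] at h1
      rw [show dot (0 : Fin d → ZMod r) a = 0 by simp [dot], show D.sc (0 : ZMod r) = 1 from zp_zero _]
      exact mul_eq_right.1 (mul_left_cancel h1)
    rw [hb, hb0, D.X_zero, mul_one]
  have hX : ∀ b, g * D.X b * g⁻¹ = D.X b := fun b => by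
    obtain ⟨b', hb'⟩ := hXfix g hgu b
    rw [hb']
    congr 1
    refine eq_of_dot fun a => D.sc_inj ?_
    have h1 : g * (D.X b * D.Y a) * g⁻¹ = g * (D.sc (dot b a) * (D.Y a * D.X b)) * g⁻¹ := by rw [D.rel]
    rw [show g * (D.X b * D.Y a) * g⁻¹ = (g * D.X b * g⁻¹) * (g * D.Y a * g⁻¹) by group,
      show g * (D.sc (dot b a) * (D.Y a * D.X b)) * g⁻¹ =
        (g * D.sc (dot b a) * g⁻¹) * ((g * D.Y a * g⁻¹) * (g * D.X b * g⁻¹)) by group,
      hb', hY, hKfix _ (D.le (zp_mem D.zmem _)), D.rel] at h1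
    exact mul_right_cancel h1
  have hgB : g ∈ Subgroup.centralizer (D.E : Set A) := by
    refine Subgroup.mem_centralizer_iff.2 fun x hx => ?_
    obtain ⟨k, hk, a, b, rfl⟩ := D.gen x hx
    have : g * (k * (D.Y a * D.X b)) * g⁻¹ =
        (g * k * g⁻¹) * ((g * D.Y a * g⁻¹) * (g * D.X b * g⁻¹)) := by group
    rw [hKfix k hk, hX, hY] at this
    exact (mul_inv_eq_iff_eq_mul.1 this).symm
  obtain ⟨w, hw, rfl⟩ := D.exists_decomp F v
  rw [Finset.smul_sum]
  refine Finset.sum_congr rfl fun a _ => ?_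
  rw [← mul_smul, ← Subgroup.mem_centralizer_iff.1 hgB _ (D.memY a), mul_smul,
    hB g hgB hgu hg0 _ (hw a)]

end CfsgLib.BaseCop
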