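import Cfsg.Agent.Lib.BaseThree.Labels

/-!
Colourings of coordinate spaces which force the identity.
-/

set_option autoImplicit false
set_option linter.unusedSectionVars false

namespace CfsgLib.BaseCop

open CfsgLib.BaseTwo (dot dot_comm dot_add dot_add_right dot_single dot_zero eq_of_dot)
open CfsgLib.BaseThree (mem_of_singles)

variable {r d : ℕ}

/-- a form vanishing on the coloured points vanishes -/
def Uni (c : (Fin d → ZMod r) → ℕ) : Prop :=
  ∀ (μ : (Fin d → ZMod r) → ZMod r) (β : (Fin d → ZMod r) →+ (Fin d → ZMod r)),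
    (∀ a b, μ (a + b) = μ a + μ b + dot (β a) b) → (∀ a, a ≠ 0 → c a ≠ 0 → μ a = 0) → ∀ a, μ a = 0

/-- colours forcing the identity -/
def Rigid (r d k : ℕ) : Prop :=
  ∃ c : (Fin d → ZMod r) → ℕ, (∀ a, a ≠ 0 → c a ≤ k) ∧ (∀ i, c (Pi.single i 1) ≠ 0) ∧
    (∀ τ : (Fin d → ZMod r) →+ (Fin d → ZMod r), Function.Injective τ → (∀ a, a ≠ 0 → c (τ a) = c a) →
      ∀ a, τ a = a) ∧ Uni c

/-- colours and shifts forcing the identity -/
def RigidShift (d e k : ℕ) : Prop :=
  ∃ c p : (Fin d → ZMod 2) → ℕ, (∀ a, a ≠ 0 → c a ≤ k) ∧ (∀ a, p a < 2 ^ e) ∧ (∀ i, c (Pi.single i 1) ≠ 0) ∧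
    (∀ (τ : (Fin d → ZMod 2) →+ (Fin d → ZMod 2)) (φ : (Fin d → ZMod 2) → ℕ), Function.Injective τ →
      (∀ a b, φ (a + b) = φ a ^^^ φ b) → (∀ a, φ a < 2 ^ e) → (∀ a, a ≠ 0 → c (τ a) = c a) →
      (∀ a, a ≠ 0 → c a ≠ 0 → p (τ a) = p a ^^^ φ a) → ∀ a, τ a = a) ∧ Uni c

theorem Rigid.mono {k k' : ℕ} (h : Rigid r d k) (hk : k ≤ k') : Rigid r d k' := by
  obtain ⟨c, h1, h2⟩ := h
  exact ⟨c, fun a ha => (h1 a ha).trans hk, h2⟩

/-- forms vanishing on the basis and on sums of two basis vectors -/
theorem form_zero [Fact r.Prime] (μ : (Fin d → ZMod r) → ZMod r) (β : (Fin d → ZMod r) →+ (Fin d → ZMod r))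
    (hadd : ∀ a b, μ (a + b) = μ a + μ b + dot (β a) b) (hs : ∀ i, μ (Pi.single i 1) = 0)
    (hneg : r ≠ 2 → ∀ i, μ (-Pi.single i 1) = 0)
    (hp : ∀ i j : Fin d, i < j → μ (Pi.single i 1 + Pi.single j 1) = 0) : ∀ a, μ a = 0 := by
  have h0 : μ 0 = 0 := by
    have h := hadd 0 0
    rw [add_zero, dot_zero, add_zero, left_eq_add] at h
    exact h
  have hβ : ∀ a, β a = 0 := by
    intro a
    refine mem_of_singles (S := β.ker) (fun i => funext fun j => ?_) a
    show β (Pi.single i 1) j = 0
    rw [← dot_single (β (Pi.single i 1)) j]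
    rcases lt_trichotomy i j with h | rfl | h
    · have e := hadd (Pi.single i 1) (Pi.single j 1)
      rw [hp i j h, hs, hs, zero_add, zero_add] at e
      exact e.symm
    · by_cases h2 : r = 2
      · subst h2
        have e := hadd (Pi.single i 1) (Pi.single i 1)
        rw [show (Pi.single i 1 + Pi.single i 1 : Fin d → ZMod 2) = 0 by
          funext k; exact CharTwo.add_self_eq_zero _, h0, hs, zero_add, zero_add] at e
        exact e.symm
      · have e := hadd (Pi.single i 1) (-Pi.single i 1)
        rw [add_neg_cancel, h0, hs, hneg h2, zero_add, zero_add] at e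
        rw [show dot (β (Pi.single i 1)) (-Pi.single i 1) = -dot (β (Pi.single i 1)) (Pi.single i 1) by simp [dot],
          eq_comm, neg_eq_zero] at e
        exact e
    · have e := hadd (Pi.single i 1) (Pi.single j 1)
      rw [add_comm (Pi.single i 1), hp j i h, hs, hs, zero_add, zero_add] at e
      exact e.symm
  let S : AddSubgroup (Fin d → ZMod r) :=
    { carrier := {a | μ a = 0}
      zero_mem' := h0
      add_mem' := fun {a b} (ha : μ a = 0) (hb : μ b = 0) => by
        show μ (a + b) = 0
        rw [hadd, ha, hb, hβ]; simp [dot]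
      neg_mem' := fun {a} (ha : μ a = 0) => by
        show μ (-a) = 0
        have h := hadd a (-a)
        rw [add_neg_cancel, h0, ha, hβ] at h
        simpa [dot] using h.symm }
  exact mem_of_singles (S := S) hs

section odd

variable [Fact r.Prime]

/-- the second colour in odd exponent -/
def oddB (r d : ℕ) : Set (Fin d → ZMod r) :=
  {a | (∃ k, a = -Pi.single k 1) ∨ (∃ i j : Fin d, i ≠ j ∧ a = Pi.single i 1 + Pi.single j 1) ∨
    ∃ i j : Fin d, (j : ℕ) = (i : ℕ) + 1 ∧ a = Pi.single i 1 - Pi.single j 1}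

theorem rigid_odd (hr : r ≠ 2) (d : ℕ) : Rigid r d 2 := by
  classical
  have hone : (1 : ZMod r) ≠ 0 := one_ne_zero
  have htwo : (-1 : ZMod r) ≠ 1 := fun h => by
    have h2 : ((2 : ℕ) : ZMod r) = 0 := by push_cast; linear_combination (-1 : ZMod r) * h
    exact hr ((Nat.prime_dvd_prime_iff_eq (Fact.out : r.Prime) Nat.prime_two).1
      ((ZMod.natCast_eq_zero_iff _ _).1 h2))
  have hA : ∀ k, (Pi.single k 1 : Fin d → ZMod r) ∉ oddB r d := by
    rintro k (⟨l, h⟩ | ⟨i, j, hij, h⟩ | ⟨i, j, hij, h⟩)
    · have h1 := congrFun h l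
      by_cases hk : k = l
      · subst hk; simp at h1; exact htwo h1.symm
      · simp [hk, Ne.symm hk] at h1
    · have h1 := congrFun h i
      have h2 := congrFun h j
      by_cases hk : k = i
      · subst hk; simp [hij, Ne.symm hij] at h2
      · simp [hk, Ne.symm hk, hij] at h1
    · have hne : i ≠ j := fun e => by subst e; omega
      have h2 := congrFun h j
      by_cases hk : k = j
      · subst hk; simp [hne, Ne.symm hne] at h2; exact htwo h2.symm
      · simp [hk, Ne.symm hk, Ne.symm hne] at h2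
  let c : (Fin d → ZMod r) → ℕ := fun a =>
    if ∃ k, a = Pi.single k 1 then 1 else if a ∈ oddB r d then 2 else 0
  have hc1 : ∀ a, c a = 1 ↔ ∃ k, a = Pi.single k 1 := fun a => by
    simp only [c]; split_ifs with h h' <;> simp [h]
  have hc2 : ∀ a ∈ oddB r d, c a = 2 := fun a ha => by
    simp only [c]
    rw [if_neg (fun ⟨k, hk⟩ => hA k (hk ▸ ha)), if_pos ha]
  have hb : ∀ a, c a = 2 → a ∈ oddB r d := fun a ha => by
    simp only [c] at ha; split_ifs at ha with h h' <;> first | exact h' | omega
  refine ⟨c, fun a _ => by simp only [c]; split_ifs <;> omega, fun i => by rw [(hc1 _).2 ⟨i, rfl⟩]; omega,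
    fun τ hinj hτ => ?_, fun μ β hadd hμ => ?_⟩
  · have hsne : ∀ k : Fin d, (Pi.single k 1 : Fin d → ZMod r) ≠ 0 := fun k h => by
      have := congrFun h k; simp at this
    choose π hπ using fun k : Fin d => (hc1 _).1 ((hτ _ (hsne k)).trans ((hc1 _).2 ⟨k, rfl⟩))
    have hπinj : Function.Injective π := fun i j e => by
      have h := hinj ((hπ i).trans ((congrArg (fun t => (Pi.single t 1 : Fin d → ZMod r)) e).trans (hπ j).symm))
      by_contra hne
      simpa [hne] using congrFun h i
    have hstep : ∀ i j : Fin d, (j : ℕ) = (i : ℕ) + 1 → (π j : ℕ) = (π i : ℕ) + 1 := by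
      intro i j hij
      have hne : i ≠ j := fun e => by subst e; omega
      have hπne : π i ≠ π j := fun e => hne (hπinj e)
      have hne0 : (Pi.single i 1 - Pi.single j 1 : Fin d → ZMod r) ≠ 0 := fun h => by
        simpa [hne] using congrFun h i
      have hm := hb _ ((hτ _ hne0).trans (hc2 _ (Or.inr (Or.inr ⟨i, j, hij, rfl⟩))))
      rw [map_sub, hπ, hπ] at hm
      rcases hm with ⟨k, h⟩ | ⟨k, l, hkl, h⟩ | ⟨k, l, hkl, h⟩
      · have h1 := congrFun h (π i)
        by_cases hk : π i = k
        · subst hk; simp [hπne] at h1; exact absurd h1.symm htwo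
        · simp [hπne, hk] at h1
      · exfalso
        have h1 := congrFun h (π j)
        by_cases hk : π j = k
        · subst hk; simp [Ne.symm hπne, hkl] at h1; exact htwo h1
        · by_cases hl : π j = l
          · subst hl; simp [Ne.symm hπne, Ne.symm hkl] at h1; exact htwo h1
          · simp [Ne.symm hπne, hk, hl] at h1
      · have hkl' : k ≠ l := fun e => by subst e; omega
        have e1 : k = π i := by
          by_contra hk
          have h1 := congrFun h k
          by_cases hk' : k = π j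
          · subst hk'; simp [Ne.symm hπne, hkl'] at h1; exact htwo h1
          · simp [hk, hk', hkl'] at h1
        have e2 : l = π j := by
          by_contra hl
          have h1 := congrFun h l
          by_cases hl' : l = π i
          · exact hkl' (e1.trans hl'.symm)
          · simp [hl, hl', Ne.symm hkl'] at h1
        rw [← e1, ← e2]; exact hkl
    have hπid : ∀ k, π k = k := by
      intro k
      have h0 : 0 < d := lt_of_le_of_lt (Nat.zero_le _) k.2
      have hlin : ∀ n (hn : n < d), (π ⟨n, hn⟩ : ℕ) = (π ⟨0, h0⟩ : ℕ) + n := by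
        intro n
        induction n with
        | zero => intro _; rfl
        | succ n ih => intro hn; rw [hstep ⟨n, by omega⟩ ⟨n + 1, hn⟩ rfl, ih (by omega)]; omega
      have h1 := hlin k k.2
      have h2 := hlin (d - 1) (by omega)
      have h3 := (π ⟨d - 1, by omega⟩).2
      exact Fin.ext (by simp only [Fin.eta] at h1; omega)
    exact mem_of_singles (S := AddMonoidHom.eqLocus τ (AddMonoidHom.id _)) fun k => by
      show τ (Pi.single k 1) = Pi.single k 1
      rw [hπ, hπid]
  · refine form_zero μ β hadd (fun i => hμ _ ?_ ?_) (fun _ i => hμ _ ?_ ?_) fun i j hij => hμ _ ?_ ?_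
    · intro h; have := congrFun h i; simp at this
    · rw [(hc1 _).2 ⟨i, rfl⟩]; omega
    · intro h; have := congrFun h i; simp at this
    · rw [hc2 _ (Or.inl ⟨i, rfl⟩)]; omega
    · intro h; simpa [hij.ne] using congrFun h i
    · rw [hc2 _ (Or.inr (Or.inl ⟨i, j, hij.ne, rfl⟩))]; omega

end odd

end CfsgLib.BaseCop
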