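import Cfsg.Agent.Lib.BaseCop.Labels
import Cfsg.Agent.Lib.BaseCop.Rigid

/-!
Bases of size two: coordinates of odd prime exponent.
-/

set_option autoImplicit false
set_option linter.unusedSectionVars false
set_option linter.style.haveILetI false

namespace CfsgLib.BaseCop

open CfsgLib.BaseTwo (Inv CROn BaseOn Irr FieldCase SympData zp zp_zero zp_mem scalars endo endo_mem_scalars
  dot dot_single dot_add)
open CfsgLib.BaseThree (Data)

universe u

variable {A V : Type u} [Group A] [Finite A] [AddCommGroup V] [Finite V] [DistribMulAction A V]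

/-- colours `1` and `2` are `u₀` and `-u₀`, which are not conjugate under the roots of unity of order `r` -/
def oddFam (u₀ : V) (n : ℕ) : V := if n = 0 then 0 else if n = 1 then u₀ else -u₀

/-- the roots of unity of order `r` -/
theorem root_unique {U : Subgroup A} {r d : ℕ} [Fact r.Prime] (D : Data A V U r d)
    (hr : r ≠ 2) {p : ℕ} [Fact p.Prime] (hp2 : p ≠ 2) {u₀ : V} (h00 : u₀ ≠ 0) (hpu : p • u₀ = 0)
    {k : A} (hk : k ∈ D.K) (hkr : k ^ r = 1) {i j : ℕ} (hi : i ≤ 2) (hj : j ≤ 2)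
    (h : k • oddFam u₀ i = oddFam u₀ j) : i = j ∧ (i ≠ 0 → k = 1) := by
  have hneg : k • u₀ ≠ -u₀ := by
    intro hh
    have h2 : ∀ n, k ^ (2 * n + 1) • u₀ = -u₀ := by
      intro n
      induction n with
      | zero => rw [pow_one]; exact hh
      | succ n ih =>
        rw [show 2 * (n + 1) + 1 = (2 * n + 1) + 1 + 1 by ring, pow_succ', pow_succ', mul_smul, mul_smul, ih,
          smul_neg, hh, neg_neg, hh]
    obtain ⟨n, hn⟩ := (Fact.out : r.Prime).odd_of_ne_two hr
    have h3 := h2 n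
    rw [← hn, hkr, one_smul] at h3
    have h4 : 2 • u₀ = 0 := by
      rw [two_nsmul]
      exact add_eq_zero_iff_eq_neg.2 h3
    have h5 := addOrderOf_dvd_of_nsmul_eq_zero h4
    rw [addOrderOf_eq_prime hpu h00] at h5
    exact hp2 ((Nat.prime_dvd_prime_iff_eq Fact.out Nat.prime_two).1 h5)
  have hneg0 : -u₀ ≠ 0 := neg_ne_zero.2 h00
  interval_cases i <;> interval_cases j <;> simp only [oddFam, if_true, if_false, one_ne_zero,
    show (2 : ℕ) ≠ 0 by norm_num, show (2 : ℕ) ≠ 1 by norm_num, smul_zero, smul_neg] at h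
  · exact ⟨rfl, fun e => absurd rfl e⟩
  · exact absurd h.symm h00
  · exact absurd h.symm hneg0
  · exact absurd ((smul_eq_zero_iff_eq k).1 h) h00
  · exact ⟨rfl, fun _ => D.semireg k hk u₀ h00 h⟩
  · exact absurd h hneg
  · exact absurd ((smul_eq_zero_iff_eq k).1 (neg_eq_zero.1 h)) h00
  · exact absurd (neg_eq_iff_eq_neg.1 h) hneg
  · exact ⟨rfl, fun _ => D.semireg k hk u₀ h00 (neg_injective h)⟩

/-- the case of coordinates of odd exponent -/
theorem base_of_sympData (hA : Group.IsSolvable A) (hcop : (Nat.card A).Coprime (Nat.card V))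
    {p : ℕ} [Fact p.Prime] (hp : ¬ p ∣ Nat.card A) (hp2 : p ≠ 2) (hexp : ∀ v : V, p • v = 0)
    {N : ℕ} (hcard : Nat.card A ≤ N) (hL : LinHypC.{u} (N - 1)) {U : Subgroup A} (F : FieldCase A V U)
    {r d : ℕ} (S : SympData A U r d) : BaseOn (⊤ : Subgroup A) (⊤ : AddSubgroup V) := by
  classical
  haveI : Fact r.Prime := ⟨S.prime⟩
  haveI := S.normal
  let D : Data A V U r (d + 1) :=
    { ζ := S.ζ, E := S.E, K := U, X := S.X, Y := S.Y, order := S.order, zmem := S.zmem, normal := S.normal,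
      le := le_rfl, leE := S.le, centU := S.centU, memX := S.memX, memY := S.memY, addX := S.addX,
      addY := S.addY, rel := S.rel
      commX := fun k hk b => (S.centU _ (S.memX b) k hk).symm
      commY := fun k hk a => (S.centU _ (S.memY a) k hk).symm
      gen := fun g hg => by
        obtain ⟨u, hu, c, b, a, rfl⟩ := S.gen g hg
        refine ⟨u * S.sc c * S.sc (dot b a), mul_mem (mul_mem hu (S.sc_mem c)) (S.sc_mem _), a, b, ?_⟩
        rw [S.rel]
        simp only [mul_assoc]
      semireg := fun k hk v hv h => by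
        by_contra h1
        exact hv (F.eq_zero_of_smul_eq hk h1 h) }
  set B := Subgroup.centralizer (D.E : Set A) with hBdef
  have hBlt : Nat.card B ≤ N - 1 := by
    have hne : B ≠ ⊤ := by
      intro e
      have h : S.X (Pi.single 0 1) * S.Y (Pi.single 0 1) = S.Y (Pi.single 0 1) * S.X (Pi.single 0 1) :=
        (Subgroup.mem_centralizer_iff.1 (show S.Y (Pi.single 0 1) ∈ B by rw [e]; trivial) _ (S.memX _))
      rw [S.rel, mul_eq_right] at h
      have := S.sc_inj (h.trans (zp_zero S.ζ).symm)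
      rw [dot_single, Pi.single_eq_same] at this
      exact one_ne_zero this
    have hlt : Nat.card B < Nat.card A :=
      lt_of_le_of_ne (Subgroup.card_le_card_group B) fun e => hne ((Subgroup.card_eq_iff_eq_top B).1 e)
    omega
  haveI : D.E.Normal := S.normal
  have hBW : Inv B D.W := fun g hg v hv b => by
    rw [← mul_smul, Subgroup.mem_centralizer_iff.1 hg _ (D.memX b), mul_smul, hv b]
  have hpH : ∀ H : Subgroup A, ¬ p ∣ Nat.card H := fun H h => hp (h.trans H.card_subgroup_dvd_card)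
  obtain ⟨u₀, hu₀, t₁, ht₁, -, h00, hb⟩ :=
    (hL.on hA hcop hBlt hBW (crOn_coprime hexp (hpH B) hBW)).ne (D.W_ne_bot F)
  -- split the second vector along the line of the first
  let H := MulAction.stabilizer A u₀
  have hHW : Inv H D.W := fun h hh => W_inv F D hu₀ h00 h hh
  have hline : line U u₀ ≤ D.W := by
    rintro _ ⟨s, hs, rfl⟩
    exact D.W_scalar hu₀ hs
  have hlineinv : Inv H (line U u₀) := fun h hh => line_inv F hh
  obtain ⟨L, hLW, hLinv, hinf, hsup⟩ := crOn_coprime hexp (hpH H) hHW (line U u₀) hline hlineinv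
  obtain ⟨s, hs, y, hy, hsy⟩ : ∃ s ∈ line U u₀, ∃ y ∈ L, s + y = t₁ :=
    AddSubgroup.mem_sup.1 (by rw [hsup]; exact ht₁)
  obtain ⟨γ, hγ, -, hgen⟩ := F.exists_units_generator
  obtain ⟨col, hcol, hsingle, hτ, huni⟩ := rigid_odd (r := r) S.ne_two (d + 1)
  let fam : (Fin (d + 1) → ZMod r) → V := fun a => if a = 0 then γ u₀ + y else oddFam u₀ (col a)
  have hfam0 : fam 0 = γ u₀ + y := if_pos rfl
  have hfamne : ∀ a, a ≠ 0 → fam a = oddFam u₀ (col a) := fun a ha => if_neg ha
  have hfam : ∀ a, fam a ∈ D.W := fun a => by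
    simp only [fam, oddFam]
    split_ifs <;> first | exact add_mem (D.W_scalar hu₀ hγ) (hLW hy) | exact zero_mem _ | exact hu₀ |
      exact neg_mem hu₀
  have hgood : ∀ g : A, g • u₀ = u₀ → g • fam 0 = fam 0 →
      (∀ x ∈ U, g * x * g⁻¹ = x) ∧ g • t₁ = t₁ := by
    intro g hgu hg0
    rw [hfam0] at hg0
    obtain ⟨h1, h2⟩ := fix_split hinf (fun x hx => hlineinv g hgu x hx) (fun x hx => hLinv g hgu x hx)
      ⟨γ, hγ, rfl⟩ hy hg0
    obtain ⟨hU, hsc⟩ := fixed_scalars F hγ hgen h00 hgu h1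
    refine ⟨hU, ?_⟩
    obtain ⟨c, hc, hcs⟩ := hs
    rw [← hsy, smul_add, h2, ← hcs, hsc c hc, hgu]
  refine base_of_labels F D hu₀ h00 fam hfam (fun g hgu hg0 a => ?_)
    (fun g hgu hg0 k hk => ⟨0, by rw [(hgood g hgu hg0).1 k hk, D.X_zero, mul_one]⟩)
    (fun g hg hgu hg0 => hb g hg hgu (hgood g hgu hg0).2) ?_
  · rcases eq_or_ne a 0 with rfl | ha
    · exact hg0
    · rw [hfamne a ha]
      simp only [oddFam]
      split_ifs
      · exact smul_zero g
      · exact hgu
      · rw [smul_neg, hgu]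
  intro g hgu hg0 κ τ β hinj hκU hκ hκ0 hfix _
  have hroot : ∀ a, κ a ^ r = 1 := by
    intro a
    have hn : ∀ n : ℕ, κ (n • a) = κ a ^ n * D.sc ((n.choose 2 : ℕ) * dot (β a) (τ a)) := by
      intro n
      induction n with
      | zero => rw [zero_smul, hκ0, pow_zero, one_mul, Nat.choose_zero_succ, Nat.cast_zero, zero_mul,
          show D.sc (0 : ZMod r) = 1 from zp_zero _]
      | succ n ih =>
        have hd : dot (β (n • a)) (τ a) = (n : ZMod r) * dot (β a) (τ a) := by
          rw [map_nsmul]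
          simp only [dot, Pi.smul_apply, nsmul_eq_mul, Finset.mul_sum, mul_assoc]
        rw [succ_nsmul, hκ, ih, hd, Nat.choose_succ_succ', Nat.choose_one_right, Nat.cast_add, add_mul,
          add_comm ((n : ZMod r) * _), D.sc_add, pow_succ, mul_assoc (κ a ^ n) _ (κ a),
          ← D.sc_comm _ (D.leE (hκU a))]
        simp only [mul_assoc]
    have h := hn r
    rw [show r • a = 0 from funext fun i => by simp, hκ0,
      (ZMod.natCast_eq_zero_iff _ _).2 ((Fact.out : r.Prime).dvd_choose_self two_ne_zero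
        (lt_of_le_of_ne (Fact.out : r.Prime).two_le (Ne.symm S.ne_two))), zero_mul,
      show D.sc (0 : ZMod r) = 1 from zp_zero _, mul_one] at h
    exact h.symm
  have hτne : ∀ a, a ≠ 0 → τ a ≠ 0 := fun a ha e => ha (hinj (e.trans (map_zero τ).symm))
  have hpres : ∀ a, a ≠ 0 → col a = col (τ a) ∧ (col a ≠ 0 → κ a = 1) := by
    intro a ha
    have h := hfix a
    rw [hfamne a ha, hfamne _ (hτne a ha)] at h
    exact root_unique D S.ne_two hp2 h00 (hexp u₀) (hκU a) (hroot a) (hcol a ha) (hcol _ (hτne a ha)) h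
  have hid : ∀ a, τ a = a := hτ τ hinj fun a ha => (hpres a ha).1.symm
  refine ⟨hid, ?_⟩
  choose μ hμ using fun a => F.eq_zp D.zmem D.order (hκU a) (hroot a)
  have hμ' : ∀ a, κ a = D.sc (μ a) := hμ
  have hμ0 := huni μ β (fun a b => D.sc_inj (by
    rw [← hμ', hκ, hμ', hμ', hid, D.sc_add, D.sc_add])) fun a ha hc => D.sc_inj (by
    rw [← hμ', (hpres a ha).2 hc]
    exact (zp_zero _).symm)
  intro a
  rw [hμ', hμ0 a]
  exact zp_zero _

end CfsgLib.BaseCop
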