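import Cfsg.Agent.Lib.BaseCop.TwoScalar

/-!
Exponent two, coordinates over a quaternion part.
-/

set_option autoImplicit false
set_option linter.unusedSectionVars false
set_option linter.style.haveILetI false

namespace CfsgLib.BaseCop

open CfsgLib.BaseTwo (Inv CROn BaseOn FieldCase endo scalars endo_mem_scalars zp zp_zero zp_one dot dot_zero)
open CfsgLib.BaseThree (Data)

universe u

/-- the four representatives -/
def rep4 {A : Type*} [Monoid A] (q₁ q₂ : A) (z : ℕ) : A := q₁ ^ (z % 2) * q₂ ^ (z / 2)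

variable {A V : Type u} [Group A] [Finite A] [AddCommGroup V] [Finite V] [DistribMulAction A V]
variable {U : Subgroup A} [Fact (Nat.Prime 2)] (F : FieldCase A V U) {d : ℕ} (D : Data A V U 2 d)

include F

/-- what is given about the quaternion part -/
structure QuatPart (q₁ q₂ : A) : Prop where
  m1 : q₁ ∈ D.K
  m2 : q₂ ∈ D.K
  n1 : q₁ ∉ U
  n2 : q₂ ∉ U
  anti : q₁ * q₂ = D.ζ * (q₂ * q₁)
  gen : D.K ≤ Subgroup.closure {q₁, q₂}
  sq : ∀ q ∈ D.K, q * q ∈ U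
  cent : ∀ u ∈ U, ∀ q ∈ D.K, u * q = q * u
  nsq : ∀ q ∈ D.K, q ∉ U → ∀ w ∈ U, q * q ≠ w * w

/-- coordinates over a quaternion part -/
theorem base_two_quat {p : ℕ} [Fact p.Prime] (hp : ¬ p ∣ Nat.card A) (hp2 : p ≠ 2) (hexp : ∀ v : V, p • v = 0)
    (hEU : Subgroup.centralizer (D.E : Set A) ≤ U) {q₁ q₂ : A} (hQ : QuatPart D q₁ q₂)
    (hexc : ∀ u₀ ∈ D.W, u₀ ≠ 0 → q₁ * q₁ = D.ζ → q₂ * q₂ = D.ζ →
      (∀ k ∈ D.K, ∃ (x : ZMod 2) (i j : Fin 2), k = D.sc x * (q₁ ^ (i : ℕ) * q₂ ^ (j : ℕ))) →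
      (∀ w ∈ D.W, ∃ c c' : ℕ, c • u₀ + c' • (q₁ • u₀) = w) → p = 3 → d = 2 →
      BaseOn (⊤ : Subgroup A) (⊤ : AddSubgroup V)) :
    BaseOn (⊤ : Subgroup A) (⊤ : AddSubgroup V) := by
  classical
  obtain ⟨m1, m2, n1, n2, h12, hgen, hsq, hcU, hns⟩ := hQ
  obtain ⟨γ, hγ, -, hγgen⟩ := F.exists_units_generator
  obtain ⟨hpq, hq3, ⟨fq, hfq⟩, hprime⟩ := card_scalars F hexp hp2
  have hζU : D.ζ ∈ U := D.zmem
  have hζ2 : D.ζ * D.ζ = 1 := by rw [← sq]; exact D.zeta_pow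
  have hζ1 : D.ζ ≠ 1 := fun h => by
    have := D.order
    rw [h, orderOf_one] at this
    omega
  have hζc : ∀ q ∈ D.K, q * D.ζ = D.ζ * q := fun q hq => (hcU _ hζU q hq).symm
  have h21 : q₂ * q₁ = D.ζ * (q₁ * q₂) := by rw [h12, ← mul_assoc, hζ2, one_mul]
  have hl1 : q₁ * q₁ ∈ U := hsq q₁ m1
  have hl2 : q₂ * q₂ ∈ U := hsq q₂ m2
  have hK12 : ∀ i j : ℕ, q₁ ^ i * q₂ ^ j ∈ D.K := fun i j => mul_mem (pow_mem m1 i) (pow_mem m2 j)
  have hneg : ∀ x : V, D.ζ • x = -x := fun x => by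
    refine eq_neg_of_add_eq_zero_left (F.eq_zero_of_smul_eq hζU hζ1 ?_)
    rw [smul_add, ← mul_smul, hζ2, one_smul, add_comm]
  have n12 : q₁ * q₂ ∉ U := fun h => by
    have e := hcU _ h q₁ m1
    rw [mul_assoc q₁ q₂, h21, ← mul_assoc q₁ D.ζ, hζc q₁ m1, mul_assoc, mul_eq_right] at e
    exact hζ1 e
  -- cosets of `U`
  have hcos : ∀ k ∈ D.K, ∃ u ∈ U, ∃ i j : Fin 2, k = u * (q₁ ^ (i : ℕ) * q₂ ^ (j : ℕ)) := by
    have hstep : ∀ i j : Fin 2, ∀ y ∈ ({q₁, q₂} : Set A), ∃ u ∈ U, ∃ i' j' : Fin 2,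
        q₁ ^ (i : ℕ) * q₂ ^ (j : ℕ) * y = u * (q₁ ^ (i' : ℕ) * q₂ ^ (j' : ℕ)) := by
      intro i j y hy
      rcases hy with rfl | rfl <;> fin_cases i <;> fin_cases j <;>
        simp only [pow_zero, pow_one, one_mul, mul_one]
      · exact ⟨1, one_mem _, 1, 0, by simp⟩
      · exact ⟨D.ζ, hζU, 1, 1, by simp [h21]⟩
      · exact ⟨y * y, hl1, 0, 0, by simp⟩
      · exact ⟨D.ζ * (y * y), mul_mem hζU hl1, 0, 1, by
          rw [mul_assoc y, h21, ← mul_assoc y D.ζ, hζc y m1]; simp [mul_assoc]⟩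
      · exact ⟨1, one_mem _, 0, 1, by simp⟩
      · exact ⟨y * y, hl2, 0, 0, by simp⟩
      · exact ⟨1, one_mem _, 1, 1, by simp⟩
      · exact ⟨y * y, hl2, 1, 0, by rw [mul_assoc]; simp [hcU _ hl2 q₁ m1]⟩
    intro k hk
    induction hgen hk using Subgroup.closure_induction_right with
    | one => exact ⟨1, one_mem _, 0, 0, by simp⟩
    | mul_right x _ y hy ih =>
      obtain ⟨u, hu, i, j, rfl⟩ := ih (by
        have hyK : y ∈ D.K := by rcases hy with rfl | rfl <;> assumption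
        simpa using mul_mem hk (inv_mem hyK))
      obtain ⟨u', hu', i', j', e⟩ := hstep i j y hy
      exact ⟨u * u', mul_mem hu hu', i', j', by rw [mul_assoc u, e, ← mul_assoc]⟩
    | mul_inv_cancel x _ y hy ih =>
      have hyK : y ∈ D.K := by rcases hy with rfl | rfl <;> assumption
      obtain ⟨u, hu, i, j, rfl⟩ := ih (by simpa using mul_mem hk hyK)
      obtain ⟨u', hu', i', j', e⟩ := hstep i j y hy
      refine ⟨(y * y)⁻¹ * (u * u'), mul_mem (inv_mem (hsq y hyK)) (mul_mem hu hu'), i', j', ?_⟩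
      have hc := hcU _ (inv_mem (hsq y hyK)) (u * (q₁ ^ (i : ℕ) * q₂ ^ (j : ℕ)) * y)
        (mul_mem (mul_mem (D.le hu) (hK12 _ _)) hyK)
      rw [mul_assoc (y * y)⁻¹ (u * u'), mul_assoc u u', ← e, ← mul_assoc u (q₁ ^ (i : ℕ) * q₂ ^ (j : ℕ)) y, hc]
      group
  -- no square root of the sign
  have hnoi : ∀ w ∈ U, w * w ≠ D.ζ := by
    intro w hw hww
    haveI := F.cyclic
    obtain ⟨u, hu⟩ := IsCyclic.exists_zpow_surjective (G := U)
    obtain ⟨a, ha⟩ := hu ⟨_, hl1⟩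
    obtain ⟨b, hb⟩ := hu ⟨_, hl2⟩
    have ha' : (u : A) ^ a = q₁ * q₁ := congrArg Subtype.val ha
    have hb' : (u : A) ^ b = q₂ * q₂ := congrArg Subtype.val hb
    rcases Int.even_or_odd a with ⟨i, hi⟩ | ⟨i, hi⟩
    · exact hns q₁ m1 n1 _ (zpow_mem u.2 i) (by rw [← ha', hi, zpow_add])
    rcases Int.even_or_odd b with ⟨j, hj⟩ | ⟨j, hj⟩
    · exact hns q₂ m2 n2 _ (zpow_mem u.2 j) (by rw [← hb', hj, zpow_add])
    refine hns _ (mul_mem m1 m2) n12 _ (mul_mem hw (zpow_mem u.2 (i + j + 1))) ?_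
    have hc : Commute w ((u : A) ^ (i + j + 1)) := F.comm w hw _ (zpow_mem u.2 _)
    rw [hc.symm.mul_mul_mul_comm, hww, ← zpow_add, show i + j + 1 + (i + j + 1) = a + b by omega, zpow_add, ha',
      hb']
    calc q₁ * q₂ * (q₁ * q₂) = q₁ * (q₂ * q₁) * q₂ := by simp only [mul_assoc]
      _ = (q₁ * D.ζ) * (q₁ * q₂) * q₂ := by rw [h21]; simp only [mul_assoc]
      _ = _ := by rw [hζc q₁ m1]; simp only [mul_assoc]
  -- eight elements with square a sign
  let rep : ℕ → A := fun z =>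
    if h : ∃ q, SignSq D q ∧ ∃ u ∈ U, q = u * rep4 q₁ q₂ z then h.choose else 1
  have hcls : ∀ q, SignSq D q → ∃ z < 2 ^ 2, ∃ x, q = D.sc x * rep z := by
    intro q hq
    obtain ⟨u, hu, i, j, e⟩ := hcos q hq.1
    refine ⟨i + 2 * j, by omega, ?_⟩
    have hz : rep4 q₁ q₂ ((i : ℕ) + 2 * j) = q₁ ^ (i : ℕ) * q₂ ^ (j : ℕ) := by
      rw [rep4, show ((i : ℕ) + 2 * j) % 2 = i by omega, show ((i : ℕ) + 2 * j) / 2 = j by omega]
    have hex : ∃ q', SignSq D q' ∧ ∃ u ∈ U, q' = u * rep4 q₁ q₂ ((i : ℕ) + 2 * j) :=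
      ⟨q, hq, u, hu, by rw [hz, e]⟩
    obtain ⟨⟨hrK, y, hy⟩, u', hu', er⟩ := hex.choose_spec
    have hr : rep ((i : ℕ) + 2 * j) = hex.choose := dif_pos hex
    rw [← hr] at hrK hy er
    set r := rep ((i : ℕ) + 2 * j)
    rw [hz] at er
    have hv : u * u'⁻¹ ∈ U := mul_mem hu (inv_mem hu')
    have hqr : q = u * u'⁻¹ * r := by rw [er, e]; group
    obtain ⟨-, t, ht⟩ := hq
    have hcomm : Commute (u * u'⁻¹) r := hcU _ hv r hrK
    have hv2 : u * u'⁻¹ * (u * u'⁻¹) = D.sc (t + y) := by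
      rw [hqr, hcomm.symm.mul_mul_mul_comm, hy] at ht
      rw [D.sc_add, ← ht, mul_assoc _ (D.sc y), sc_self, mul_one]
    rcases zmod2_or (t + y) with h | h
    · rw [h, show D.sc (0 : ZMod 2) = 1 from zp_zero _] at hv2
      obtain ⟨x, hx⟩ := F.eq_zp hζU D.order hv (by rwa [sq])
      exact ⟨x, hqr.trans (by rw [hx])⟩
    · rw [h] at hv2
      exact absurd (hv2.trans (zp_one _)) (hnoi _ hv)
  have hcard : {q | SignSq D q}.ncard ≤ 2 * 2 ^ 2 := signSq_card D rep hcls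
  -- the first vector
  obtain ⟨u₀, hu₀, h00, b, hb, c, hc, hrel⟩ : ∃ u₀ ∈ D.W, u₀ ≠ 0 ∧ ∃ b ∈ scalars V U, ∃ c ∈ scalars V U,
      q₂ • u₀ = b (q₁ • u₀) + c u₀ := by
    obtain ⟨x, hx, hx0⟩ := (AddSubgroup.bot_or_exists_ne_zero D.W).resolve_left (D.W_ne_bot F)
    haveI := F.isDomain
    haveI : Finite (AddMonoid.End V) := Finite.of_injective (fun f => (f : V → V)) DFunLike.coe_injective
    letI : CommRing (scalars V U) :=
      { (inferInstance : Ring (scalars V U)) with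
        mul_comm := fun a b => Subtype.ext (CfsgLib.BaseTwo.scalars_comm F.comm a.2 b.2) }
    haveI : Fintype (scalars V U) := Fintype.ofFinite _
    let l1 : scalars V U := ⟨endo A V (q₁ * q₁), endo_mem_scalars hl1⟩
    let l2 : scalars V U := ⟨endo A V (q₂ * q₂), endo_mem_scalars hl2⟩
    have hl10 : l1 ≠ 0 := fun h => hx0 (by
      have := DFunLike.congr_fun (congrArg Subtype.val h) x
      exact (smul_eq_zero_iff_eq _).1 this)
    obtain ⟨a, b, hab⟩ : ∃ a b : scalars V U, a * a = l2 + b * b * l1 := by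
      have hfield : IsField (scalars V U) := Finite.isField_of_domain (scalars V U)
      letI := hfield.toField
      have hodd : Fintype.card (scalars V U) % 2 = 1 := by
        rw [← Nat.card_eq_fintype_card, hfq]
        exact Nat.odd_iff.1 ((Nat.Prime.odd_of_ne_two (Fact.out : p.Prime) hp2).pow)
      obtain ⟨a, b, hab⟩ := FiniteField.exists_root_sum_quadratic
        (f := (Polynomial.X ^ 2 : Polynomial (scalars V U)))
        (g := -(Polynomial.C l1) * Polynomial.X ^ 2 + Polynomial.C (-l2)) (Polynomial.degree_X_pow 2)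
        (by
          rw [Polynomial.degree_add_C (by
            rw [neg_mul, Polynomial.degree_neg, Polynomial.degree_C_mul_X_pow 2 hl10]; norm_num),
            neg_mul, Polynomial.degree_neg, Polynomial.degree_C_mul_X_pow 2 hl10]; rfl) hodd
      simp only [Polynomial.eval_pow, Polynomial.eval_X, Polynomial.eval_add, Polynomial.eval_mul,
        Polynomial.eval_neg, Polynomial.eval_C] at hab
      exact ⟨a, b, by linear_combination hab⟩
    let T : V → V := fun v => q₂ • v - (b : AddMonoid.End V) (q₁ • v)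
    have ha2 : ∀ v, (a : AddMonoid.End V) ((a : AddMonoid.End V) v) =
        (q₂ * q₂) • v + (b : AddMonoid.End V) ((b : AddMonoid.End V) ((q₁ * q₁) • v)) := fun v =>
      DFunLike.congr_fun (congrArg Subtype.val hab) v
    have hTT : T (T x) = (a : AddMonoid.End V) ((a : AddMonoid.End V) x) := by
      have e12 : q₁ • q₂ • x = -(q₂ • q₁ • x) := by rw [← mul_smul, ← mul_smul, h12, mul_smul, hneg]
      simp only [T, smul_sub, K_scalar D m1 b.2, K_scalar D m2 b.2, map_sub, e12, map_neg]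
      rw [ha2, mul_smul, mul_smul]
      abel
    have hTa : ∀ s ∈ scalars V U, ∀ v, T (s v) = s (T v) := fun s hs v => by
      simp only [T, K_scalar D m1 hs, K_scalar D m2 hs, map_sub]
      congr 1
      exact DFunLike.congr_fun (CfsgLib.BaseTwo.scalars_comm F.comm b.2 hs) _
    have hTadd : ∀ v w, T (v + w) = T v + T w := fun v w => by simp only [T, smul_add, map_add]; abel
    have hW : T x ∈ D.W := sub_mem (D.W_K hx m2) (D.W_scalar (D.W_K hx m1) b.2)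
    obtain ⟨u, hu, hu0, s, hs, hTu⟩ : ∃ u ∈ D.W, u ≠ 0 ∧ ∃ s ∈ scalars V U, T u = s u := by
      by_cases h : T x + (a : AddMonoid.End V) x = 0
      · exact ⟨x, hx, hx0, -a, neg_mem a.2, eq_neg_of_add_eq_zero_left h⟩
      · exact ⟨_, add_mem hW (D.W_scalar hx a.2), h, a, a.2, by
          rw [hTadd, hTa _ a.2, hTT, map_add]; abel⟩
    exact ⟨u, hu, hu0, b, b.2, s, hs, by rw [← hTu]; simp only [T]; abel⟩
  have hnl : q₁ • u₀ ∉ line U u₀ := by
    rintro ⟨s, hs, e⟩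
    have h2 : q₂ • u₀ = (b * s + c) u₀ := by rw [hrel, ← e]; rfl
    have hst : b * s + c ∈ scalars V U := add_mem (mul_mem hb hs) hc
    have e1 : q₁ • q₂ • u₀ = (b * s + c) (s u₀) := by rw [h2, K_scalar D m1 hst, ← e]
    have e2 : q₂ • q₁ • u₀ = s ((b * s + c) u₀) := by rw [← e, K_scalar D m2 hs, h2]
    have e3 : q₁ • q₂ • u₀ = -(q₂ • q₁ • u₀) := by rw [← mul_smul, ← mul_smul, h12, mul_smul, hneg]
    rw [e1, e2, show s ((b * s + c) u₀) = (b * s + c) (s u₀) from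
      DFunLike.congr_fun (CfsgLib.BaseTwo.scalars_comm F.comm hs hst) u₀] at e3
    have hzero : (b * s + c) (s u₀) = 0 := by
      obtain ⟨k, hk⟩ := (Nat.Prime.odd_of_ne_two (Fact.out : p.Prime) hp2)
      have h2 : (2 : ℕ) • (b * s + c) (s u₀) = 0 := by rw [two_nsmul, ← eq_neg_iff_add_eq_zero]; exact e3
      have h3 := hexp ((b * s + c) (s u₀))
      rwa [hk, add_nsmul, one_nsmul, mul_comm, mul_nsmul', h2, nsmul_zero, zero_add] at h3
    have hne : s u₀ ≠ 0 := by rw [e]; exact fun h => h00 ((smul_eq_zero_iff_eq _).1 h)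
    rw [F.eq_zero_of_apply hst hne hzero] at h2
    exact h00 ((smul_eq_zero_iff_eq _).1 h2)
  -- the plane
  set P : AddSubgroup V := line U u₀ ⊔ line U (q₁ • u₀) with hPdef
  have hPmem : ∀ {x}, x ∈ P ↔ ∃ s ∈ scalars V U, ∃ t ∈ scalars V U, s u₀ + t (q₁ • u₀) = x := fun {x} => by
    rw [hPdef, AddSubgroup.mem_sup]
    constructor
    · rintro ⟨_, ⟨s, hs, rfl⟩, _, ⟨t, ht, rfl⟩, rfl⟩; exact ⟨s, hs, t, ht, rfl⟩
    · rintro ⟨s, hs, t, ht, rfl⟩; exact ⟨_, ⟨s, hs, rfl⟩, _, ⟨t, ht, rfl⟩, rfl⟩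
  have hline : line U u₀ ≤ P := le_sup_left
  have hPs : ∀ {x}, x ∈ P → ∀ s ∈ scalars V U, s x ∈ P := fun {x} hx s hs => by
    obtain ⟨a, ha, t, ht, rfl⟩ := hPmem.1 hx
    exact hPmem.2 ⟨s * a, mul_mem hs ha, s * t, mul_mem hs ht, (map_add s _ _).symm⟩
  have hPu : u₀ ∈ P := hline ⟨1, one_mem _, rfl⟩
  have hPq : q₁ • u₀ ∈ P := AddSubgroup.mem_sup_right (⟨1, one_mem _, rfl⟩ : q₁ • u₀ ∈ line U (q₁ • u₀))
  have hgenP : ∀ k ∈ D.K, k • u₀ ∈ P → k • q₁ • u₀ ∈ P → ∀ x ∈ P, k • x ∈ P := fun k hk h1 h2 x hx => by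
    obtain ⟨s, hs, t, ht, rfl⟩ := hPmem.1 hx
    rw [smul_add, K_scalar D hk hs, K_scalar D hk ht]
    exact add_mem (hPs h1 s hs) (hPs h2 t ht)
  have hPUmul : ∀ u ∈ U, ∀ x ∈ P, u • x ∈ P := fun u hu x hx => hPs hx _ (endo_mem_scalars hu)
  have hP1 : ∀ x ∈ P, q₁ • x ∈ P := hgenP q₁ m1 hPq (by rw [← mul_smul]; exact hPUmul _ hl1 _ hPu)
  have hP2 : ∀ x ∈ P, q₂ • x ∈ P := by
    have h : q₂ • u₀ ∈ P := by rw [hrel]; exact add_mem (hPs hPq b hb) (hline ⟨c, hc, rfl⟩)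
    refine hgenP q₂ m2 h ?_
    rw [← mul_smul, h21, mul_smul, mul_smul]
    exact hPUmul _ hζU _ (hP1 _ h)
  have hPK : ∀ k ∈ D.K, ∀ x ∈ P, k • x ∈ P := fun k hk x hx => by
    obtain ⟨u, hu, i, j, rfl⟩ := hcos k hk
    rw [mul_smul, mul_smul]
    refine hPUmul u hu _ ?_
    fin_cases i <;> fin_cases j <;> simp only [pow_zero, pow_one, one_smul]
    · exact hx
    · exact hP2 _ hx
    · exact hP1 _ hx
    · exact hP1 _ (hP2 _ hx)
  have hPW : P ≤ D.W := fun x hx => by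
    obtain ⟨s, hs, t, ht, rfl⟩ := hPmem.1 hx
    exact add_mem (D.W_scalar hu₀ hs) (D.W_scalar (D.W_K hu₀ m1) ht)
  have hPg : ∀ g : A, g • u₀ = u₀ → ∀ x ∈ P, g • x ∈ P := fun g hg x hx => by
    obtain ⟨s, hs, t, ht, rfl⟩ := hPmem.1 hx
    have hinv : g⁻¹ • u₀ = u₀ := inv_smul_eq_iff.2 hg.symm
    rw [smul_add]
    refine add_mem (hline (line_inv F hg _ ⟨s, hs, rfl⟩)) ?_
    obtain ⟨k', hk', b', e⟩ := conj_K F D hu₀ h00 hg m1
    have e' : g • q₁ • u₀ = k' • u₀ := by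
      have := congrArg (fun a : A => a • u₀) e
      simp only [mul_smul, hinv, hu₀ b'] at this
      exact this
    rw [show g • t (q₁ • u₀) = CfsgLib.BaseTwo.conjEnd g t (g • q₁ • u₀) by
      rw [CfsgLib.BaseTwo.conjEnd_apply, inv_smul_smul], e']
    exact hPs (hPK k' hk' _ hPu) _ (CfsgLib.BaseTwo.conjEnd_mem_scalars F.normal g ht)
  let H := MulAction.stabilizer A u₀
  obtain ⟨M, hMP, hM, hMinf, hMsup⟩ := crOn_coprime hexp (H := H)
    (fun h => hp (h.trans H.card_subgroup_dvd_card)) (W := P) (fun g hg => hPg g hg) (line U u₀) hline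
    (fun g hg => line_inv F hg)
  obtain ⟨_, ⟨s₁, hs₁, rfl⟩, y, hy, hy'⟩ := AddSubgroup.mem_sup.1 (hMsup.symm ▸ hPq : q₁ • u₀ ∈ line U u₀ ⊔ M)
  -- vectors forcing the plane to be fixed
  have hfix1 : ∀ g : A, g • u₀ = u₀ → g • (γ u₀ + y) = γ u₀ + y →
      (∀ x ∈ P, g • x = x) ∧ ∀ k ∈ D.K, ∃ b, g * k * g⁻¹ = k * D.X b := by
    intro g hg hw
    obtain ⟨e1, e2⟩ := fix_split hMinf (line_inv F hg) (fun x hx => hM g hg x hx)
      (show γ u₀ ∈ line U u₀ from ⟨γ, hγ, rfl⟩) hy hw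
    obtain ⟨-, hgs⟩ := fixed_scalars F hγ hγgen h00 hg e1
    have hq : g • q₁ • u₀ = q₁ • u₀ := by rw [← hy', smul_add, hgs _ hs₁, hg, e2]
    have hPfix : ∀ x ∈ P, g • x = x := fun x hx => by
      obtain ⟨s, hs, t, ht, rfl⟩ := hPmem.1 hx
      rw [smul_add, hgs s hs, hgs t ht, hg, hq]
    refine ⟨hPfix, fun k hk => ?_⟩
    obtain ⟨k', hk', b', e⟩ := conj_K F D hu₀ h00 hg hk
    have e' := congrArg (fun a : A => a • u₀) e
    simp only [mul_smul, inv_smul_eq_iff.2 hg.symm, hu₀ b', hPfix _ (hPK k hk _ hPu)] at e'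
    have hkk : k'⁻¹ * k = 1 := D.semireg _ (mul_mem (inv_mem hk') hk) u₀ h00 (by rw [mul_smul, e', inv_smul_smul])
    exact ⟨b', by rw [e, inv_mul_eq_one.1 hkk]⟩
  have hγy : γ u₀ + y ∈ D.W := add_mem (D.W_scalar hu₀ hγ) (hPW (hMP hy))
  have finish : ∀ f : (Fin d → ZMod 2) → V, (∀ a, a ≠ 0 → f a ∈ P) → Lift D f →
      BaseOn (⊤ : Subgroup A) (⊤ : AddSubgroup V) := fun f hf hl =>
    base_of_lift F D hEU hu₀ h00 hγy f (fun a ha => hPW (hf a ha))
      (fun g hg hg' a ha => (hfix1 g hg hg').1 _ (hf a ha)) (fun g hg hg' => (hfix1 g hg hg').2)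
      fun g _ _ κ τ β h1 h2 h3 h4 h5 _ => hl κ τ β h1 h2 h3 h4 h5
  by_cases hd0 : d = 0
  · subst hd0
    exact finish (fun _ => 0) (fun _ _ => zero_mem _) fun κ τ β _ _ _ h0 _ =>
      ⟨fun a => Subsingleton.elim _ _, fun a => by rw [Subsingleton.elim a 0, h0]⟩
  by_cases h15 : d = 1 ∨ 5 ≤ d
  · obtain ⟨f, hf, hl⟩ := lift_one F D h15 h00
    refine finish f (fun a ha => ?_) hl
    rcases hf a ha with e | ⟨s, hs, e⟩
    · rw [e]; exact zero_mem _
    · rw [e]; exact hline ⟨s, hs, rfl⟩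
  have hd24 : d = 2 ∨ d = 3 ∨ d = 4 := by omega
  set q := Nat.card (scalars V U) with hqdef
  by_cases hq5 : 5 ≤ q
  · let T : Set V := {x | x ≠ 0 ∧ ∃ s ∈ scalars V U, ∃ t ∈ scalars V U, x = s u₀ + t (q₁ • u₀)}
    have hTn : q * q - 1 ≤ T.ncard := ncard_span F h00 hnl
    have h25 : 5 * 5 ≤ q * q := Nat.mul_le_mul hq5 hq5
    have byT : ∀ k, Rigid 2 d k → k ≤ 3 → BaseOn (⊤ : Subgroup A) (⊤ : AddSubgroup V) := fun k hR hk => by
      have hlt : (k - 1) * (2 * 2 ^ 2) < T.ncard := by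
        have := Nat.mul_le_mul_right (2 * 2 ^ 2) (show k - 1 ≤ 2 by omega)
        norm_num at this ⊢
        omega
      obtain ⟨f, hf, hl⟩ := lift_separated F D hR hcard T (fun x hx => hx.1) hlt
      refine finish f (fun a ha => ?_) hl
      rcases hf a ha with e | ⟨-, s, hs, t, ht, e⟩
      · rw [e]; exact zero_mem _
      · exact hPmem.2 ⟨s, hs, t, ht, e.symm⟩
    rcases hd24 with h | h | h <;> subst h
    · exact byT 3 rigid_two le_rfl
    · exact byT 3 rigid_three le_rfl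
    · exact byT 2 rigid_four (by norm_num)
  -- three scalars
  have hodd : ¬ 2 ∣ q := fun h => by
    rw [hfq] at h
    exact hp2 ((Nat.prime_dvd_prime_iff_eq Nat.prime_two (Fact.out : p.Prime)).1
      (Nat.prime_two.dvd_of_dvd_pow h)).symm
  have hq3' : q = 3 := by omega
  have hp3 : p = 3 := (Nat.prime_dvd_prime_iff_eq (Fact.out : p.Prime) Nat.prime_three).1 (hq3' ▸ hpq)
  have hqp : q = p := hq3'.trans hp3.symm
  have hUsc : ∀ u ∈ U, ∃ x, u = D.sc x := by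
    intro u hu
    obtain ⟨k, hk⟩ := hprime hqp _ (endo_mem_scalars (V := V) hu)
    refine F.eq_zp hζU D.order hu (F.endo_inj ?_)
    refine DFunLike.ext _ _ fun v => ?_
    show (u ^ 2) • v = (1 : A) • v
    have hk' : ∀ v : V, u • v = k • v := fun v => DFunLike.congr_fun hk v
    rw [sq, mul_smul, hk', hk', ← mul_nsmul', one_smul]
    rw [nsmul_eq_mod_nsmul _ (hexp v), hp3]
    have h3 : k % 3 ≠ 0 := fun h => by
      have h0 : u • v = 0 ∨ v = 0 := by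
        left
        rw [hk', nsmul_eq_mod_nsmul _ (hexp v), hp3, h, zero_nsmul]
      obtain ⟨w, hw⟩ := F.nt
      have := hk' w
      rw [nsmul_eq_mod_nsmul _ (hexp w), hp3, h, zero_nsmul, smul_eq_zero_iff_eq] at this
      exact hw this
    rw [Nat.mul_mod]
    rcases (show k % 3 = 1 ∨ k % 3 = 2 by omega) with h | h <;> rw [h] <;> simp
  have hsqζ : ∀ q ∈ D.K, q ∉ U → q * q = D.ζ := fun q hq hqU => by
    obtain ⟨x, hx⟩ := hUsc _ (hsq q hq)
    rcases zmod2_or x with rfl | rfl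
    · exact absurd (hx.trans (zp_zero _)) (by simpa using hns q hq hqU 1 (one_mem _))
    · exact hx.trans (zp_one _)
  have h11 := hsqζ q₁ m1 n1
  have h22 := hsqζ q₂ m2 n2
  have hgenK : ∀ k ∈ D.K, ∃ (x : ZMod 2) (i j : Fin 2), k = D.sc x * (q₁ ^ (i : ℕ) * q₂ ^ (j : ℕ)) := fun k hk => by
    obtain ⟨u, hu, i, j, e⟩ := hcos k hk
    obtain ⟨x, rfl⟩ := hUsc u hu
    exact ⟨x, i, j, e⟩
  have hsc0 : D.sc 0 = 1 := zp_zero _
  have hsc1 : D.sc 1 = D.ζ := zp_one _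
  by_cases h2 : d = 2
  · subst h2
    by_cases hW : ∀ w ∈ D.W, w ∈ P
    · refine hexc u₀ hu₀ h00 h11 h22 hgenK (fun w hw => ?_) hp3 rfl
      obtain ⟨s, hs, t, ht, rfl⟩ := hPmem.1 (hW w hw)
      obtain ⟨k, rfl⟩ := hprime hqp s hs
      obtain ⟨k', rfl⟩ := hprime hqp t ht
      exact ⟨k, k', rfl⟩
    push Not at hW
    let HK : Subgroup A :=
      { carrier := {g | (∀ x, g • x ∈ D.W ↔ x ∈ D.W) ∧ ∀ x, g • x ∈ P ↔ x ∈ P}
        one_mem' := ⟨fun x => by rw [one_smul], fun x => by rw [one_smul]⟩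
        mul_mem' := fun {g h} hg hh => ⟨fun x => by rw [mul_smul, hg.1, hh.1], fun x => by rw [mul_smul, hg.2, hh.2]⟩
        inv_mem' := fun {g} hg => ⟨fun x => by rw [← hg.1 (g⁻¹ • x), smul_inv_smul],
          fun x => by rw [← hg.2 (g⁻¹ • x), smul_inv_smul]⟩ }
    have hHK : H ⊔ D.K ≤ HK := sup_le
      (fun g hg => ⟨fun x => ⟨fun h => by simpa using W_inv F D hu₀ h00 g⁻¹ (inv_mem hg : g⁻¹ ∈ H) _ h,
          W_inv F D hu₀ h00 g hg x⟩,
        fun x => ⟨fun h => by simpa using hPg g⁻¹ (inv_mem hg : g⁻¹ ∈ H) _ h, hPg g hg x⟩⟩)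
      (fun k hk => ⟨fun x => ⟨fun h => by simpa using D.W_K h (inv_mem hk), fun h => D.W_K h hk⟩,
        fun x => ⟨fun h => by simpa using hPK k⁻¹ (inv_mem hk) _ h, hPK k hk x⟩⟩)
    obtain ⟨L, hLW, hL, hLinf, hLsup⟩ := crOn_coprime hexp (H := HK)
      (fun h => hp (h.trans HK.card_subgroup_dvd_card)) (W := D.W) (fun g hg x hx => (hg.1 x).2 hx) P hPW
      (fun g hg x hx => (hg.2 x).2 hx)
    obtain ⟨z, hz, hz0⟩ : ∃ z ∈ L, z ≠ 0 := by
      by_contra hno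
      push Not at hno
      obtain ⟨w, hw, hwP⟩ := hW
      rw [← hLsup] at hw
      exact hwP ((sup_le le_rfl (fun x hx => by rw [hno x hx]; exact zero_mem _) : P ⊔ L ≤ P) hw)
    have hfix2 : ∀ g : A, g • u₀ = u₀ → g • (γ u₀ + y + z) = γ u₀ + y + z →
        g • (γ u₀ + y) = γ u₀ + y ∧ g • z = z := fun g hg h =>
      fix_split hLinf (hPg g hg) (fun x hx => hL g (hHK (Subgroup.mem_sup_left hg)) x hx)
        (add_mem (hline ⟨γ, hγ, rfl⟩) (hMP hy)) hz h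
    let l : ℕ → V := fun i => if i = 0 then 0 else if i = 1 then u₀ else if i = 2 then z else u₀ + z
    have hsum : ∀ {x y : V}, x ∈ P → y ∈ L → x + y = 0 → x = 0 ∧ y = 0 := fun {x y} hx hy e => by
      have : x ∈ P ⊓ L := ⟨hx, by rw [eq_neg_of_add_eq_zero_left e]; exact L.neg_mem hy⟩
      rw [hLinf, AddSubgroup.mem_bot] at this
      subst this
      exact ⟨rfl, by rwa [zero_add] at e⟩
    have hl : ∀ i, 1 ≤ i → i ≤ 3 → ∃ ε δ : Bool, l i = (if ε then u₀ else 0) + (if δ then z else 0) ∧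
        (i = 1 ↔ ε = true ∧ δ = false) ∧ (i = 2 ↔ ε = false ∧ δ = true) ∧ (ε = true ∨ δ = true) := by
      intro i h1 h3
      interval_cases i
      · exact ⟨true, false, by simp [l], by simp, by simp, by simp⟩
      · exact ⟨false, true, by simp [l], by simp, by simp, by simp⟩
      · exact ⟨true, true, by simp [l], by simp, by simp, by simp⟩
    obtain ⟨f, hf, hlift⟩ := lift_rigid D rigid_two l rfl (fun i h1 h3 e => by
      obtain ⟨ε, δ, el, -, -, hne⟩ := hl i h1 h3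
      rw [el] at e
      obtain ⟨e1, e2⟩ := hsum (by split_ifs <;> first | exact hPu | exact zero_mem _)
        (by split_ifs <;> first | exact hz | exact zero_mem _) e
      rcases hne with rfl | rfl <;> simp [h00, hz0] at e1 e2) (fun k hk i j h1 h3 h1' h3' e => by
      obtain ⟨ε, δ, el, a1, a2, -⟩ := hl i h1 h3
      obtain ⟨ε', δ', el', a1', a2', -⟩ := hl j h1' h3'
      rw [el, el', smul_add] at e
      have mP : ∀ ε : Bool, (if ε then u₀ else 0 : V) ∈ P := fun ε => by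
        cases ε <;> simp [hPu]
      have mL : ∀ δ : Bool, (if δ then z else 0 : V) ∈ L := fun δ => by
        cases δ <;> simp [hz]
      obtain ⟨e1, e2⟩ := hsum (sub_mem (hPK k hk.1 _ (mP ε)) (mP ε'))
        (sub_mem (hL k (hHK (Subgroup.mem_sup_right hk.1)) _ (mL δ)) (mL δ'))
        (show (k • (if ε then u₀ else 0) - if ε' then u₀ else 0) + (k • (if δ then z else 0) - if δ' then z else 0) = 0
          by linear_combination (norm := abel) e)
      have q1 : ε = ε' := by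
        cases ε <;> cases ε' <;> simp [smul_eq_zero_iff_eq, h00, Ne.symm h00] at e1 ⊢
      have q2 : δ = δ' := by
        cases δ <;> cases δ' <;> simp [smul_eq_zero_iff_eq, hz0, Ne.symm hz0] at e2 ⊢
      subst q1 q2
      by_cases x1 : i = 1
      · exact x1.trans (a1'.2 (a1.1 x1)).symm
      by_cases x2 : i = 2
      · exact x2.trans (a2'.2 (a2.1 x2)).symm
      have y1 : j ≠ 1 := fun h => x1 (a1.2 (a1'.1 h))
      have y2 : j ≠ 2 := fun h => x2 (a2.2 (a2'.1 h))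
      omega)
    have hγz : γ u₀ + y + z ∈ D.W := add_mem hγy (hLW hz)
    have hlW : ∀ i, l i ∈ D.W := fun i => by
      simp only [l]; split_ifs <;> first | exact zero_mem _ | exact hu₀ | exact hLW hz | exact add_mem hu₀ (hLW hz)
    refine base_of_lift F D hEU hu₀ h00 hγz f (fun a ha => ?_) (fun g hg hg' a ha => ?_)
      (fun g hg hg' => (hfix1 g hg (hfix2 g hg hg').1).2) fun g _ _ κ τ β h1 h2 h3 h4 h5 _ => hlift κ τ β h1 h2 h3 h4 h5
    · obtain ⟨i, -, e⟩ := hf a ha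
      rw [e]; exact hlW i
    · obtain ⟨i, -, e⟩ := hf a ha
      rw [e]
      simp only [l]
      split_ifs <;> simp [hg, (hfix2 g hg hg').2]
  -- three or four coordinates
  have hsc : ∀ x, ∀ k ∈ D.K, k * D.sc x = D.sc x * k := fun x k hk => D.sc_commK x hk
  have hζm : ∀ w : A, q₁ * (D.ζ * w) = D.ζ * (q₁ * w) ∧ q₂ * (D.ζ * w) = D.ζ * (q₂ * w) := fun w =>
    ⟨by rw [← mul_assoc, hζc q₁ m1, mul_assoc], by rw [← mul_assoc, hζc q₂ m2, mul_assoc]⟩
  have r11 : ∀ w : A, q₁ * (q₁ * w) = D.ζ * w := fun w => by rw [← mul_assoc, h11]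
  have r22 : ∀ w : A, q₂ * (q₂ * w) = D.ζ * w := fun w => by rw [← mul_assoc, h22]
  have r21 : ∀ w : A, q₂ * (q₁ * w) = D.ζ * (q₁ * (q₂ * w)) := fun w => by
    rw [← mul_assoc, h21]; simp only [mul_assoc]
  have rzz : ∀ w : A, D.ζ * (D.ζ * w) = w := fun w => by rw [← mul_assoc, hζ2, one_mul]
  have hrep : ∀ z < 2 ^ 2, rep4 q₁ q₂ z ∈ D.K := fun z _ => hK12 _ _
  have hmul : ∀ z < 2 ^ 2, ∀ z' < 2 ^ 2, ∃ x,
      rep4 q₁ q₂ z * rep4 q₁ q₂ z' = D.sc x * rep4 q₁ q₂ (z ^^^ z') := by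
    intro z hz z' hz'
    norm_num at hz hz'
    interval_cases z <;> interval_cases z'
    all_goals first
      | (refine ⟨0, ?_⟩; simp [rep4, hsc0, hsc1, mul_assoc, h11, h22, h21, r11, r22, r21, rzz, hζ2, (hζm _).1,
          (hζm _).2, hζc q₁ m1, hζc q₂ m2]; done)
      | (refine ⟨1, ?_⟩; simp [rep4, hsc0, hsc1, mul_assoc, h11, h22, h21, r11, r22, r21, rzz, hζ2, (hζm _).1,
          (hζm _).2, hζc q₁ m1, hζc q₂ m2]; done)
  have hrep4U : ∀ z < 2 ^ 2, rep4 q₁ q₂ z ∈ U → z = 0 := by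
    intro z hz h
    norm_num at hz
    interval_cases z
    · rfl
    · simp [rep4] at h; exact absurd h n1
    · simp [rep4] at h; exact absurd h n2
    · simp [rep4] at h; exact absurd h n12
  have huq : ∀ z < 2 ^ 2, ∀ z' < 2 ^ 2, ∀ x, D.sc x * rep4 q₁ q₂ z = rep4 q₁ q₂ z' → z = z' := by
    intro z hz z' hz' x hx
    obtain ⟨a, ha⟩ := hmul z hz z hz
    obtain ⟨b, hb⟩ := hmul z hz z' hz'
    rw [← hx, ← mul_assoc, hsc x _ (hrep z hz), mul_assoc, ha, ← mul_assoc, ← D.sc_add] at hb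
    have hU : rep4 q₁ q₂ (z ^^^ z') ∈ U := by
      have e : rep4 q₁ q₂ (z ^^^ z') = D.sc b * (D.sc (x + a) * rep4 q₁ q₂ (z ^^^ z)) := by
        rw [hb, ← mul_assoc, sc_self, one_mul]
      rw [e, Nat.xor_self]
      exact mul_mem (D.sc_mem _) (mul_mem (D.sc_mem _) (by simp [rep4]))
    exact Nat.xor_eq_zero_iff.1 (hrep4U _ (Nat.xor_lt_two_pow hz hz') hU)
  have hcls4 : ∀ q, SignSq D q → ∃ z < 2 ^ 2, ∃ x, q = D.sc x * rep4 q₁ q₂ z := fun q hq => by
    obtain ⟨x, i, j, e⟩ := hgenK q hq.1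
    refine ⟨i + 2 * j, by omega, x, ?_⟩
    rw [rep4, show ((i : ℕ) + 2 * j) % 2 = i by omega, show ((i : ℕ) + 2 * j) / 2 = j by omega, e]
  obtain ⟨f, hf, hl⟩ := lift_shift D (e := 2) (k := 1)
    (show RigidShift d 2 1 by
      rcases hd24 with h | h | h
      · exact absurd h h2
      · subst h; exact rigid_shift_three_two
      · subst h; exact rigid_shift_four_two)
    (fun i => if i = 0 then 0 else u₀) rfl (fun i h1 _ => by rw [if_neg (by omega)]; exact h00)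
    (rep4 q₁ q₂) hrep hcls4 hmul huq (fun _ _ _ _ _ _ i j h1 h2 h3 h4 _ => by omega)
  refine finish f (fun a ha => ?_) hl
  obtain ⟨z, hz, i, -, e⟩ := hf a ha
  rw [e]
  refine hPK _ (hrep z hz) _ ?_
  split_ifs
  · exact zero_mem _
  · exact hPu

end CfsgLib.BaseCop
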