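import Cfsg.Agent.Lib.BaseTwo.Main
import Cfsg.Agent.Lib.BaseCop.Blocks
import Cfsg.Agent.Lib.BaseCop.OddCase
import Cfsg.Agent.Lib.BaseCop.TwoData
import Cfsg.Agent.Lib.BaseCop.TwoQuat
import Cfsg.Agent.Lib.BaseCop.Exceptional

/-!
Coprime solvable linear groups have bases of size two, given the finite certificates.
-/

set_option autoImplicit false
set_option linter.unusedSectionVars false
set_option linter.style.haveILetI false

namespace CfsgLib.BaseCop

open CfsgLib.BaseTwo (Inv CROn BaseOn Irr FieldCase endo conjEnd conjEnd_apply scalars endo_mem_scalars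
  conjEnd_mem_scalars sympData_of_minimal)

universe u

/-- the finite certificates -/
def Certs : Prop :=
  (∀ p d : ℕ, (p = 3 ∧ 2 ≤ d ∧ d ≤ 4 ∨ p = 5 ∧ 2 ≤ d ∧ d ≤ 4) → SmallHyp.{u} p d) ∧ SmallMinusHyp.{u}

/-- the irreducible step -/
theorem base_irreducible (hC₀ : Certs.{u}) {A V : Type u} [Group A] [Finite A] [AddCommGroup V] [Finite V]
    [DistribMulAction A V] (hA : Group.IsSolvable A) (hcop : (Nat.card A).Coprime (Nat.card V))
    {p : ℕ} [Fact p.Prime] (hp : ¬ p ∣ Nat.card A) (hp2 : p ≠ 2) (hexp : ∀ v : V, p • v = 0)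
    {N : ℕ} (hcard : Nat.card A ≤ N) (hL : LinHypC.{u} (N - 1))
    (hf : ∀ a : A, (∀ v : V, a • v = v) → a = 1) (hirr : Irr A V) (hV : ∃ v : V, v ≠ 0) :
    BaseOn (⊤ : Subgroup A) (⊤ : AddSubgroup V) := by
  classical
  obtain ⟨U, hU, hUmax⟩ := Set.Finite.exists_maximal
    (s := {W : Subgroup A | W.Normal ∧ ∀ x ∈ W, ∀ y ∈ W, x * y = y * x}) (Set.toFinite _)
    ⟨⊥, inferInstance, fun x hx y hy => by rw [Subgroup.mem_bot.1 hx, Subgroup.mem_bot.1 hy]⟩
  rcases scalars_cases hA hcop hp hp2 hexp hcard hL hirr hU.1 hU.2 with h | h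
  · exact h
  have F : FieldCase A V U := ⟨hV, hU.1, hU.2, h, hf⟩
  have hmax : ∀ W : Subgroup A, W.Normal → U ≤ W → (∀ x ∈ W, ∀ y ∈ W, x * y = y * x) → W = U :=
    fun W hW hle hc => le_antisymm (hUmax ⟨hW, hc⟩ hle) hle
  by_cases hC : Subgroup.centralizer (U : Set A) = U
  · obtain ⟨γ, hγ, hγ0, hgen⟩ := F.exists_units_generator
    obtain ⟨v, hv⟩ := hV
    refine ⟨v, trivial, γ v, trivial, fun a _ h1 h2 x _ => ?_⟩
    have haU : a ∈ U := by
      rw [← hC]
      refine Subgroup.mem_centralizer_iff.2 fun u hu => ?_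
      exact (mul_inv_eq_iff_eq_mul.1 ((fixed_scalars F hγ hgen hv h1 h2).1 u hu)).symm
    by_cases ha : a = 1
    · rw [ha, one_smul]
    · exact absurd (F.eq_zero_of_smul_eq haU ha h1) hv
  by_cases hodd : ∃ E : Subgroup A, E.Normal ∧ U < E ∧ E ≤ Subgroup.centralizer (U : Set A) ∧
      (∀ K : Subgroup A, K.Normal → U ≤ K → K ≤ E → K = U ∨ K = E) ∧ ∃ x ∈ E, x * x ∉ U
  · obtain ⟨E, hEn, hUE, hEC, hmin, hsq⟩ := hodd
    obtain ⟨r, d, ⟨S⟩⟩ := sympData_of_minimal hA F hmax E hEn hUE hEC hmin hsq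
    exact base_of_sympData hA hcop hp hp2 hexp hcard hL F S
  haveI : Fact (Nat.Prime 2) := ⟨Nat.prime_two⟩
  obtain ⟨d, D, hEU, hcases⟩ := exists_two_data hA F hmax hC fun E hEn hUE hEC hmin x hx => by
    by_contra hx'
    exact hodd ⟨E, hEn, hUE, hEC, hmin, x, hx, hx'⟩
  rcases hcases with ⟨hKU, hd⟩ | ⟨q₁, hq₁, q₂, hq₂, n1, n2, h12, hgen, hsq, hcent, hns⟩
  · exact base_two_scalar F D hp hp2 hexp hEU hKU hd fun u₀ hu₀ h00 hW hsmall =>
      base_exceptional F D hA hp hexp hu₀ h00 hW (hC₀.1 p d hsmall)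
  · refine base_two_quat F D hp hp2 hexp hEU ⟨hq₁, hq₂, n1, n2, h12, hgen, hsq, hcent, hns⟩
      fun u₀ hu₀ h00 h11 h22 hgenK hW hp3 hd2 => ?_
    subst hd2
    subst hp3
    exact base_exceptional_minus F D hA hp hexp hu₀ h00 hq₁ hq₂ h11 h22 h12 hgenK hW hC₀.2

theorem hyps (hC₀ : Certs.{u}) : ∀ N : ℕ, LinHypC.{u} N := by
  intro N
  induction N using Nat.strong_induction_on with
  | _ N ih =>
    intro A V _ _ _ _ _ hA hcop hcard hcr
    have hN : 0 < N := lt_of_lt_of_le Nat.card_pos hcard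
    by_cases h2 : 2 ∣ Nat.card V
    · refine (CfsgLib.BaseTwo.hyps.{u} N).1 A V ?_ hcard hcr
      rw [← Nat.not_even_iff_odd, even_iff_two_dvd]
      exact fun h => Nat.prime_two.ne_one (Nat.dvd_one.1 (hcop ▸ Nat.dvd_gcd h h2))
    have hL := ih (N - 1) (by omega)
    refine CfsgLib.BaseTwo.baseOn_of_irr (fun W hW hmin => ?_) ⊤ (fun _ _ _ _ => trivial) hcr
    by_cases hW0 : ∃ x : W, x ≠ 0
    swap
    · push Not at hW0
      exact ⟨0, zero_mem _, 0, zero_mem _, fun a _ _ _ x hx => by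
        rw [show x = 0 from congrArg Subtype.val (hW0 ⟨x, hx⟩), smul_zero]⟩
    letI : DistribMulAction A W :=
      { smul := fun a x => ⟨a • (x : V), hW a trivial x x.2⟩
        one_smul := fun x => Subtype.ext (one_smul A (x : V))
        mul_smul := fun a b x => Subtype.ext (mul_smul a b (x : V))
        smul_zero := fun a => Subtype.ext (smul_zero a)
        smul_add := fun a x y => Subtype.ext (smul_add a (x : V) y) }
    let φ := MulAction.toPermHom A W
    let A' := A ⧸ φ.ker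
    letI : MulAction A' W := MulAction.compHom W (QuotientGroup.kerLift φ)
    have hψ : ∀ a : A, ∀ x : W, (QuotientGroup.mk a : A') • x = a • x := fun a x => rfl
    letI : DistribMulAction A' W :=
      { (inferInstance : MulAction A' W) with
        smul_zero := fun a' => QuotientGroup.induction_on a' fun a => (hψ a 0).trans (smul_zero a)
        smul_add := fun a' x y => QuotientGroup.induction_on a' fun a => by
          show (QuotientGroup.mk a : A') • (x + y) = (QuotientGroup.mk a : A') • x + (QuotientGroup.mk a : A') • y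
          rw [hψ, hψ, hψ, smul_add] }
    have hirr : Irr A' W := by
      intro Y hY
      rcases hmin (Y.map W.subtype) (by rintro _ ⟨y, -, rfl⟩; exact y.2) (by
        rintro a - _ ⟨y, hy, rfl⟩
        exact ⟨_, hY (QuotientGroup.mk a) trivial y hy, by rw [hψ]; rfl⟩) with h | h
      · refine Or.inl ((AddSubgroup.eq_bot_iff_forall _).2 fun y hy => Subtype.ext ?_)
        have h' : (y : V) ∈ Y.map W.subtype := ⟨y, hy, rfl⟩
        rwa [h, AddSubgroup.mem_bot] at h'
      · refine Or.inr (eq_top_iff.2 fun y _ => ?_)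
        obtain ⟨z, hz, e⟩ : (y : V) ∈ Y.map W.subtype := by rw [h]; exact y.2
        rwa [show z = y from Subtype.ext e] at hz
    haveI := hA
    have hA' : Group.IsSolvable A' := Group.isSolvable_of_surjective (QuotientGroup.mk'_surjective _)
    have hdvd : Nat.card A' ∣ Nat.card A := Subgroup.card_quotient_dvd_card _
    have hcop' : (Nat.card A').Coprime (Nat.card W) :=
      (hcop.coprime_dvd_left hdvd).coprime_dvd_right W.card_addSubgroup_dvd_card
    obtain ⟨p, hp, hpW, hexp⟩ := exists_exponent hirr hW0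
    haveI := Fact.mk hp
    have hpA : ¬ p ∣ Nat.card A' := fun h => hp.ne_one (Nat.dvd_one.1 (hcop' ▸ Nat.dvd_gcd h hpW))
    obtain ⟨v, -, w, -, hb⟩ := base_irreducible hC₀ (A := A') (V := W) hA' hcop' hpA
      (fun h => h2 (h ▸ hpW.trans W.card_addSubgroup_dvd_card)) hexp
      (le_trans (Nat.le_of_dvd Nat.card_pos hdvd) hcard) hL
      (fun a' h => QuotientGroup.kerLift_injective φ (by
        rw [map_one]
        exact Equiv.ext h)) hirr hW0
    refine ⟨v, v.2, w, w.2, fun a _ h1 h2 x hx => ?_⟩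
    exact congrArg Subtype.val (hb (QuotientGroup.mk a) trivial (Subtype.ext h1) (Subtype.ext h2) ⟨x, hx⟩ trivial)

/-- a coprime solvable linear group has a base of size two -/
theorem exists_base_coprime (hC₀ : Certs.{u}) {A : Type*} {V : Type u} [Group A] [Finite A] [AddCommGroup V]
    [Finite V] [DistribMulAction A V] [FaithfulSMul A V] (hA : Group.IsSolvable A)
    (hcop : (Nat.card A).Coprime (Nat.card V)) (hcr : CROn (⊤ : Subgroup A) (⊤ : AddSubgroup V)) :
    ∃ v w : V, ∀ a : A, a • v = v → a • w = w → a = 1 := by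
  let φ := MulAction.toPermHom A V
  have hinj : Function.Injective φ := fun a b h => eq_of_smul_eq_smul fun v : V =>
    DFunLike.congr_fun h v
  let A' := φ.range
  letI : DistribMulAction A' V :=
    { smul := fun g x => (g : Equiv.Perm V) x
      one_smul := fun x => rfl
      mul_smul := fun g h x => rfl
      smul_zero := fun g => by obtain ⟨_, a, rfl⟩ := g; exact smul_zero a
      smul_add := fun g x y => by obtain ⟨_, a, rfl⟩ := g; exact smul_add a x y }
  haveI := hA
  have hsol : Group.IsSolvable A' := Group.isSolvable_of_surjective φ.rangeRestrict_surjective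
  have hcr' : CROn (⊤ : Subgroup A') (⊤ : AddSubgroup V) := by
    intro X hX hXi
    obtain ⟨Y, hY, hYi, h1, h2⟩ := hcr X hX (fun a _ x hx => hXi ⟨φ a, a, rfl⟩ trivial x hx)
    exact ⟨Y, hY, fun a' _ x hx => by
      obtain ⟨_, a, rfl⟩ := a'
      exact hYi a trivial x hx, h1, h2⟩
  obtain ⟨v, -, w, -, h⟩ := hyps hC₀ (Nat.card A') A' V hsol
    (hcop.coprime_dvd_left (Subgroup.card_range_dvd φ)) le_rfl hcr'
  refine ⟨v, w, fun a h1 h2 => hinj ?_⟩
  rw [map_one]
  exact Equiv.ext fun x => h ⟨φ a, a, rfl⟩ trivial h1 h2 x trivial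

end CfsgLib.BaseCop
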