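import Cfsg.Agent.Lib.BaseCop.Rigid

/-!
One colour with signs in large coordinate spaces over two elements.
-/

set_option autoImplicit false
set_option linter.unusedSectionVars false

namespace CfsgLib.BaseCop

open CfsgLib.BaseTwo (dot dot_add)
open CfsgLib.BaseThree (mem_of_singles)

variable {d : ℕ}

/-- one colour and signs forcing the identity -/
def RigidSign (d : ℕ) : Prop :=
  ∃ c s : (Fin d → ZMod 2) → ZMod 2, (∀ i, c (Pi.single i 1) ≠ 0) ∧
    ∀ (μ : (Fin d → ZMod 2) → ZMod 2) (τ β : (Fin d → ZMod 2) →+ (Fin d → ZMod 2)), Function.Injective τ →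
      (∀ a b, μ (a + b) = μ a + μ b + dot (β a) (τ b)) → (∀ a, a ≠ 0 → c (τ a) = c a) →
      (∀ a, a ≠ 0 → c a ≠ 0 → μ a + s a = s (τ a)) → (∀ a, τ a = a) ∧ ∀ a, μ a = 0

theorem four_mul_lt : ∀ d, 7 ≤ d → 4 * (3 * d + 1) < 2 ^ d := by
  intro d hd
  induction d, hd using Nat.le_induction with
  | base => norm_num
  | succ n hn ih => rw [pow_succ]; omega

theorem rigid_sign (hd : 7 ≤ d) : RigidSign d := by
  classical
  let e : Fin d → (Fin d → ZMod 2) := fun i => Pi.single i 1
  let b : ℕ → (Fin d → ZMod 2) := fun n k => if (k : ℕ) = n then 1 else 0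
  have hb : ∀ i : Fin d, b i = e i := fun i => funext fun k => by
    simp only [b, e, Pi.single_apply, Fin.ext_iff]
  let tri : (Fin d → ZMod 2) := b 0 + b 1 + b 2
  let Z : Set (Fin d → ZMod 2) := insert tri {a | ∃ n, n + 1 < d ∧ a = b n + b (n + 1)}
  let N : Set (Fin d → ZMod 2) := Set.range e
  have happ : ∀ n (k : Fin d), b n k = if (k : ℕ) = n then 1 else 0 := fun _ _ => rfl
  have heq : ∀ n, n < d → ∀ m, b n = b m → n = m := fun n hn m h => by
    have := congrFun h ⟨n, hn⟩
    by_contra hne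
    simp [happ, hne] at this
  have htri : ∀ k : Fin d, tri k = if (k : ℕ) < 3 then 1 else 0 := fun k => by
    simp only [tri, Pi.add_apply, happ]
    rcases k with ⟨k, hk⟩
    rcases k with _ | _ | _ | k <;> simp
  have hpair : ∀ i j : Fin d, i ≠ j → e i + e j ∈ Z → (j : ℕ) = i + 1 ∨ (i : ℕ) = j + 1 := by
    intro i j hij h
    rcases h with h | ⟨n, hn, h⟩
    · exfalso
      have hsum := fun k => congrFun h k
      obtain ⟨k, hk, hki, hkj⟩ : ∃ k : Fin d, (k : ℕ) < 3 ∧ k ≠ i ∧ k ≠ j := by
        by_contra hno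
        push Not at hno
        have h0 := hno ⟨0, by omega⟩ (by norm_num)
        have h1 := hno ⟨1, by omega⟩ (by norm_num)
        have h2 := hno ⟨2, by omega⟩ (by norm_num)
        simp only [ne_eq, Fin.ext_iff] at h0 h1 h2
        omega
      have := hsum k
      simp [htri, hk, e, hki, hkj] at this
    · have h1 := congrFun h i
      have h2 := congrFun h j
      have hij' : (i : ℕ) ≠ j := fun e' => hij (Fin.ext e')
      have q1 : (i : ℕ) = n ∨ (i : ℕ) = n + 1 := by
        by_contra hno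
        push Not at hno
        simp [happ, hno.1, hno.2, e, hij] at h1
      have q2 : (j : ℕ) = n ∨ (j : ℕ) = n + 1 := by
        by_contra hno
        push Not at hno
        simp [happ, hno.1, hno.2, e, hij.symm] at h2
      omega
  have hNZ : ∀ i, e i ∉ Z := by
    intro i h
    rcases h with h | ⟨n, hn, h⟩
    · obtain ⟨k, hk, hki⟩ : ∃ k : Fin d, (k : ℕ) < 3 ∧ k ≠ i := by
        by_cases h0 : (i : ℕ) = 0
        · exact ⟨⟨1, by omega⟩, by norm_num, fun e => by simp [← e] at h0⟩
        · exact ⟨⟨0, by omega⟩, by norm_num, fun e => h0 (by simp [← e])⟩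
      have := congrFun h k
      simp [htri, hk, e, hki] at this
    · have h1 := congrFun h ⟨n, by omega⟩
      have h2 := congrFun h ⟨n + 1, hn⟩
      by_cases hi : i = ⟨n, by omega⟩
      · subst hi; simp [happ, e] at h2
      · simp [happ, e, Ne.symm hi] at h1
  have hZ0 : (0 : (Fin d → ZMod 2)) ∉ Z := by
    rintro (h | ⟨n, hn, h⟩)
    · have := congrFun h ⟨0, by omega⟩; simp [htri] at this
    · have := congrFun h ⟨n, by omega⟩; simp [happ] at this
  refine ⟨fun a => if a ∈ Z then 0 else 1, fun a => if a ∈ N then 1 else 0,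
    fun i => by simp only [if_neg (show Pi.single i 1 ∉ Z from hNZ i)]; exact one_ne_zero, fun μ τ β hinj hμ hc hs => ?_⟩
  have hZτ : ∀ a, a ≠ 0 → (τ a ∈ Z ↔ a ∈ Z) := fun a ha => by
    have h := hc a ha
    by_cases p : τ a ∈ Z <;> by_cases q : a ∈ Z <;> simp [p, q] at h ⊢
  have hsZ : ∀ a, a ≠ 0 → a ∉ Z → μ a + (if a ∈ N then 1 else 0 : ZMod 2) = if τ a ∈ N then 1 else 0 :=
    fun a ha hz => hs a ha (by simp only [if_neg hz]; exact one_ne_zero)
  let X : Set (Fin d → ZMod 2) := insert 0 (Z ∪ N ∪ τ ⁻¹' N)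
  have hout : ∀ a, a ∉ X → μ a = 0 := fun a ha => by
    have h := hsZ a (fun e => ha (Or.inl e)) (fun h => ha (Or.inr (Or.inl (Or.inl h))))
    rw [if_neg (show a ∉ N from fun h => ha (Or.inr (Or.inl (Or.inr h)))),
      if_neg (show τ a ∉ N from fun h => ha (Or.inr (Or.inr h))), add_zero] at h
    exact h
  have hXcard : X.ncard ≤ 3 * d + 1 := by
    have hNc : N.ncard ≤ d := by
      calc N.ncard = (e '' Set.univ).ncard := by rw [Set.image_univ]
        _ ≤ (Set.univ : Set (Fin d)).ncard := Set.ncard_image_le (Set.toFinite _)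
        _ = d := by rw [Set.ncard_univ, Nat.card_fin]
    have hZc : Z.ncard ≤ d := by
      have hsub : {a : (Fin d → ZMod 2) | ∃ n, n + 1 < d ∧ a = b n + b (n + 1)} ⊆
          (fun n : Fin (d - 1) => b n + b (n + 1)) '' Set.univ := by
        rintro _ ⟨n, hn, rfl⟩; exact ⟨⟨n, by omega⟩, trivial, rfl⟩
      have h1 := Set.ncard_le_ncard hsub (Set.toFinite _)
      have h2 := Set.ncard_image_le (f := fun n : Fin (d - 1) => b n + b (n + 1)) (Set.toFinite (Set.univ : Set (Fin (d - 1))))
      rw [Set.ncard_univ, Nat.card_fin] at h2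
      have h3 := Set.ncard_insert_le tri {a : (Fin d → ZMod 2) | ∃ n, n + 1 < d ∧ a = b n + b (n + 1)}
      show (insert tri _ : Set (Fin d → ZMod 2)).ncard ≤ d
      omega
    have hτN : (τ ⁻¹' N).ncard ≤ d := by
      refine le_trans ?_ hNc
      rw [← Set.ncard_image_of_injective (τ ⁻¹' N) hinj]
      exact Set.ncard_le_ncard (Set.image_preimage_subset _ _) (Set.toFinite _)
    have h4 := Set.ncard_insert_le (0 : (Fin d → ZMod 2)) (Z ∪ N ∪ τ ⁻¹' N)
    have h5 := Set.ncard_union_le (Z ∪ N) (τ ⁻¹' N)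
    have h6 := Set.ncard_union_le Z N
    show (insert (0 : (Fin d → ZMod 2)) (Z ∪ N ∪ τ ⁻¹' N) : Set (Fin d → ZMod 2)).ncard ≤ 3 * d + 1
    omega
  have havoid : ∀ ts : List (Fin d → ZMod 2), ts.length ≤ 4 → ∃ y, ∀ t ∈ ts, t + y ∉ X := by
    intro ts hts
    have hcard : Nat.card (Fin d → ZMod 2) = 2 ^ d := by simp
    have hU : ∀ l : List (Fin d → ZMod 2), ({y | ∃ t ∈ l, t + y ∈ X} : Set (Fin d → ZMod 2)).ncard ≤ l.length * X.ncard := by
      intro l
      induction l with
      | nil => simp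
      | cons t l ih =>
        refine le_trans (Set.ncard_le_ncard (t := (fun y => t + y) ⁻¹' X ∪ {y | ∃ t ∈ l, t + y ∈ X}) ?_
          (Set.toFinite _)) (le_trans (Set.ncard_union_le _ _) ?_)
        · rintro y ⟨t', ht', hy⟩
          rcases List.mem_cons.1 ht' with rfl | h
          · exact Or.inl hy
          · exact Or.inr ⟨t', h, hy⟩
        · rw [List.length_cons, add_mul, one_mul, add_comm]
          refine add_le_add ih (le_of_eq ?_)
          exact Set.ncard_preimage_of_injective_subset_range (add_right_injective t)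
            (fun x _ => ⟨-t + x, add_neg_cancel_left t x⟩)
    by_contra hno
    push Not at hno
    have h1 := Set.ncard_le_ncard (show (Set.univ : Set (Fin d → ZMod 2)) ⊆ {y | ∃ t ∈ ts, t + y ∈ X} from fun y _ => hno y)
      (Set.toFinite _)
    rw [Set.ncard_univ, hcard] at h1
    have h2 : ts.length * X.ncard ≤ 4 * (3 * d + 1) := Nat.mul_le_mul hts hXcard
    have := four_mul_lt d hd
    have := hU ts
    omega
  have hzero : ∀ a, μ a = 0 := by
    intro a
    obtain ⟨x, hx⟩ := havoid [0, a] (by simp)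
    obtain ⟨y, hy⟩ := havoid [0, x, a, a + x] (by simp)
    simp only [List.mem_cons, List.not_mem_nil, or_false, forall_eq_or_imp, forall_eq, zero_add] at hx hy
    obtain ⟨hx0, hxa⟩ := hx
    obtain ⟨hy0, hyx, hya, hyax⟩ := hy
    have q1 := hμ x y
    have q2 := hμ (a + x) y
    have q3 := hμ a y
    rw [hout _ hyx, hout _ hx0, hout _ hy0, zero_add, zero_add] at q1
    rw [hout _ hyax, hout _ hxa, hout _ hy0, zero_add, zero_add, map_add, dot_add, ← q1, add_zero] at q2
    rw [hout _ hya, hout _ hy0, ← q2, add_zero, add_zero] at q3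
    exact q3.symm
  have hsne : ∀ i, e i ≠ 0 := fun i h => by simpa [e] using congrFun h i
  have hN : ∀ i, τ (e i) ∈ N := fun i => by
    have h := hsZ (e i) (hsne i) (hNZ i)
    rw [hzero, zero_add, if_pos (show e i ∈ N from ⟨i, rfl⟩)] at h
    by_contra hn
    rw [if_neg hn] at h
    exact one_ne_zero h
  choose π hπ using hN
  have hπinj : Function.Injective π := fun i j h => by
    have h' := hinj ((hπ i).symm.trans ((congrArg e h).trans (hπ j)))
    by_contra hne
    simpa [e, hne] using congrFun h' i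
  have hedge : ∀ i j : Fin d, (j : ℕ) = i + 1 → (π j : ℕ) = π i + 1 ∨ (π i : ℕ) = π j + 1 := by
    intro i j hij
    have hne : i ≠ j := fun e => by subst e; omega
    refine hpair _ _ (fun h => hne (hπinj h)) ?_
    rw [hπ, hπ, ← map_add]
    have hm : e i + e j ∈ Z := Or.inr ⟨i, hij ▸ j.2, by rw [← hb i, ← hb j, hij]⟩
    exact (hZτ _ fun h => by simpa [e, hne] using congrFun h i).2 hm
  have hthree : ∀ k : Fin d, (k : ℕ) < 3 → (π k : ℕ) < 3 := by
    intro k hk
    have hb' : ∀ n (hn : n < d), b n = e ⟨n, hn⟩ := fun n hn => hb ⟨n, hn⟩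
    have hne : tri ≠ 0 := fun h => by
      have := congrFun h ⟨0, by omega⟩; simp [htri] at this
    have hmem := (hZτ tri hne).2 (Or.inl rfl)
    have hτtri : τ tri = e (π ⟨0, by omega⟩) + e (π ⟨1, by omega⟩) + e (π ⟨2, by omega⟩) := by
      simp only [tri, hb' 0 (by omega), hb' 1 (by omega), hb' 2 (by omega), map_add, ← hπ]
    have d01 : π ⟨0, by omega⟩ ≠ π ⟨1, by omega⟩ := fun h => by simpa using hπinj h
    have d02 : π ⟨0, by omega⟩ ≠ π ⟨2, by omega⟩ := fun h => by simpa using hπinj h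
    have d12 : π ⟨1, by omega⟩ ≠ π ⟨2, by omega⟩ := fun h => by simpa using hπinj h
    rcases hmem with h | ⟨n, hn, h⟩
    · have h' := congrFun (hτtri.symm.trans h) (π k)
      rw [htri] at h'
      by_contra hbig
      rw [if_neg hbig] at h'
      rcases k with ⟨k, hk'⟩
      simp only at hk
      interval_cases k <;> simp [e, d01, d02, d12, Ne.symm d01, Ne.symm d02, Ne.symm d12] at h'
    · exfalso
      have key : ∀ u v w : Fin d, u ≠ v → u ≠ w → e u + e v + e w = b n + b (n + 1) →
          (u : ℕ) = n ∨ (u : ℕ) = n + 1 := by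
        intro u v w huv huw h
        by_contra hno
        push Not at hno
        have h1 := congrFun h u
        simp [happ, e, hno.1, hno.2, huv, huw] at h1
      have heq' := hτtri.symm.trans h
      have k0 := key _ _ _ d01 d02 heq'
      have k1 := key _ _ _ d01.symm d12 ((add_comm (e (π ⟨1, by omega⟩)) (e (π ⟨0, by omega⟩))).symm ▸ heq')
      have k2 := key _ _ _ d02.symm d12.symm (by rw [← heq']; abel)
      have := fun (u v : Fin d) (h : u ≠ v) => fun e : (u : ℕ) = v => h (Fin.ext e)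
      have := this _ _ d01
      have := fun e : (π ⟨0, by omega⟩ : ℕ) = π ⟨2, by omega⟩ => d02 (Fin.ext e)
      have := fun e : (π ⟨1, by omega⟩ : ℕ) = π ⟨2, by omega⟩ => d12 (Fin.ext e)
      omega
  have hid : ∀ n (hn : n < d), (π ⟨n, hn⟩ : ℕ) = n := by
    intro n
    induction n using Nat.strong_induction_on with
    | _ n ih =>
      intro hn
      rcases n with _ | _ | n
      · have e01 := hedge ⟨0, hn⟩ ⟨1, by omega⟩ rfl
        have e12 := hedge ⟨1, by omega⟩ ⟨2, by omega⟩ rfl
        have e23 := hedge ⟨2, by omega⟩ ⟨3, by omega⟩ rfl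
        have t0 := hthree ⟨0, hn⟩ (by norm_num)
        have t1 := hthree ⟨1, by omega⟩ (by norm_num)
        have t2 := hthree ⟨2, by omega⟩ (by norm_num)
        have d02 : (π ⟨0, hn⟩ : ℕ) ≠ π ⟨2, by omega⟩ := fun h => by simpa using hπinj (Fin.ext h)
        have d13 : (π ⟨1, by omega⟩ : ℕ) ≠ π ⟨3, by omega⟩ := fun h => by simpa using hπinj (Fin.ext h)
        omega
      · have h0 := ih 0 (by omega) (by omega)
        have e01 := hedge ⟨0, by omega⟩ ⟨1, hn⟩ rfl
        show (π ⟨1, hn⟩ : ℕ) = 1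
        omega
      · have h1 := ih n (by omega) (by omega)
        have h2 := ih (n + 1) (by omega) (by omega)
        have e12 := hedge ⟨n + 1, by omega⟩ ⟨n + 2, hn⟩ rfl
        have hne : (π ⟨n + 2, hn⟩ : ℕ) ≠ π ⟨n, by omega⟩ := fun h => by simpa using hπinj (Fin.ext h)
        show (π ⟨n + 2, hn⟩ : ℕ) = n + 2
        omega
  refine ⟨mem_of_singles (S := AddMonoidHom.eqLocus τ (AddMonoidHom.id _)) fun k => ?_, hzero⟩
  show τ (e k) = e k
  rw [← hπ, show π k = k from Fin.ext (hid k k.2)]

end CfsgLib.BaseCop
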