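import Cfsg.Agent.Lib.BaseCop.Rigid

/-!
Small rigid colourings: found by search, checked by evaluation.
-/

set_option autoImplicit false
set_option linter.unusedSectionVars false
set_option linter.unusedVariables false
set_option synthInstance.maxSize 5000
set_option synthInstance.maxHeartbeats 400000
set_option maxHeartbeats 1600000
set_option maxRecDepth 4000

namespace CfsgLib.BaseCop

open CfsgLib.BaseTwo (dot dot_add dot_single)
open CfsgLib.BaseThree (mem_of_singles)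

/-- bit vectors from numbers -/
def dec (d n : ℕ) : Fin d → ZMod 2 := fun i => if n.testBit i then 1 else 0

/-- numbers from bit vectors -/
def enc {d : ℕ} (a : Fin d → ZMod 2) : ℕ := Nat.ofBits fun i => decide (a i = 1)

theorem dec_xor (d x y : ℕ) : dec d (x ^^^ y) = dec d x + dec d y := by
  funext i
  simp only [dec, Pi.add_apply, Nat.testBit_xor]
  cases x.testBit i <;> cases y.testBit i <;> decide

theorem enc_lt {d : ℕ} (a : Fin d → ZMod 2) : enc a < 2 ^ d := Nat.ofBits_lt_two_pow _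

theorem dec_enc {d : ℕ} (a : Fin d → ZMod 2) : dec d (enc a) = a := by
  funext i
  simp only [dec, enc, Nat.testBit_ofBits_lt _ _ i.2, Fin.eta]
  generalize a i = z
  revert z; decide

theorem enc_dec {d x : ℕ} (hx : x < 2 ^ d) : enc (dec d x) = x := by
  refine Nat.eq_of_testBit_eq fun i => ?_
  by_cases hi : i < d
  · rw [enc, Nat.testBit_ofBits_lt _ _ hi]
    simp only [dec]
    by_cases h : x.testBit i = true <;> simp [h]
  · rw [Nat.testBit_lt_two_pow (lt_of_lt_of_le hx (Nat.pow_le_pow_right (by norm_num) (not_lt.1 hi))),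
      Nat.testBit_lt_two_pow (lt_of_lt_of_le (enc_lt _) (Nat.pow_le_pow_right (by norm_num) (not_lt.1 hi)))]

theorem enc_add {d : ℕ} (a b : Fin d → ZMod 2) : enc (a + b) = enc a ^^^ enc b := by
  conv_lhs => rw [← dec_enc a, ← dec_enc b, ← dec_xor]
  exact enc_dec (Nat.xor_lt_two_pow (enc_lt a) (enc_lt b))

theorem dec_pow {d : ℕ} (k : Fin d) : dec d (2 ^ (k : ℕ)) = Pi.single k 1 := by
  funext i
  simp [dec, Nat.testBit_two_pow, Pi.single_apply, Fin.ext_iff, eq_comm]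

theorem dec_zero (d : ℕ) : dec d 0 = 0 := by
  funext i; simp [dec]

theorem enc_zero (d : ℕ) : enc (0 : Fin d → ZMod 2) = 0 := by
  rw [← dec_zero, enc_dec (Nat.two_pow_pos d)]

theorem enc_single {d : ℕ} (k : Fin d) : enc (Pi.single k 1 : Fin d → ZMod 2) = 2 ^ (k : ℕ) := by
  rw [← dec_pow, enc_dec (Nat.pow_lt_pow_right (by norm_num) k.2)]

theorem dec_pair {d : ℕ} (i j : Fin d) :
    dec d (2 ^ (i : ℕ) ^^^ 2 ^ (j : ℕ)) = Pi.single i 1 + Pi.single j 1 := by
  rw [dec_xor, dec_pow, dec_pow]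

theorem classes {N : ℕ} {col : ℕ → ℕ} {v : ℕ} {l : List ℕ}
    (h : (List.range N).all (fun x => !(col x == v) || l.contains x) = true) {x : ℕ} (hx : x < N) (hv : col x = v) :
    x ∈ l := by
  have := List.all_eq_true.1 h x (List.mem_range.2 hx)
  simpa [hv] using this

/-- colours -/
def col_two (n : ℕ) : ℕ := [9, 1, 2, 3].getD n 0

theorem cert_two : ∀ x0 ∈ [1],
    ∀ x1 ∈ [2],
    col_two (x0 ^^^ x1) = col_two 3 →
    x0 = 1 ∧ x1 = 2 := by decide +kernel

theorem tau_two (τ : (Fin 2 → ZMod 2) →+ (Fin 2 → ZMod 2)) (hinj : Function.Injective τ)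
    (hc : ∀ a, a ≠ 0 → col_two (enc (τ a)) = col_two (enc a)) : ∀ a, τ a = a := by
  let t : ℕ → ℕ := fun x => enc (τ (dec 2 x))
  have hx : ∀ x y, t (x ^^^ y) = t x ^^^ t y := fun x y => by simp only [t, dec_xor, map_add, enc_add]
  have hlt : ∀ x, t x < 4 := fun x => enc_lt _
  have hne : ∀ x, 0 < x → x < 4 → dec 2 x ≠ 0 := fun x h0 h1 h => by
    have := congrArg enc h
    rw [enc_dec (d := 2) h1, enc_zero] at this
    omega
  have ht : ∀ x, 0 < x → x < 4 → col_two (t x) = col_two x := fun x h0 h1 => by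
    show col_two (enc (τ (dec 2 x))) = col_two x
    rw [hc _ (hne x h0 h1), enc_dec (d := 2) h1]
  have q1 : t 1 ∈ [1] := classes (N := 4) (col := col_two) (v := 1) (by decide) (hlt _)
    ((ht 1 (by norm_num) (by norm_num)).trans (by decide))
  have q2 : t 2 ∈ [2] := classes (N := 4) (col := col_two) (v := 2) (by decide) (hlt _)
    ((ht 2 (by norm_num) (by norm_num)).trans (by decide))
  have q3 : col_two (t 1 ^^^ t 2) = col_two 3 := by
    rw [← hx]
    exact ht 3 (by norm_num) (by norm_num)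
  obtain ⟨e0, e1⟩ := cert_two (t 1) q1 (t 2) q2 q3
  refine mem_of_singles (S := AddMonoidHom.eqLocus τ (AddMonoidHom.id _)) fun k => ?_
  show τ (Pi.single k 1) = Pi.single k 1
  have key : ∀ n, t n = n → τ (dec 2 n) = dec 2 n := fun n hn => by
    conv_lhs => rw [← dec_enc (τ (dec 2 n))]
    exact congrArg (dec 2) hn
  rw [← dec_pow k]
  fin_cases k
  · exact key 1 e0
  · exact key 2 e1

theorem rigid_two : Rigid 2 2 3 := by
  refine ⟨fun a => col_two (enc a), fun a ha => ?_, fun i => ?_, fun τ hinj hc => tau_two τ hinj hc, fun μ β hadd hμ => ?_⟩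
  · have h0 : enc a ≠ 0 := fun h => ha (by rw [← dec_enc a, h, dec_zero])
    exact (by decide +kernel : ∀ x < 4, x ≠ 0 → col_two x ≤ 3) _ (enc_lt a) h0
  · show col_two (enc (Pi.single i 1)) ≠ 0
    rw [enc_single]; revert i; decide
  · have hz : ∀ x < 4, col_two x ≠ 0 → 0 < x → μ (dec 2 x) = 0 := fun x h1 h2 h3 => hμ _
      (fun h => by
        have := congrArg enc h
        rw [enc_dec (d := 2) h1, enc_zero] at this
        omega)
      (by
        show col_two (enc (dec 2 x)) ≠ 0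
        rw [enc_dec (d := 2) h1]; exact h2)
    refine form_zero μ β hadd (fun i => ?_) (fun h => absurd rfl h) fun i j hij => ?_
    · rw [← dec_pow]
      exact hz _ (Nat.pow_lt_pow_right (by norm_num) i.2) (by revert i; decide) (Nat.two_pow_pos _)
    · rw [← dec_pair]
      exact hz _ (by revert i j; decide) (by revert i j; decide) (by revert i j; decide)

/-- colours -/
def col_three (n : ℕ) : ℕ := [9, 1, 3, 2, 2, 2, 3, 0].getD n 0

theorem cert_three : ∀ x0 ∈ [1],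
    ∀ x1 ∈ [2, 6],
    col_three (x0 ^^^ x1) = col_three 3 →
    ∀ x2 ∈ [3, 4, 5],
    col_three (x0 ^^^ x2) = col_three 5 →
    col_three (x1 ^^^ x2) = col_three 6 →
    col_three (x0 ^^^ x1 ^^^ x2) = col_three 7 →
    x0 = 1 ∧ x1 = 2 ∧ x2 = 4 := by decide +kernel

theorem tau_three (τ : (Fin 3 → ZMod 2) →+ (Fin 3 → ZMod 2)) (hinj : Function.Injective τ)
    (hc : ∀ a, a ≠ 0 → col_three (enc (τ a)) = col_three (enc a)) : ∀ a, τ a = a := by
  let t : ℕ → ℕ := fun x => enc (τ (dec 3 x))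
  have hx : ∀ x y, t (x ^^^ y) = t x ^^^ t y := fun x y => by simp only [t, dec_xor, map_add, enc_add]
  have hlt : ∀ x, t x < 8 := fun x => enc_lt _
  have hne : ∀ x, 0 < x → x < 8 → dec 3 x ≠ 0 := fun x h0 h1 h => by
    have := congrArg enc h
    rw [enc_dec (d := 3) h1, enc_zero] at this
    omega
  have ht : ∀ x, 0 < x → x < 8 → col_three (t x) = col_three x := fun x h0 h1 => by
    show col_three (enc (τ (dec 3 x))) = col_three x
    rw [hc _ (hne x h0 h1), enc_dec (d := 3) h1]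
  have q1 : t 1 ∈ [1] := classes (N := 8) (col := col_three) (v := 1) (by decide) (hlt _)
    ((ht 1 (by norm_num) (by norm_num)).trans (by decide))
  have q2 : t 2 ∈ [2, 6] := classes (N := 8) (col := col_three) (v := 3) (by decide) (hlt _)
    ((ht 2 (by norm_num) (by norm_num)).trans (by decide))
  have q3 : col_three (t 1 ^^^ t 2) = col_three 3 := by
    rw [← hx]
    exact ht 3 (by norm_num) (by norm_num)
  have q4 : t 4 ∈ [3, 4, 5] := classes (N := 8) (col := col_three) (v := 2) (by decide) (hlt _)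
    ((ht 4 (by norm_num) (by norm_num)).trans (by decide))
  have q5 : col_three (t 1 ^^^ t 4) = col_three 5 := by
    rw [← hx]
    exact ht 5 (by norm_num) (by norm_num)
  have q6 : col_three (t 2 ^^^ t 4) = col_three 6 := by
    rw [← hx]
    exact ht 6 (by norm_num) (by norm_num)
  have q7 : col_three (t 1 ^^^ t 2 ^^^ t 4) = col_three 7 := by
    rw [← hx, ← hx]
    exact ht 7 (by norm_num) (by norm_num)
  obtain ⟨e0, e1, e2⟩ := cert_three (t 1) q1 (t 2) q2 q3 (t 4) q4 q5 q6 q7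
  refine mem_of_singles (S := AddMonoidHom.eqLocus τ (AddMonoidHom.id _)) fun k => ?_
  show τ (Pi.single k 1) = Pi.single k 1
  have key : ∀ n, t n = n → τ (dec 3 n) = dec 3 n := fun n hn => by
    conv_lhs => rw [← dec_enc (τ (dec 3 n))]
    exact congrArg (dec 3) hn
  rw [← dec_pow k]
  fin_cases k
  · exact key 1 e0
  · exact key 2 e1
  · exact key 4 e2

theorem rigid_three : Rigid 2 3 3 := by
  refine ⟨fun a => col_three (enc a), fun a ha => ?_, fun i => ?_, fun τ hinj hc => tau_three τ hinj hc, fun μ β hadd hμ => ?_⟩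
  · have h0 : enc a ≠ 0 := fun h => ha (by rw [← dec_enc a, h, dec_zero])
    exact (by decide +kernel : ∀ x < 8, x ≠ 0 → col_three x ≤ 3) _ (enc_lt a) h0
  · show col_three (enc (Pi.single i 1)) ≠ 0
    rw [enc_single]; revert i; decide
  · have hz : ∀ x < 8, col_three x ≠ 0 → 0 < x → μ (dec 3 x) = 0 := fun x h1 h2 h3 => hμ _
      (fun h => by
        have := congrArg enc h
        rw [enc_dec (d := 3) h1, enc_zero] at this
        omega)
      (by
        show col_three (enc (dec 3 x)) ≠ 0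
        rw [enc_dec (d := 3) h1]; exact h2)
    refine form_zero μ β hadd (fun i => ?_) (fun h => absurd rfl h) fun i j hij => ?_
    · rw [← dec_pow]
      exact hz _ (Nat.pow_lt_pow_right (by norm_num) i.2) (by revert i; decide) (Nat.two_pow_pos _)
    · rw [← dec_pair]
      exact hz _ (by revert i j; decide) (by revert i j; decide) (by revert i j; decide)

/-- colours -/
def col_four (n : ℕ) : ℕ := [9, 1, 2, 1, 1, 2, 2, 0, 2, 2, 2, 0, 2, 0, 0, 2].getD n 0

theorem cert_four : ∀ x0 ∈ [1, 3, 4],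
    ∀ x1 ∈ [2, 5, 6, 8, 9, 10, 12, 15],
    col_four (x0 ^^^ x1) = col_four 3 →
    ∀ x2 ∈ [1, 3, 4],
    col_four (x0 ^^^ x2) = col_four 5 →
    col_four (x1 ^^^ x2) = col_four 6 →
    col_four (x0 ^^^ x1 ^^^ x2) = col_four 7 →
    ∀ x3 ∈ [2, 5, 6, 8, 9, 10, 12, 15],
    col_four (x0 ^^^ x3) = col_four 9 →
    col_four (x1 ^^^ x3) = col_four 10 →
    col_four (x0 ^^^ x1 ^^^ x3) = col_four 11 →
    col_four (x2 ^^^ x3) = col_four 12 →
    col_four (x0 ^^^ x2 ^^^ x3) = col_four 13 →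
    col_four (x1 ^^^ x2 ^^^ x3) = col_four 14 →
    col_four (x0 ^^^ x1 ^^^ x2 ^^^ x3) = col_four 15 →
    x0 = 1 ∧ x1 = 2 ∧ x2 = 4 ∧ x3 = 8 := by decide +kernel

theorem tau_four (τ : (Fin 4 → ZMod 2) →+ (Fin 4 → ZMod 2)) (hinj : Function.Injective τ)
    (hc : ∀ a, a ≠ 0 → col_four (enc (τ a)) = col_four (enc a)) : ∀ a, τ a = a := by
  let t : ℕ → ℕ := fun x => enc (τ (dec 4 x))
  have hx : ∀ x y, t (x ^^^ y) = t x ^^^ t y := fun x y => by simp only [t, dec_xor, map_add, enc_add]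
  have hlt : ∀ x, t x < 16 := fun x => enc_lt _
  have hne : ∀ x, 0 < x → x < 16 → dec 4 x ≠ 0 := fun x h0 h1 h => by
    have := congrArg enc h
    rw [enc_dec (d := 4) h1, enc_zero] at this
    omega
  have ht : ∀ x, 0 < x → x < 16 → col_four (t x) = col_four x := fun x h0 h1 => by
    show col_four (enc (τ (dec 4 x))) = col_four x
    rw [hc _ (hne x h0 h1), enc_dec (d := 4) h1]
  have q1 : t 1 ∈ [1, 3, 4] := classes (N := 16) (col := col_four) (v := 1) (by decide) (hlt _)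
    ((ht 1 (by norm_num) (by norm_num)).trans (by decide))
  have q2 : t 2 ∈ [2, 5, 6, 8, 9, 10, 12, 15] := classes (N := 16) (col := col_four) (v := 2) (by decide) (hlt _)
    ((ht 2 (by norm_num) (by norm_num)).trans (by decide))
  have q3 : col_four (t 1 ^^^ t 2) = col_four 3 := by
    rw [← hx]
    exact ht 3 (by norm_num) (by norm_num)
  have q4 : t 4 ∈ [1, 3, 4] := classes (N := 16) (col := col_four) (v := 1) (by decide) (hlt _)
    ((ht 4 (by norm_num) (by norm_num)).trans (by decide))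
  have q5 : col_four (t 1 ^^^ t 4) = col_four 5 := by
    rw [← hx]
    exact ht 5 (by norm_num) (by norm_num)
  have q6 : col_four (t 2 ^^^ t 4) = col_four 6 := by
    rw [← hx]
    exact ht 6 (by norm_num) (by norm_num)
  have q7 : col_four (t 1 ^^^ t 2 ^^^ t 4) = col_four 7 := by
    rw [← hx, ← hx]
    exact ht 7 (by norm_num) (by norm_num)
  have q8 : t 8 ∈ [2, 5, 6, 8, 9, 10, 12, 15] := classes (N := 16) (col := col_four) (v := 2) (by decide) (hlt _)
    ((ht 8 (by norm_num) (by norm_num)).trans (by decide))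
  have q9 : col_four (t 1 ^^^ t 8) = col_four 9 := by
    rw [← hx]
    exact ht 9 (by norm_num) (by norm_num)
  have q10 : col_four (t 2 ^^^ t 8) = col_four 10 := by
    rw [← hx]
    exact ht 10 (by norm_num) (by norm_num)
  have q11 : col_four (t 1 ^^^ t 2 ^^^ t 8) = col_four 11 := by
    rw [← hx, ← hx]
    exact ht 11 (by norm_num) (by norm_num)
  have q12 : col_four (t 4 ^^^ t 8) = col_four 12 := by
    rw [← hx]
    exact ht 12 (by norm_num) (by norm_num)
  have q13 : col_four (t 1 ^^^ t 4 ^^^ t 8) = col_four 13 := by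
    rw [← hx, ← hx]
    exact ht 13 (by norm_num) (by norm_num)
  have q14 : col_four (t 2 ^^^ t 4 ^^^ t 8) = col_four 14 := by
    rw [← hx, ← hx]
    exact ht 14 (by norm_num) (by norm_num)
  have q15 : col_four (t 1 ^^^ t 2 ^^^ t 4 ^^^ t 8) = col_four 15 := by
    rw [← hx, ← hx, ← hx]
    exact ht 15 (by norm_num) (by norm_num)
  obtain ⟨e0, e1, e2, e3⟩ := cert_four (t 1) q1 (t 2) q2 q3 (t 4) q4 q5 q6 q7 (t 8) q8 q9 q10 q11 q12 q13 q14 q15
  refine mem_of_singles (S := AddMonoidHom.eqLocus τ (AddMonoidHom.id _)) fun k => ?_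
  show τ (Pi.single k 1) = Pi.single k 1
  have key : ∀ n, t n = n → τ (dec 4 n) = dec 4 n := fun n hn => by
    conv_lhs => rw [← dec_enc (τ (dec 4 n))]
    exact congrArg (dec 4) hn
  rw [← dec_pow k]
  fin_cases k
  · exact key 1 e0
  · exact key 2 e1
  · exact key 4 e2
  · exact key 8 e3

theorem rigid_four : Rigid 2 4 2 := by
  refine ⟨fun a => col_four (enc a), fun a ha => ?_, fun i => ?_, fun τ hinj hc => tau_four τ hinj hc, fun μ β hadd hμ => ?_⟩
  · have h0 : enc a ≠ 0 := fun h => ha (by rw [← dec_enc a, h, dec_zero])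
    exact (by decide +kernel : ∀ x < 16, x ≠ 0 → col_four x ≤ 2) _ (enc_lt a) h0
  · show col_four (enc (Pi.single i 1)) ≠ 0
    rw [enc_single]; revert i; decide
  · have hz : ∀ x < 16, col_four x ≠ 0 → 0 < x → μ (dec 4 x) = 0 := fun x h1 h2 h3 => hμ _
      (fun h => by
        have := congrArg enc h
        rw [enc_dec (d := 4) h1, enc_zero] at this
        omega)
      (by
        show col_four (enc (dec 4 x)) ≠ 0
        rw [enc_dec (d := 4) h1]; exact h2)
    refine form_zero μ β hadd (fun i => ?_) (fun h => absurd rfl h) fun i j hij => ?_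
    · rw [← dec_pow]
      exact hz _ (Nat.pow_lt_pow_right (by norm_num) i.2) (by revert i; decide) (Nat.two_pow_pos _)
    · rw [← dec_pair]
      exact hz _ (by revert i j; decide) (by revert i j; decide) (by revert i j; decide)

/-- colours -/
def col_five (n : ℕ) : ℕ := if n = 0 then 9 else if (219649022 : ℕ).testBit n then 1 else 0

theorem cert_five : ∀ x0 ∈ [1, 2, 3, 4, 5, 6, 7, 8, 9, 12, 15, 16, 17, 18, 20, 24, 26, 27],
    ∀ x1 ∈ [1, 2, 3, 4, 5, 6, 7, 8, 9, 12, 15, 16, 17, 18, 20, 24, 26, 27],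
    col_five (x0 ^^^ x1) = col_five 3 →
    ∀ x2 ∈ [1, 2, 3, 4, 5, 6, 7, 8, 9, 12, 15, 16, 17, 18, 20, 24, 26, 27],
    col_five (x0 ^^^ x2) = col_five 5 →
    col_five (x1 ^^^ x2) = col_five 6 →
    col_five (x0 ^^^ x1 ^^^ x2) = col_five 7 →
    ∀ x3 ∈ [1, 2, 3, 4, 5, 6, 7, 8, 9, 12, 15, 16, 17, 18, 20, 24, 26, 27],
    col_five (x0 ^^^ x3) = col_five 9 →
    col_five (x1 ^^^ x3) = col_five 10 →
    col_five (x0 ^^^ x1 ^^^ x3) = col_five 11 →
    col_five (x2 ^^^ x3) = col_five 12 →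
    col_five (x0 ^^^ x2 ^^^ x3) = col_five 13 →
    col_five (x1 ^^^ x2 ^^^ x3) = col_five 14 →
    col_five (x0 ^^^ x1 ^^^ x2 ^^^ x3) = col_five 15 →
    ∀ x4 ∈ [1, 2, 3, 4, 5, 6, 7, 8, 9, 12, 15, 16, 17, 18, 20, 24, 26, 27],
    col_five (x0 ^^^ x4) = col_five 17 →
    col_five (x1 ^^^ x4) = col_five 18 →
    col_five (x0 ^^^ x1 ^^^ x4) = col_five 19 →
    col_five (x2 ^^^ x4) = col_five 20 →
    col_five (x0 ^^^ x2 ^^^ x4) = col_five 21 →
    col_five (x1 ^^^ x2 ^^^ x4) = col_five 22 →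
    col_five (x0 ^^^ x1 ^^^ x2 ^^^ x4) = col_five 23 →
    col_five (x3 ^^^ x4) = col_five 24 →
    col_five (x0 ^^^ x3 ^^^ x4) = col_five 25 →
    col_five (x1 ^^^ x3 ^^^ x4) = col_five 26 →
    col_five (x0 ^^^ x1 ^^^ x3 ^^^ x4) = col_five 27 →
    col_five (x2 ^^^ x3 ^^^ x4) = col_five 28 →
    col_five (x0 ^^^ x2 ^^^ x3 ^^^ x4) = col_five 29 →
    col_five (x1 ^^^ x2 ^^^ x3 ^^^ x4) = col_five 30 →
    col_five (x0 ^^^ x1 ^^^ x2 ^^^ x3 ^^^ x4) = col_five 31 →
    x0 = 1 ∧ x1 = 2 ∧ x2 = 4 ∧ x3 = 8 ∧ x4 = 16 := by decide +kernel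

theorem tau_five (τ : (Fin 5 → ZMod 2) →+ (Fin 5 → ZMod 2)) (hinj : Function.Injective τ)
    (hc : ∀ a, a ≠ 0 → col_five (enc (τ a)) = col_five (enc a)) : ∀ a, τ a = a := by
  let t : ℕ → ℕ := fun x => enc (τ (dec 5 x))
  have hx : ∀ x y, t (x ^^^ y) = t x ^^^ t y := fun x y => by simp only [t, dec_xor, map_add, enc_add]
  have hlt : ∀ x, t x < 32 := fun x => enc_lt _
  have hne : ∀ x, 0 < x → x < 32 → dec 5 x ≠ 0 := fun x h0 h1 h => by
    have := congrArg enc h
    rw [enc_dec (d := 5) h1, enc_zero] at this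
    omega
  have ht : ∀ x, 0 < x → x < 32 → col_five (t x) = col_five x := fun x h0 h1 => by
    show col_five (enc (τ (dec 5 x))) = col_five x
    rw [hc _ (hne x h0 h1), enc_dec (d := 5) h1]
  have q1 : t 1 ∈ [1, 2, 3, 4, 5, 6, 7, 8, 9, 12, 15, 16, 17, 18, 20, 24, 26, 27] := classes (N := 32) (col := col_five) (v := 1) (by decide) (hlt _)
    ((ht 1 (by norm_num) (by norm_num)).trans (by decide))
  have q2 : t 2 ∈ [1, 2, 3, 4, 5, 6, 7, 8, 9, 12, 15, 16, 17, 18, 20, 24, 26, 27] := classes (N := 32) (col := col_five) (v := 1) (by decide) (hlt _)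
    ((ht 2 (by norm_num) (by norm_num)).trans (by decide))
  have q3 : col_five (t 1 ^^^ t 2) = col_five 3 := by
    rw [← hx]
    exact ht 3 (by norm_num) (by norm_num)
  have q4 : t 4 ∈ [1, 2, 3, 4, 5, 6, 7, 8, 9, 12, 15, 16, 17, 18, 20, 24, 26, 27] := classes (N := 32) (col := col_five) (v := 1) (by decide) (hlt _)
    ((ht 4 (by norm_num) (by norm_num)).trans (by decide))
  have q5 : col_five (t 1 ^^^ t 4) = col_five 5 := by
    rw [← hx]
    exact ht 5 (by norm_num) (by norm_num)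
  have q6 : col_five (t 2 ^^^ t 4) = col_five 6 := by
    rw [← hx]
    exact ht 6 (by norm_num) (by norm_num)
  have q7 : col_five (t 1 ^^^ t 2 ^^^ t 4) = col_five 7 := by
    rw [← hx, ← hx]
    exact ht 7 (by norm_num) (by norm_num)
  have q8 : t 8 ∈ [1, 2, 3, 4, 5, 6, 7, 8, 9, 12, 15, 16, 17, 18, 20, 24, 26, 27] := classes (N := 32) (col := col_five) (v := 1) (by decide) (hlt _)
    ((ht 8 (by norm_num) (by norm_num)).trans (by decide))
  have q9 : col_five (t 1 ^^^ t 8) = col_five 9 := by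
    rw [← hx]
    exact ht 9 (by norm_num) (by norm_num)
  have q10 : col_five (t 2 ^^^ t 8) = col_five 10 := by
    rw [← hx]
    exact ht 10 (by norm_num) (by norm_num)
  have q11 : col_five (t 1 ^^^ t 2 ^^^ t 8) = col_five 11 := by
    rw [← hx, ← hx]
    exact ht 11 (by norm_num) (by norm_num)
  have q12 : col_five (t 4 ^^^ t 8) = col_five 12 := by
    rw [← hx]
    exact ht 12 (by norm_num) (by norm_num)
  have q13 : col_five (t 1 ^^^ t 4 ^^^ t 8) = col_five 13 := by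
    rw [← hx, ← hx]
    exact ht 13 (by norm_num) (by norm_num)
  have q14 : col_five (t 2 ^^^ t 4 ^^^ t 8) = col_five 14 := by
    rw [← hx, ← hx]
    exact ht 14 (by norm_num) (by norm_num)
  have q15 : col_five (t 1 ^^^ t 2 ^^^ t 4 ^^^ t 8) = col_five 15 := by
    rw [← hx, ← hx, ← hx]
    exact ht 15 (by norm_num) (by norm_num)
  have q16 : t 16 ∈ [1, 2, 3, 4, 5, 6, 7, 8, 9, 12, 15, 16, 17, 18, 20, 24, 26, 27] := classes (N := 32) (col := col_five) (v := 1) (by decide) (hlt _)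
    ((ht 16 (by norm_num) (by norm_num)).trans (by decide))
  have q17 : col_five (t 1 ^^^ t 16) = col_five 17 := by
    rw [← hx]
    exact ht 17 (by norm_num) (by norm_num)
  have q18 : col_five (t 2 ^^^ t 16) = col_five 18 := by
    rw [← hx]
    exact ht 18 (by norm_num) (by norm_num)
  have q19 : col_five (t 1 ^^^ t 2 ^^^ t 16) = col_five 19 := by
    rw [← hx, ← hx]
    exact ht 19 (by norm_num) (by norm_num)
  have q20 : col_five (t 4 ^^^ t 16) = col_five 20 := by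
    rw [← hx]
    exact ht 20 (by norm_num) (by norm_num)
  have q21 : col_five (t 1 ^^^ t 4 ^^^ t 16) = col_five 21 := by
    rw [← hx, ← hx]
    exact ht 21 (by norm_num) (by norm_num)
  have q22 : col_five (t 2 ^^^ t 4 ^^^ t 16) = col_five 22 := by
    rw [← hx, ← hx]
    exact ht 22 (by norm_num) (by norm_num)
  have q23 : col_five (t 1 ^^^ t 2 ^^^ t 4 ^^^ t 16) = col_five 23 := by
    rw [← hx, ← hx, ← hx]
    exact ht 23 (by norm_num) (by norm_num)
  have q24 : col_five (t 8 ^^^ t 16) = col_five 24 := by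
    rw [← hx]
    exact ht 24 (by norm_num) (by norm_num)
  have q25 : col_five (t 1 ^^^ t 8 ^^^ t 16) = col_five 25 := by
    rw [← hx, ← hx]
    exact ht 25 (by norm_num) (by norm_num)
  have q26 : col_five (t 2 ^^^ t 8 ^^^ t 16) = col_five 26 := by
    rw [← hx, ← hx]
    exact ht 26 (by norm_num) (by norm_num)
  have q27 : col_five (t 1 ^^^ t 2 ^^^ t 8 ^^^ t 16) = col_five 27 := by
    rw [← hx, ← hx, ← hx]
    exact ht 27 (by norm_num) (by norm_num)
  have q28 : col_five (t 4 ^^^ t 8 ^^^ t 16) = col_five 28 := by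
    rw [← hx, ← hx]
    exact ht 28 (by norm_num) (by norm_num)
  have q29 : col_five (t 1 ^^^ t 4 ^^^ t 8 ^^^ t 16) = col_five 29 := by
    rw [← hx, ← hx, ← hx]
    exact ht 29 (by norm_num) (by norm_num)
  have q30 : col_five (t 2 ^^^ t 4 ^^^ t 8 ^^^ t 16) = col_five 30 := by
    rw [← hx, ← hx, ← hx]
    exact ht 30 (by norm_num) (by norm_num)
  have q31 : col_five (t 1 ^^^ t 2 ^^^ t 4 ^^^ t 8 ^^^ t 16) = col_five 31 := by
    rw [← hx, ← hx, ← hx, ← hx]
    exact ht 31 (by norm_num) (by norm_num)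
  obtain ⟨e0, e1, e2, e3, e4⟩ := cert_five (t 1) q1 (t 2) q2 q3 (t 4) q4 q5 q6 q7 (t 8) q8 q9 q10 q11 q12 q13 q14 q15 (t 16) q16 q17 q18 q19 q20 q21 q22 q23 q24 q25 q26 q27 q28 q29 q30 q31
  refine mem_of_singles (S := AddMonoidHom.eqLocus τ (AddMonoidHom.id _)) fun k => ?_
  show τ (Pi.single k 1) = Pi.single k 1
  have key : ∀ n, t n = n → τ (dec 5 n) = dec 5 n := fun n hn => by
    conv_lhs => rw [← dec_enc (τ (dec 5 n))]
    exact congrArg (dec 5) hn
  rw [← dec_pow k]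
  fin_cases k
  · exact key 1 e0
  · exact key 2 e1
  · exact key 4 e2
  · exact key 8 e3
  · exact key 16 e4

theorem rigid_five : Rigid 2 5 1 := by
  refine ⟨fun a => col_five (enc a), fun a ha => ?_, fun i => ?_, fun τ hinj hc => tau_five τ hinj hc, fun μ β hadd hμ => ?_⟩
  · have h0 : enc a ≠ 0 := fun h => ha (by rw [← dec_enc a, h, dec_zero])
    exact (by decide +kernel : ∀ x < 32, x ≠ 0 → col_five x ≤ 1) _ (enc_lt a) h0
  · show col_five (enc (Pi.single i 1)) ≠ 0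
    rw [enc_single]; revert i; decide
  · have hz : ∀ x < 32, col_five x ≠ 0 → 0 < x → μ (dec 5 x) = 0 := fun x h1 h2 h3 => hμ _
      (fun h => by
        have := congrArg enc h
        rw [enc_dec (d := 5) h1, enc_zero] at this
        omega)
      (by
        show col_five (enc (dec 5 x)) ≠ 0
        rw [enc_dec (d := 5) h1]; exact h2)
    refine form_zero μ β hadd (fun i => ?_) (fun h => absurd rfl h) fun i j hij => ?_
    · rw [← dec_pow]
      exact hz _ (Nat.pow_lt_pow_right (by norm_num) i.2) (by revert i; decide) (Nat.two_pow_pos _)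
    · by_cases h13 : i = 1 ∧ j = 3
      · obtain ⟨rfl, rfl⟩ := h13
        have h15 := hz 15 (by norm_num) (by decide) (by norm_num)
        have hb : ∀ x y : Fin 5, (2 ^ (x : ℕ) ^^^ 2 ^ (y : ℕ)) < 32 → col_five (2 ^ (x : ℕ) ^^^ 2 ^ (y : ℕ)) ≠ 0 →
            0 < (2 ^ (x : ℕ) ^^^ 2 ^ (y : ℕ)) → dot (β (Pi.single x 1)) (Pi.single y 1) = 0 := fun x y a b c => by
          have h := hadd (Pi.single x 1) (Pi.single y 1)
          rw [← dec_pair, hz _ a b c, ← dec_pow, ← dec_pow, hz _ (Nat.pow_lt_pow_right (by norm_num) x.2) ((by decide : ∀ k : Fin 5, col_five (2 ^ (k : ℕ)) ≠ 0) x) (Nat.two_pow_pos _),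
            hz _ (Nat.pow_lt_pow_right (by norm_num) y.2) ((by decide : ∀ k : Fin 5, col_five (2 ^ (k : ℕ)) ≠ 0) y) (Nat.two_pow_pos _), zero_add, zero_add, dec_pow, dec_pow] at h
          exact h.symm
        have e : dec 5 15 = Pi.single 0 1 + Pi.single 2 1 + (Pi.single 1 1 + Pi.single 3 1) := by decide
        rw [e, hadd, hadd (Pi.single 0 1), map_add, dot_add] at h15
        have b02 := hb 0 2 (by decide) (by decide) (by decide)
        have b01 := hb 0 1 (by decide) (by decide) (by decide)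
        have b03 := hb 0 3 (by decide) (by decide) (by decide)
        have b21 := hb 2 1 (by decide) (by decide) (by decide)
        have b23 := hb 2 3 (by decide) (by decide) (by decide)
        have m0 : μ (Pi.single 0 1) = 0 := by rw [← dec_pow]; exact hz _ (by decide) (by decide) (by decide)
        have m2 : μ (Pi.single 2 1) = 0 := by rw [← dec_pow]; exact hz _ (by decide) (by decide) (by decide)
        simp only [CfsgLib.BaseTwo.dot_add_right, b02, b01, b03, b21, b23, m0, m2, zero_add, add_zero] at h15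
        exact h15
      · rw [← dec_pair]
        exact hz _ (by revert i j; decide) (by revert i j; decide) (by revert i j; decide)

/-- colours -/
def col_six (n : ℕ) : ℕ := if n = 0 then 9 else if (9289872549846910 : ℕ).testBit n then 1 else 0

theorem cert_six : ∀ x0 ∈ [1, 2, 3, 4, 5, 6, 8, 9, 10, 11, 12, 15, 16, 17, 18, 20, 22, 24, 32, 33, 34, 36, 40, 48, 53],
    ∀ x1 ∈ [1, 2, 3, 4, 5, 6, 8, 9, 10, 11, 12, 15, 16, 17, 18, 20, 22, 24, 32, 33, 34, 36, 40, 48, 53],
    col_six (x0 ^^^ x1) = col_six 3 →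
    ∀ x2 ∈ [1, 2, 3, 4, 5, 6, 8, 9, 10, 11, 12, 15, 16, 17, 18, 20, 22, 24, 32, 33, 34, 36, 40, 48, 53],
    col_six (x0 ^^^ x2) = col_six 5 →
    col_six (x1 ^^^ x2) = col_six 6 →
    col_six (x0 ^^^ x1 ^^^ x2) = col_six 7 →
    ∀ x3 ∈ [1, 2, 3, 4, 5, 6, 8, 9, 10, 11, 12, 15, 16, 17, 18, 20, 22, 24, 32, 33, 34, 36, 40, 48, 53],
    col_six (x0 ^^^ x3) = col_six 9 →
    col_six (x1 ^^^ x3) = col_six 10 →
    col_six (x0 ^^^ x1 ^^^ x3) = col_six 11 →
    col_six (x2 ^^^ x3) = col_six 12 →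
    col_six (x0 ^^^ x2 ^^^ x3) = col_six 13 →
    col_six (x1 ^^^ x2 ^^^ x3) = col_six 14 →
    col_six (x0 ^^^ x1 ^^^ x2 ^^^ x3) = col_six 15 →
    ∀ x4 ∈ [1, 2, 3, 4, 5, 6, 8, 9, 10, 11, 12, 15, 16, 17, 18, 20, 22, 24, 32, 33, 34, 36, 40, 48, 53],
    col_six (x0 ^^^ x4) = col_six 17 →
    col_six (x1 ^^^ x4) = col_six 18 →
    col_six (x0 ^^^ x1 ^^^ x4) = col_six 19 →
    col_six (x2 ^^^ x4) = col_six 20 →
    col_six (x0 ^^^ x2 ^^^ x4) = col_six 21 →
    col_six (x1 ^^^ x2 ^^^ x4) = col_six 22 →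
    col_six (x0 ^^^ x1 ^^^ x2 ^^^ x4) = col_six 23 →
    col_six (x3 ^^^ x4) = col_six 24 →
    col_six (x0 ^^^ x3 ^^^ x4) = col_six 25 →
    col_six (x1 ^^^ x3 ^^^ x4) = col_six 26 →
    col_six (x0 ^^^ x1 ^^^ x3 ^^^ x4) = col_six 27 →
    col_six (x2 ^^^ x3 ^^^ x4) = col_six 28 →
    col_six (x0 ^^^ x2 ^^^ x3 ^^^ x4) = col_six 29 →
    col_six (x1 ^^^ x2 ^^^ x3 ^^^ x4) = col_six 30 →
    col_six (x0 ^^^ x1 ^^^ x2 ^^^ x3 ^^^ x4) = col_six 31 →
    ∀ x5 ∈ [1, 2, 3, 4, 5, 6, 8, 9, 10, 11, 12, 15, 16, 17, 18, 20, 22, 24, 32, 33, 34, 36, 40, 48, 53],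
    col_six (x0 ^^^ x5) = col_six 33 →
    col_six (x1 ^^^ x5) = col_six 34 →
    col_six (x0 ^^^ x1 ^^^ x5) = col_six 35 →
    col_six (x2 ^^^ x5) = col_six 36 →
    col_six (x0 ^^^ x2 ^^^ x5) = col_six 37 →
    col_six (x1 ^^^ x2 ^^^ x5) = col_six 38 →
    col_six (x0 ^^^ x1 ^^^ x2 ^^^ x5) = col_six 39 →
    col_six (x3 ^^^ x5) = col_six 40 →
    col_six (x0 ^^^ x3 ^^^ x5) = col_six 41 →
    col_six (x1 ^^^ x3 ^^^ x5) = col_six 42 →
    col_six (x0 ^^^ x1 ^^^ x3 ^^^ x5) = col_six 43 →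
    col_six (x2 ^^^ x3 ^^^ x5) = col_six 44 →
    col_six (x0 ^^^ x2 ^^^ x3 ^^^ x5) = col_six 45 →
    col_six (x1 ^^^ x2 ^^^ x3 ^^^ x5) = col_six 46 →
    col_six (x0 ^^^ x1 ^^^ x2 ^^^ x3 ^^^ x5) = col_six 47 →
    col_six (x4 ^^^ x5) = col_six 48 →
    col_six (x0 ^^^ x4 ^^^ x5) = col_six 49 →
    col_six (x1 ^^^ x4 ^^^ x5) = col_six 50 →
    col_six (x0 ^^^ x1 ^^^ x4 ^^^ x5) = col_six 51 →
    col_six (x2 ^^^ x4 ^^^ x5) = col_six 52 →
    col_six (x0 ^^^ x2 ^^^ x4 ^^^ x5) = col_six 53 →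
    col_six (x1 ^^^ x2 ^^^ x4 ^^^ x5) = col_six 54 →
    col_six (x0 ^^^ x1 ^^^ x2 ^^^ x4 ^^^ x5) = col_six 55 →
    col_six (x3 ^^^ x4 ^^^ x5) = col_six 56 →
    col_six (x0 ^^^ x3 ^^^ x4 ^^^ x5) = col_six 57 →
    col_six (x1 ^^^ x3 ^^^ x4 ^^^ x5) = col_six 58 →
    col_six (x0 ^^^ x1 ^^^ x3 ^^^ x4 ^^^ x5) = col_six 59 →
    col_six (x2 ^^^ x3 ^^^ x4 ^^^ x5) = col_six 60 →
    col_six (x0 ^^^ x2 ^^^ x3 ^^^ x4 ^^^ x5) = col_six 61 →
    col_six (x1 ^^^ x2 ^^^ x3 ^^^ x4 ^^^ x5) = col_six 62 →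
    col_six (x0 ^^^ x1 ^^^ x2 ^^^ x3 ^^^ x4 ^^^ x5) = col_six 63 →
    x0 = 1 ∧ x1 = 2 ∧ x2 = 4 ∧ x3 = 8 ∧ x4 = 16 ∧ x5 = 32 := by decide +kernel

theorem tau_six (τ : (Fin 6 → ZMod 2) →+ (Fin 6 → ZMod 2)) (hinj : Function.Injective τ)
    (hc : ∀ a, a ≠ 0 → col_six (enc (τ a)) = col_six (enc a)) : ∀ a, τ a = a := by
  let t : ℕ → ℕ := fun x => enc (τ (dec 6 x))
  have hx : ∀ x y, t (x ^^^ y) = t x ^^^ t y := fun x y => by simp only [t, dec_xor, map_add, enc_add]
  have hlt : ∀ x, t x < 64 := fun x => enc_lt _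
  have hne : ∀ x, 0 < x → x < 64 → dec 6 x ≠ 0 := fun x h0 h1 h => by
    have := congrArg enc h
    rw [enc_dec (d := 6) h1, enc_zero] at this
    omega
  have ht : ∀ x, 0 < x → x < 64 → col_six (t x) = col_six x := fun x h0 h1 => by
    show col_six (enc (τ (dec 6 x))) = col_six x
    rw [hc _ (hne x h0 h1), enc_dec (d := 6) h1]
  have q1 : t 1 ∈ [1, 2, 3, 4, 5, 6, 8, 9, 10, 11, 12, 15, 16, 17, 18, 20, 22, 24, 32, 33, 34, 36, 40, 48, 53] := classes (N := 64) (col := col_six) (v := 1) (by decide) (hlt _)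
    ((ht 1 (by norm_num) (by norm_num)).trans (by decide))
  have q2 : t 2 ∈ [1, 2, 3, 4, 5, 6, 8, 9, 10, 11, 12, 15, 16, 17, 18, 20, 22, 24, 32, 33, 34, 36, 40, 48, 53] := classes (N := 64) (col := col_six) (v := 1) (by decide) (hlt _)
    ((ht 2 (by norm_num) (by norm_num)).trans (by decide))
  have q3 : col_six (t 1 ^^^ t 2) = col_six 3 := by
    rw [← hx]
    exact ht 3 (by norm_num) (by norm_num)
  have q4 : t 4 ∈ [1, 2, 3, 4, 5, 6, 8, 9, 10, 11, 12, 15, 16, 17, 18, 20, 22, 24, 32, 33, 34, 36, 40, 48, 53] := classes (N := 64) (col := col_six) (v := 1) (by decide) (hlt _)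
    ((ht 4 (by norm_num) (by norm_num)).trans (by decide))
  have q5 : col_six (t 1 ^^^ t 4) = col_six 5 := by
    rw [← hx]
    exact ht 5 (by norm_num) (by norm_num)
  have q6 : col_six (t 2 ^^^ t 4) = col_six 6 := by
    rw [← hx]
    exact ht 6 (by norm_num) (by norm_num)
  have q7 : col_six (t 1 ^^^ t 2 ^^^ t 4) = col_six 7 := by
    rw [← hx, ← hx]
    exact ht 7 (by norm_num) (by norm_num)
  have q8 : t 8 ∈ [1, 2, 3, 4, 5, 6, 8, 9, 10, 11, 12, 15, 16, 17, 18, 20, 22, 24, 32, 33, 34, 36, 40, 48, 53] := classes (N := 64) (col := col_six) (v := 1) (by decide) (hlt _)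
    ((ht 8 (by norm_num) (by norm_num)).trans (by decide))
  have q9 : col_six (t 1 ^^^ t 8) = col_six 9 := by
    rw [← hx]
    exact ht 9 (by norm_num) (by norm_num)
  have q10 : col_six (t 2 ^^^ t 8) = col_six 10 := by
    rw [← hx]
    exact ht 10 (by norm_num) (by norm_num)
  have q11 : col_six (t 1 ^^^ t 2 ^^^ t 8) = col_six 11 := by
    rw [← hx, ← hx]
    exact ht 11 (by norm_num) (by norm_num)
  have q12 : col_six (t 4 ^^^ t 8) = col_six 12 := by
    rw [← hx]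
    exact ht 12 (by norm_num) (by norm_num)
  have q13 : col_six (t 1 ^^^ t 4 ^^^ t 8) = col_six 13 := by
    rw [← hx, ← hx]
    exact ht 13 (by norm_num) (by norm_num)
  have q14 : col_six (t 2 ^^^ t 4 ^^^ t 8) = col_six 14 := by
    rw [← hx, ← hx]
    exact ht 14 (by norm_num) (by norm_num)
  have q15 : col_six (t 1 ^^^ t 2 ^^^ t 4 ^^^ t 8) = col_six 15 := by
    rw [← hx, ← hx, ← hx]
    exact ht 15 (by norm_num) (by norm_num)
  have q16 : t 16 ∈ [1, 2, 3, 4, 5, 6, 8, 9, 10, 11, 12, 15, 16, 17, 18, 20, 22, 24, 32, 33, 34, 36, 40, 48, 53] := classes (N := 64) (col := col_six) (v := 1) (by decide) (hlt _)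
    ((ht 16 (by norm_num) (by norm_num)).trans (by decide))
  have q17 : col_six (t 1 ^^^ t 16) = col_six 17 := by
    rw [← hx]
    exact ht 17 (by norm_num) (by norm_num)
  have q18 : col_six (t 2 ^^^ t 16) = col_six 18 := by
    rw [← hx]
    exact ht 18 (by norm_num) (by norm_num)
  have q19 : col_six (t 1 ^^^ t 2 ^^^ t 16) = col_six 19 := by
    rw [← hx, ← hx]
    exact ht 19 (by norm_num) (by norm_num)
  have q20 : col_six (t 4 ^^^ t 16) = col_six 20 := by
    rw [← hx]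
    exact ht 20 (by norm_num) (by norm_num)
  have q21 : col_six (t 1 ^^^ t 4 ^^^ t 16) = col_six 21 := by
    rw [← hx, ← hx]
    exact ht 21 (by norm_num) (by norm_num)
  have q22 : col_six (t 2 ^^^ t 4 ^^^ t 16) = col_six 22 := by
    rw [← hx, ← hx]
    exact ht 22 (by norm_num) (by norm_num)
  have q23 : col_six (t 1 ^^^ t 2 ^^^ t 4 ^^^ t 16) = col_six 23 := by
    rw [← hx, ← hx, ← hx]
    exact ht 23 (by norm_num) (by norm_num)
  have q24 : col_six (t 8 ^^^ t 16) = col_six 24 := by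
    rw [← hx]
    exact ht 24 (by norm_num) (by norm_num)
  have q25 : col_six (t 1 ^^^ t 8 ^^^ t 16) = col_six 25 := by
    rw [← hx, ← hx]
    exact ht 25 (by norm_num) (by norm_num)
  have q26 : col_six (t 2 ^^^ t 8 ^^^ t 16) = col_six 26 := by
    rw [← hx, ← hx]
    exact ht 26 (by norm_num) (by norm_num)
  have q27 : col_six (t 1 ^^^ t 2 ^^^ t 8 ^^^ t 16) = col_six 27 := by
    rw [← hx, ← hx, ← hx]
    exact ht 27 (by norm_num) (by norm_num)
  have q28 : col_six (t 4 ^^^ t 8 ^^^ t 16) = col_six 28 := by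
    rw [← hx, ← hx]
    exact ht 28 (by norm_num) (by norm_num)
  have q29 : col_six (t 1 ^^^ t 4 ^^^ t 8 ^^^ t 16) = col_six 29 := by
    rw [← hx, ← hx, ← hx]
    exact ht 29 (by norm_num) (by norm_num)
  have q30 : col_six (t 2 ^^^ t 4 ^^^ t 8 ^^^ t 16) = col_six 30 := by
    rw [← hx, ← hx, ← hx]
    exact ht 30 (by norm_num) (by norm_num)
  have q31 : col_six (t 1 ^^^ t 2 ^^^ t 4 ^^^ t 8 ^^^ t 16) = col_six 31 := by
    rw [← hx, ← hx, ← hx, ← hx]
    exact ht 31 (by norm_num) (by norm_num)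
  have q32 : t 32 ∈ [1, 2, 3, 4, 5, 6, 8, 9, 10, 11, 12, 15, 16, 17, 18, 20, 22, 24, 32, 33, 34, 36, 40, 48, 53] := classes (N := 64) (col := col_six) (v := 1) (by decide) (hlt _)
    ((ht 32 (by norm_num) (by norm_num)).trans (by decide))
  have q33 : col_six (t 1 ^^^ t 32) = col_six 33 := by
    rw [← hx]
    exact ht 33 (by norm_num) (by norm_num)
  have q34 : col_six (t 2 ^^^ t 32) = col_six 34 := by
    rw [← hx]
    exact ht 34 (by norm_num) (by norm_num)
  have q35 : col_six (t 1 ^^^ t 2 ^^^ t 32) = col_six 35 := by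
    rw [← hx, ← hx]
    exact ht 35 (by norm_num) (by norm_num)
  have q36 : col_six (t 4 ^^^ t 32) = col_six 36 := by
    rw [← hx]
    exact ht 36 (by norm_num) (by norm_num)
  have q37 : col_six (t 1 ^^^ t 4 ^^^ t 32) = col_six 37 := by
    rw [← hx, ← hx]
    exact ht 37 (by norm_num) (by norm_num)
  have q38 : col_six (t 2 ^^^ t 4 ^^^ t 32) = col_six 38 := by
    rw [← hx, ← hx]
    exact ht 38 (by norm_num) (by norm_num)
  have q39 : col_six (t 1 ^^^ t 2 ^^^ t 4 ^^^ t 32) = col_six 39 := by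
    rw [← hx, ← hx, ← hx]
    exact ht 39 (by norm_num) (by norm_num)
  have q40 : col_six (t 8 ^^^ t 32) = col_six 40 := by
    rw [← hx]
    exact ht 40 (by norm_num) (by norm_num)
  have q41 : col_six (t 1 ^^^ t 8 ^^^ t 32) = col_six 41 := by
    rw [← hx, ← hx]
    exact ht 41 (by norm_num) (by norm_num)
  have q42 : col_six (t 2 ^^^ t 8 ^^^ t 32) = col_six 42 := by
    rw [← hx, ← hx]
    exact ht 42 (by norm_num) (by norm_num)
  have q43 : col_six (t 1 ^^^ t 2 ^^^ t 8 ^^^ t 32) = col_six 43 := by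
    rw [← hx, ← hx, ← hx]
    exact ht 43 (by norm_num) (by norm_num)
  have q44 : col_six (t 4 ^^^ t 8 ^^^ t 32) = col_six 44 := by
    rw [← hx, ← hx]
    exact ht 44 (by norm_num) (by norm_num)
  have q45 : col_six (t 1 ^^^ t 4 ^^^ t 8 ^^^ t 32) = col_six 45 := by
    rw [← hx, ← hx, ← hx]
    exact ht 45 (by norm_num) (by norm_num)
  have q46 : col_six (t 2 ^^^ t 4 ^^^ t 8 ^^^ t 32) = col_six 46 := by
    rw [← hx, ← hx, ← hx]
    exact ht 46 (by norm_num) (by norm_num)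
  have q47 : col_six (t 1 ^^^ t 2 ^^^ t 4 ^^^ t 8 ^^^ t 32) = col_six 47 := by
    rw [← hx, ← hx, ← hx, ← hx]
    exact ht 47 (by norm_num) (by norm_num)
  have q48 : col_six (t 16 ^^^ t 32) = col_six 48 := by
    rw [← hx]
    exact ht 48 (by norm_num) (by norm_num)
  have q49 : col_six (t 1 ^^^ t 16 ^^^ t 32) = col_six 49 := by
    rw [← hx, ← hx]
    exact ht 49 (by norm_num) (by norm_num)
  have q50 : col_six (t 2 ^^^ t 16 ^^^ t 32) = col_six 50 := by
    rw [← hx, ← hx]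
    exact ht 50 (by norm_num) (by norm_num)
  have q51 : col_six (t 1 ^^^ t 2 ^^^ t 16 ^^^ t 32) = col_six 51 := by
    rw [← hx, ← hx, ← hx]
    exact ht 51 (by norm_num) (by norm_num)
  have q52 : col_six (t 4 ^^^ t 16 ^^^ t 32) = col_six 52 := by
    rw [← hx, ← hx]
    exact ht 52 (by norm_num) (by norm_num)
  have q53 : col_six (t 1 ^^^ t 4 ^^^ t 16 ^^^ t 32) = col_six 53 := by
    rw [← hx, ← hx, ← hx]
    exact ht 53 (by norm_num) (by norm_num)
  have q54 : col_six (t 2 ^^^ t 4 ^^^ t 16 ^^^ t 32) = col_six 54 := by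
    rw [← hx, ← hx, ← hx]
    exact ht 54 (by norm_num) (by norm_num)
  have q55 : col_six (t 1 ^^^ t 2 ^^^ t 4 ^^^ t 16 ^^^ t 32) = col_six 55 := by
    rw [← hx, ← hx, ← hx, ← hx]
    exact ht 55 (by norm_num) (by norm_num)
  have q56 : col_six (t 8 ^^^ t 16 ^^^ t 32) = col_six 56 := by
    rw [← hx, ← hx]
    exact ht 56 (by norm_num) (by norm_num)
  have q57 : col_six (t 1 ^^^ t 8 ^^^ t 16 ^^^ t 32) = col_six 57 := by
    rw [← hx, ← hx, ← hx]
    exact ht 57 (by norm_num) (by norm_num)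
  have q58 : col_six (t 2 ^^^ t 8 ^^^ t 16 ^^^ t 32) = col_six 58 := by
    rw [← hx, ← hx, ← hx]
    exact ht 58 (by norm_num) (by norm_num)
  have q59 : col_six (t 1 ^^^ t 2 ^^^ t 8 ^^^ t 16 ^^^ t 32) = col_six 59 := by
    rw [← hx, ← hx, ← hx, ← hx]
    exact ht 59 (by norm_num) (by norm_num)
  have q60 : col_six (t 4 ^^^ t 8 ^^^ t 16 ^^^ t 32) = col_six 60 := by
    rw [← hx, ← hx, ← hx]
    exact ht 60 (by norm_num) (by norm_num)
  have q61 : col_six (t 1 ^^^ t 4 ^^^ t 8 ^^^ t 16 ^^^ t 32) = col_six 61 := by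
    rw [← hx, ← hx, ← hx, ← hx]
    exact ht 61 (by norm_num) (by norm_num)
  have q62 : col_six (t 2 ^^^ t 4 ^^^ t 8 ^^^ t 16 ^^^ t 32) = col_six 62 := by
    rw [← hx, ← hx, ← hx, ← hx]
    exact ht 62 (by norm_num) (by norm_num)
  have q63 : col_six (t 1 ^^^ t 2 ^^^ t 4 ^^^ t 8 ^^^ t 16 ^^^ t 32) = col_six 63 := by
    rw [← hx, ← hx, ← hx, ← hx, ← hx]
    exact ht 63 (by norm_num) (by norm_num)
  obtain ⟨e0, e1, e2, e3, e4, e5⟩ := cert_six (t 1) q1 (t 2) q2 q3 (t 4) q4 q5 q6 q7 (t 8) q8 q9 q10 q11 q12 q13 q14 q15 (t 16) q16 q17 q18 q19 q20 q21 q22 q23 q24 q25 q26 q27 q28 q29 q30 q31 (t 32) q32 q33 q34 q35 q36 q37 q38 q39 q40 q41 q42 q43 q44 q45 q46 q47 q48 q49 q50 q51 q52 q53 q54 q55 q56 q57 q58 q59 q60 q61 q62 q63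
  refine mem_of_singles (S := AddMonoidHom.eqLocus τ (AddMonoidHom.id _)) fun k => ?_
  show τ (Pi.single k 1) = Pi.single k 1
  have key : ∀ n, t n = n → τ (dec 6 n) = dec 6 n := fun n hn => by
    conv_lhs => rw [← dec_enc (τ (dec 6 n))]
    exact congrArg (dec 6) hn
  rw [← dec_pow k]
  fin_cases k
  · exact key 1 e0
  · exact key 2 e1
  · exact key 4 e2
  · exact key 8 e3
  · exact key 16 e4
  · exact key 32 e5

theorem rigid_six : Rigid 2 6 1 := by
  refine ⟨fun a => col_six (enc a), fun a ha => ?_, fun i => ?_, fun τ hinj hc => tau_six τ hinj hc, fun μ β hadd hμ => ?_⟩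
  · have h0 : enc a ≠ 0 := fun h => ha (by rw [← dec_enc a, h, dec_zero])
    exact (by decide +kernel : ∀ x < 64, x ≠ 0 → col_six x ≤ 1) _ (enc_lt a) h0
  · show col_six (enc (Pi.single i 1)) ≠ 0
    rw [enc_single]; revert i; decide
  · have hz : ∀ x < 64, col_six x ≠ 0 → 0 < x → μ (dec 6 x) = 0 := fun x h1 h2 h3 => hμ _
      (fun h => by
        have := congrArg enc h
        rw [enc_dec (d := 6) h1, enc_zero] at this
        omega)
      (by
        show col_six (enc (dec 6 x)) ≠ 0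
        rw [enc_dec (d := 6) h1]; exact h2)
    refine form_zero μ β hadd (fun i => ?_) (fun h => absurd rfl h) fun i j hij => ?_
    · rw [← dec_pow]
      exact hz _ (Nat.pow_lt_pow_right (by norm_num) i.2) (by revert i; decide) (Nat.two_pow_pos _)
    · rw [← dec_pair]
      exact hz _ (by revert i j; decide) (by revert i j; decide) (by revert i j; decide)

/-- colours -/
def col_shift_three_one (n : ℕ) : ℕ := [9, 1, 2, 2, 1, 2, 2, 0].getD n 0

/-- shifts -/
def sh_shift_three_one (n : ℕ) : ℕ := [0, 0, 1, 1, 0, 1, 0, 0].getD n 0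

theorem cert_shift_three_one : ∀ x0 ∈ [1, 4],
    ∀ x1 ∈ [2, 3, 5, 6],
    col_shift_three_one (x0 ^^^ x1) = col_shift_three_one 3 →
    sh_shift_three_one (x0 ^^^ x1) = 1 ^^^ ((sh_shift_three_one x0 ^^^ 0) ^^^ (sh_shift_three_one x1 ^^^ 1)) →
    ∀ x2 ∈ [1, 4],
    col_shift_three_one (x0 ^^^ x2) = col_shift_three_one 5 →
    sh_shift_three_one (x0 ^^^ x2) = 1 ^^^ ((sh_shift_three_one x0 ^^^ 0) ^^^ (sh_shift_three_one x2 ^^^ 0)) →
    col_shift_three_one (x1 ^^^ x2) = col_shift_three_one 6 →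
    sh_shift_three_one (x1 ^^^ x2) = 0 ^^^ ((sh_shift_three_one x1 ^^^ 1) ^^^ (sh_shift_three_one x2 ^^^ 0)) →
    col_shift_three_one (x0 ^^^ x1 ^^^ x2) = col_shift_three_one 7 →
    x0 = 1 ∧ x1 = 2 ∧ x2 = 4 := by decide +kernel

theorem tau_shift_three_one (τ : (Fin 3 → ZMod 2) →+ (Fin 3 → ZMod 2)) (φ : (Fin 3 → ZMod 2) → ℕ)
    (hinj : Function.Injective τ) (hφ : ∀ a b, φ (a + b) = φ a ^^^ φ b)
    (hc : ∀ a, a ≠ 0 → col_shift_three_one (enc (τ a)) = col_shift_three_one (enc a))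
    (hp : ∀ a, a ≠ 0 → col_shift_three_one (enc a) ≠ 0 → sh_shift_three_one (enc (τ a)) = sh_shift_three_one (enc a) ^^^ φ a) :
    ∀ a, τ a = a := by
  let t : ℕ → ℕ := fun x => enc (τ (dec 3 x))
  have hx : ∀ x y, t (x ^^^ y) = t x ^^^ t y := fun x y => by simp only [t, dec_xor, map_add, enc_add]
  have hlt : ∀ x, t x < 8 := fun x => enc_lt _
  have hne : ∀ x, 0 < x → x < 8 → dec 3 x ≠ 0 := fun x h0 h1 h => by
    have := congrArg enc h
    rw [enc_dec (d := 3) h1, enc_zero] at this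
    omega
  have ht : ∀ x, 0 < x → x < 8 → col_shift_three_one (t x) = col_shift_three_one x := fun x h0 h1 => by
    show col_shift_three_one (enc (τ (dec 3 x))) = col_shift_three_one x
    rw [hc _ (hne x h0 h1), enc_dec (d := 3) h1]
  have hs : ∀ x, 0 < x → x < 8 → col_shift_three_one x ≠ 0 → sh_shift_three_one (t x) = sh_shift_three_one x ^^^ φ (dec 3 x) := fun x h0 h1 h2 => by
    show sh_shift_three_one (enc (τ (dec 3 x))) = sh_shift_three_one x ^^^ φ (dec 3 x)
    rw [hp _ (hne x h0 h1) (by rwa [enc_dec (d := 3) h1]), enc_dec (d := 3) h1]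
  have f0 : φ (dec 3 1) = sh_shift_three_one (t 1) ^^^ 0 := by
    rw [hs 1 (by norm_num) (by norm_num) (by decide), Nat.xor_comm (sh_shift_three_one 1), Nat.xor_assoc]
    show φ (dec 3 1) = φ (dec 3 1) ^^^ ((sh_shift_three_one 1) ^^^ 0)
    rw [show (sh_shift_three_one 1) ^^^ 0 = 0 by decide, Nat.xor_zero]
  have f1 : φ (dec 3 2) = sh_shift_three_one (t 2) ^^^ 1 := by
    rw [hs 2 (by norm_num) (by norm_num) (by decide), Nat.xor_comm (sh_shift_three_one 2), Nat.xor_assoc]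
    show φ (dec 3 2) = φ (dec 3 2) ^^^ ((sh_shift_three_one 2) ^^^ 1)
    rw [show (sh_shift_three_one 2) ^^^ 1 = 0 by decide, Nat.xor_zero]
  have f2 : φ (dec 3 4) = sh_shift_three_one (t 4) ^^^ 0 := by
    rw [hs 4 (by norm_num) (by norm_num) (by decide), Nat.xor_comm (sh_shift_three_one 4), Nat.xor_assoc]
    show φ (dec 3 4) = φ (dec 3 4) ^^^ ((sh_shift_three_one 4) ^^^ 0)
    rw [show (sh_shift_three_one 4) ^^^ 0 = 0 by decide, Nat.xor_zero]
  have q1 : t 1 ∈ [1, 4] := classes (N := 8) (col := col_shift_three_one) (v := 1) (by decide) (hlt _)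
    ((ht 1 (by norm_num) (by norm_num)).trans (by decide))
  have q2 : t 2 ∈ [2, 3, 5, 6] := classes (N := 8) (col := col_shift_three_one) (v := 2) (by decide) (hlt _)
    ((ht 2 (by norm_num) (by norm_num)).trans (by decide))
  have q3 : col_shift_three_one (t 1 ^^^ t 2) = col_shift_three_one 3 := by
    rw [← hx]
    exact ht 3 (by norm_num) (by norm_num)
  have q4 : sh_shift_three_one (t 1 ^^^ t 2) = 1 ^^^ ((sh_shift_three_one (t 1) ^^^ 0) ^^^ (sh_shift_three_one (t 2) ^^^ 1)) := by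
    rw [← hx, ← f0, ← f1, ← hφ, ← dec_xor]
    exact hs 3 (by norm_num) (by norm_num) (by decide)
  have q5 : t 4 ∈ [1, 4] := classes (N := 8) (col := col_shift_three_one) (v := 1) (by decide) (hlt _)
    ((ht 4 (by norm_num) (by norm_num)).trans (by decide))
  have q6 : col_shift_three_one (t 1 ^^^ t 4) = col_shift_three_one 5 := by
    rw [← hx]
    exact ht 5 (by norm_num) (by norm_num)
  have q7 : sh_shift_three_one (t 1 ^^^ t 4) = 1 ^^^ ((sh_shift_three_one (t 1) ^^^ 0) ^^^ (sh_shift_three_one (t 4) ^^^ 0)) := by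
    rw [← hx, ← f0, ← f2, ← hφ, ← dec_xor]
    exact hs 5 (by norm_num) (by norm_num) (by decide)
  have q8 : col_shift_three_one (t 2 ^^^ t 4) = col_shift_three_one 6 := by
    rw [← hx]
    exact ht 6 (by norm_num) (by norm_num)
  have q9 : sh_shift_three_one (t 2 ^^^ t 4) = 0 ^^^ ((sh_shift_three_one (t 2) ^^^ 1) ^^^ (sh_shift_three_one (t 4) ^^^ 0)) := by
    rw [← hx, ← f1, ← f2, ← hφ, ← dec_xor]
    exact hs 6 (by norm_num) (by norm_num) (by decide)
  have q10 : col_shift_three_one (t 1 ^^^ t 2 ^^^ t 4) = col_shift_three_one 7 := by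
    rw [← hx, ← hx]
    exact ht 7 (by norm_num) (by norm_num)
  obtain ⟨e0, e1, e2⟩ := cert_shift_three_one (t 1) q1 (t 2) q2 q3 q4 (t 4) q5 q6 q7 q8 q9 q10
  refine mem_of_singles (S := AddMonoidHom.eqLocus τ (AddMonoidHom.id _)) fun k => ?_
  show τ (Pi.single k 1) = Pi.single k 1
  have key : ∀ n, t n = n → τ (dec 3 n) = dec 3 n := fun n hn => by
    conv_lhs => rw [← dec_enc (τ (dec 3 n))]
    exact congrArg (dec 3) hn
  rw [← dec_pow k]
  fin_cases k
  · exact key 1 e0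
  · exact key 2 e1
  · exact key 4 e2

theorem rigid_shift_three_one : RigidShift 3 1 2 := by
  refine ⟨fun a => col_shift_three_one (enc a), fun a => sh_shift_three_one (enc a), fun a ha => ?_, fun a => ?_, fun i => ?_,
    fun τ φ hinj hφ _ hc hp => tau_shift_three_one τ φ hinj hφ hc hp, fun μ β hadd hμ => ?_⟩
  · have h0 : enc a ≠ 0 := fun h => ha (by rw [← dec_enc a, h, dec_zero])
    exact (by decide +kernel : ∀ x < 8, x ≠ 0 → col_shift_three_one x ≤ 2) _ (enc_lt a) h0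
  · exact (by decide +kernel : ∀ x < 8, sh_shift_three_one x < 2 ^ 1) _ (enc_lt a)
  · show col_shift_three_one (enc (Pi.single i 1)) ≠ 0
    rw [enc_single]; revert i; decide
  · have hz : ∀ x < 8, col_shift_three_one x ≠ 0 → 0 < x → μ (dec 3 x) = 0 := fun x h1 h2 h3 => hμ _
      (fun h => by
        have := congrArg enc h
        rw [enc_dec (d := 3) h1, enc_zero] at this
        omega)
      (by
        show col_shift_three_one (enc (dec 3 x)) ≠ 0
        rw [enc_dec (d := 3) h1]; exact h2)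
    refine form_zero μ β hadd (fun i => ?_) (fun h => absurd rfl h) fun i j hij => ?_
    · rw [← dec_pow]
      exact hz _ (Nat.pow_lt_pow_right (by norm_num) i.2) (by revert i; decide) (Nat.two_pow_pos _)
    · rw [← dec_pair]
      exact hz _ (by revert i j; decide) (by revert i j; decide) (by revert i j; decide)

/-- colours -/
def col_shift_three_two (n : ℕ) : ℕ := [9, 1, 1, 1, 1, 1, 1, 0].getD n 0

/-- shifts -/
def sh_shift_three_two (n : ℕ) : ℕ := [0, 1, 3, 2, 0, 3, 0, 1].getD n 0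

theorem cert_shift_three_two : ∀ x0 ∈ [1, 2, 3, 4, 5, 6],
    ∀ x1 ∈ [1, 2, 3, 4, 5, 6],
    col_shift_three_two (x0 ^^^ x1) = col_shift_three_two 3 →
    sh_shift_three_two (x0 ^^^ x1) = 2 ^^^ ((sh_shift_three_two x0 ^^^ 1) ^^^ (sh_shift_three_two x1 ^^^ 3)) →
    ∀ x2 ∈ [1, 2, 3, 4, 5, 6],
    col_shift_three_two (x0 ^^^ x2) = col_shift_three_two 5 →
    sh_shift_three_two (x0 ^^^ x2) = 3 ^^^ ((sh_shift_three_two x0 ^^^ 1) ^^^ (sh_shift_three_two x2 ^^^ 0)) →
    col_shift_three_two (x1 ^^^ x2) = col_shift_three_two 6 →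
    sh_shift_three_two (x1 ^^^ x2) = 0 ^^^ ((sh_shift_three_two x1 ^^^ 3) ^^^ (sh_shift_three_two x2 ^^^ 0)) →
    col_shift_three_two (x0 ^^^ x1 ^^^ x2) = col_shift_three_two 7 →
    x0 = 1 ∧ x1 = 2 ∧ x2 = 4 := by decide +kernel

theorem tau_shift_three_two (τ : (Fin 3 → ZMod 2) →+ (Fin 3 → ZMod 2)) (φ : (Fin 3 → ZMod 2) → ℕ)
    (hinj : Function.Injective τ) (hφ : ∀ a b, φ (a + b) = φ a ^^^ φ b)
    (hc : ∀ a, a ≠ 0 → col_shift_three_two (enc (τ a)) = col_shift_three_two (enc a))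
    (hp : ∀ a, a ≠ 0 → col_shift_three_two (enc a) ≠ 0 → sh_shift_three_two (enc (τ a)) = sh_shift_three_two (enc a) ^^^ φ a) :
    ∀ a, τ a = a := by
  let t : ℕ → ℕ := fun x => enc (τ (dec 3 x))
  have hx : ∀ x y, t (x ^^^ y) = t x ^^^ t y := fun x y => by simp only [t, dec_xor, map_add, enc_add]
  have hlt : ∀ x, t x < 8 := fun x => enc_lt _
  have hne : ∀ x, 0 < x → x < 8 → dec 3 x ≠ 0 := fun x h0 h1 h => by
    have := congrArg enc h
    rw [enc_dec (d := 3) h1, enc_zero] at this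
    omega
  have ht : ∀ x, 0 < x → x < 8 → col_shift_three_two (t x) = col_shift_three_two x := fun x h0 h1 => by
    show col_shift_three_two (enc (τ (dec 3 x))) = col_shift_three_two x
    rw [hc _ (hne x h0 h1), enc_dec (d := 3) h1]
  have hs : ∀ x, 0 < x → x < 8 → col_shift_three_two x ≠ 0 → sh_shift_three_two (t x) = sh_shift_three_two x ^^^ φ (dec 3 x) := fun x h0 h1 h2 => by
    show sh_shift_three_two (enc (τ (dec 3 x))) = sh_shift_three_two x ^^^ φ (dec 3 x)
    rw [hp _ (hne x h0 h1) (by rwa [enc_dec (d := 3) h1]), enc_dec (d := 3) h1]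
  have f0 : φ (dec 3 1) = sh_shift_three_two (t 1) ^^^ 1 := by
    rw [hs 1 (by norm_num) (by norm_num) (by decide), Nat.xor_comm (sh_shift_three_two 1), Nat.xor_assoc]
    show φ (dec 3 1) = φ (dec 3 1) ^^^ ((sh_shift_three_two 1) ^^^ 1)
    rw [show (sh_shift_three_two 1) ^^^ 1 = 0 by decide, Nat.xor_zero]
  have f1 : φ (dec 3 2) = sh_shift_three_two (t 2) ^^^ 3 := by
    rw [hs 2 (by norm_num) (by norm_num) (by decide), Nat.xor_comm (sh_shift_three_two 2), Nat.xor_assoc]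
    show φ (dec 3 2) = φ (dec 3 2) ^^^ ((sh_shift_three_two 2) ^^^ 3)
    rw [show (sh_shift_three_two 2) ^^^ 3 = 0 by decide, Nat.xor_zero]
  have f2 : φ (dec 3 4) = sh_shift_three_two (t 4) ^^^ 0 := by
    rw [hs 4 (by norm_num) (by norm_num) (by decide), Nat.xor_comm (sh_shift_three_two 4), Nat.xor_assoc]
    show φ (dec 3 4) = φ (dec 3 4) ^^^ ((sh_shift_three_two 4) ^^^ 0)
    rw [show (sh_shift_three_two 4) ^^^ 0 = 0 by decide, Nat.xor_zero]
  have q1 : t 1 ∈ [1, 2, 3, 4, 5, 6] := classes (N := 8) (col := col_shift_three_two) (v := 1) (by decide) (hlt _)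
    ((ht 1 (by norm_num) (by norm_num)).trans (by decide))
  have q2 : t 2 ∈ [1, 2, 3, 4, 5, 6] := classes (N := 8) (col := col_shift_three_two) (v := 1) (by decide) (hlt _)
    ((ht 2 (by norm_num) (by norm_num)).trans (by decide))
  have q3 : col_shift_three_two (t 1 ^^^ t 2) = col_shift_three_two 3 := by
    rw [← hx]
    exact ht 3 (by norm_num) (by norm_num)
  have q4 : sh_shift_three_two (t 1 ^^^ t 2) = 2 ^^^ ((sh_shift_three_two (t 1) ^^^ 1) ^^^ (sh_shift_three_two (t 2) ^^^ 3)) := by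
    rw [← hx, ← f0, ← f1, ← hφ, ← dec_xor]
    exact hs 3 (by norm_num) (by norm_num) (by decide)
  have q5 : t 4 ∈ [1, 2, 3, 4, 5, 6] := classes (N := 8) (col := col_shift_three_two) (v := 1) (by decide) (hlt _)
    ((ht 4 (by norm_num) (by norm_num)).trans (by decide))
  have q6 : col_shift_three_two (t 1 ^^^ t 4) = col_shift_three_two 5 := by
    rw [← hx]
    exact ht 5 (by norm_num) (by norm_num)
  have q7 : sh_shift_three_two (t 1 ^^^ t 4) = 3 ^^^ ((sh_shift_three_two (t 1) ^^^ 1) ^^^ (sh_shift_three_two (t 4) ^^^ 0)) := by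
    rw [← hx, ← f0, ← f2, ← hφ, ← dec_xor]
    exact hs 5 (by norm_num) (by norm_num) (by decide)
  have q8 : col_shift_three_two (t 2 ^^^ t 4) = col_shift_three_two 6 := by
    rw [← hx]
    exact ht 6 (by norm_num) (by norm_num)
  have q9 : sh_shift_three_two (t 2 ^^^ t 4) = 0 ^^^ ((sh_shift_three_two (t 2) ^^^ 3) ^^^ (sh_shift_three_two (t 4) ^^^ 0)) := by
    rw [← hx, ← f1, ← f2, ← hφ, ← dec_xor]
    exact hs 6 (by norm_num) (by norm_num) (by decide)
  have q10 : col_shift_three_two (t 1 ^^^ t 2 ^^^ t 4) = col_shift_three_two 7 := by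
    rw [← hx, ← hx]
    exact ht 7 (by norm_num) (by norm_num)
  obtain ⟨e0, e1, e2⟩ := cert_shift_three_two (t 1) q1 (t 2) q2 q3 q4 (t 4) q5 q6 q7 q8 q9 q10
  refine mem_of_singles (S := AddMonoidHom.eqLocus τ (AddMonoidHom.id _)) fun k => ?_
  show τ (Pi.single k 1) = Pi.single k 1
  have key : ∀ n, t n = n → τ (dec 3 n) = dec 3 n := fun n hn => by
    conv_lhs => rw [← dec_enc (τ (dec 3 n))]
    exact congrArg (dec 3) hn
  rw [← dec_pow k]
  fin_cases k
  · exact key 1 e0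
  · exact key 2 e1
  · exact key 4 e2

theorem rigid_shift_three_two : RigidShift 3 2 1 := by
  refine ⟨fun a => col_shift_three_two (enc a), fun a => sh_shift_three_two (enc a), fun a ha => ?_, fun a => ?_, fun i => ?_,
    fun τ φ hinj hφ _ hc hp => tau_shift_three_two τ φ hinj hφ hc hp, fun μ β hadd hμ => ?_⟩
  · have h0 : enc a ≠ 0 := fun h => ha (by rw [← dec_enc a, h, dec_zero])
    exact (by decide +kernel : ∀ x < 8, x ≠ 0 → col_shift_three_two x ≤ 1) _ (enc_lt a) h0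
  · exact (by decide +kernel : ∀ x < 8, sh_shift_three_two x < 2 ^ 2) _ (enc_lt a)
  · show col_shift_three_two (enc (Pi.single i 1)) ≠ 0
    rw [enc_single]; revert i; decide
  · have hz : ∀ x < 8, col_shift_three_two x ≠ 0 → 0 < x → μ (dec 3 x) = 0 := fun x h1 h2 h3 => hμ _
      (fun h => by
        have := congrArg enc h
        rw [enc_dec (d := 3) h1, enc_zero] at this
        omega)
      (by
        show col_shift_three_two (enc (dec 3 x)) ≠ 0
        rw [enc_dec (d := 3) h1]; exact h2)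
    refine form_zero μ β hadd (fun i => ?_) (fun h => absurd rfl h) fun i j hij => ?_
    · rw [← dec_pow]
      exact hz _ (Nat.pow_lt_pow_right (by norm_num) i.2) (by revert i; decide) (Nat.two_pow_pos _)
    · rw [← dec_pair]
      exact hz _ (by revert i j; decide) (by revert i j; decide) (by revert i j; decide)

/-- colours -/
def col_shift_four_two (n : ℕ) : ℕ := [9, 1, 1, 1, 1, 1, 1, 0, 1, 1, 1, 0, 1, 0, 0, 0].getD n 0

/-- shifts -/
def sh_shift_four_two (n : ℕ) : ℕ := [0, 1, 2, 0, 0, 3, 2, 1, 2, 2, 2, 1, 0, 1, 2, 3].getD n 0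

theorem cert_shift_four_two : ∀ x0 ∈ [1, 2, 3, 4, 5, 6, 8, 9, 10, 12],
    ∀ x1 ∈ [1, 2, 3, 4, 5, 6, 8, 9, 10, 12],
    col_shift_four_two (x0 ^^^ x1) = col_shift_four_two 3 →
    sh_shift_four_two (x0 ^^^ x1) = 0 ^^^ ((sh_shift_four_two x0 ^^^ 1) ^^^ (sh_shift_four_two x1 ^^^ 2)) →
    ∀ x2 ∈ [1, 2, 3, 4, 5, 6, 8, 9, 10, 12],
    col_shift_four_two (x0 ^^^ x2) = col_shift_four_two 5 →
    sh_shift_four_two (x0 ^^^ x2) = 3 ^^^ ((sh_shift_four_two x0 ^^^ 1) ^^^ (sh_shift_four_two x2 ^^^ 0)) →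
    col_shift_four_two (x1 ^^^ x2) = col_shift_four_two 6 →
    sh_shift_four_two (x1 ^^^ x2) = 2 ^^^ ((sh_shift_four_two x1 ^^^ 2) ^^^ (sh_shift_four_two x2 ^^^ 0)) →
    col_shift_four_two (x0 ^^^ x1 ^^^ x2) = col_shift_four_two 7 →
    ∀ x3 ∈ [1, 2, 3, 4, 5, 6, 8, 9, 10, 12],
    col_shift_four_two (x0 ^^^ x3) = col_shift_four_two 9 →
    sh_shift_four_two (x0 ^^^ x3) = 2 ^^^ ((sh_shift_four_two x0 ^^^ 1) ^^^ (sh_shift_four_two x3 ^^^ 2)) →
    col_shift_four_two (x1 ^^^ x3) = col_shift_four_two 10 →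
    sh_shift_four_two (x1 ^^^ x3) = 2 ^^^ ((sh_shift_four_two x1 ^^^ 2) ^^^ (sh_shift_four_two x3 ^^^ 2)) →
    col_shift_four_two (x0 ^^^ x1 ^^^ x3) = col_shift_four_two 11 →
    col_shift_four_two (x2 ^^^ x3) = col_shift_four_two 12 →
    sh_shift_four_two (x2 ^^^ x3) = 0 ^^^ ((sh_shift_four_two x2 ^^^ 0) ^^^ (sh_shift_four_two x3 ^^^ 2)) →
    col_shift_four_two (x0 ^^^ x2 ^^^ x3) = col_shift_four_two 13 →
    col_shift_four_two (x1 ^^^ x2 ^^^ x3) = col_shift_four_two 14 →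
    col_shift_four_two (x0 ^^^ x1 ^^^ x2 ^^^ x3) = col_shift_four_two 15 →
    x0 = 1 ∧ x1 = 2 ∧ x2 = 4 ∧ x3 = 8 := by decide +kernel

theorem tau_shift_four_two (τ : (Fin 4 → ZMod 2) →+ (Fin 4 → ZMod 2)) (φ : (Fin 4 → ZMod 2) → ℕ)
    (hinj : Function.Injective τ) (hφ : ∀ a b, φ (a + b) = φ a ^^^ φ b)
    (hc : ∀ a, a ≠ 0 → col_shift_four_two (enc (τ a)) = col_shift_four_two (enc a))
    (hp : ∀ a, a ≠ 0 → col_shift_four_two (enc a) ≠ 0 → sh_shift_four_two (enc (τ a)) = sh_shift_four_two (enc a) ^^^ φ a) :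
    ∀ a, τ a = a := by
  let t : ℕ → ℕ := fun x => enc (τ (dec 4 x))
  have hx : ∀ x y, t (x ^^^ y) = t x ^^^ t y := fun x y => by simp only [t, dec_xor, map_add, enc_add]
  have hlt : ∀ x, t x < 16 := fun x => enc_lt _
  have hne : ∀ x, 0 < x → x < 16 → dec 4 x ≠ 0 := fun x h0 h1 h => by
    have := congrArg enc h
    rw [enc_dec (d := 4) h1, enc_zero] at this
    omega
  have ht : ∀ x, 0 < x → x < 16 → col_shift_four_two (t x) = col_shift_four_two x := fun x h0 h1 => by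
    show col_shift_four_two (enc (τ (dec 4 x))) = col_shift_four_two x
    rw [hc _ (hne x h0 h1), enc_dec (d := 4) h1]
  have hs : ∀ x, 0 < x → x < 16 → col_shift_four_two x ≠ 0 → sh_shift_four_two (t x) = sh_shift_four_two x ^^^ φ (dec 4 x) := fun x h0 h1 h2 => by
    show sh_shift_four_two (enc (τ (dec 4 x))) = sh_shift_four_two x ^^^ φ (dec 4 x)
    rw [hp _ (hne x h0 h1) (by rwa [enc_dec (d := 4) h1]), enc_dec (d := 4) h1]
  have f0 : φ (dec 4 1) = sh_shift_four_two (t 1) ^^^ 1 := by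
    rw [hs 1 (by norm_num) (by norm_num) (by decide), Nat.xor_comm (sh_shift_four_two 1), Nat.xor_assoc]
    show φ (dec 4 1) = φ (dec 4 1) ^^^ ((sh_shift_four_two 1) ^^^ 1)
    rw [show (sh_shift_four_two 1) ^^^ 1 = 0 by decide, Nat.xor_zero]
  have f1 : φ (dec 4 2) = sh_shift_four_two (t 2) ^^^ 2 := by
    rw [hs 2 (by norm_num) (by norm_num) (by decide), Nat.xor_comm (sh_shift_four_two 2), Nat.xor_assoc]
    show φ (dec 4 2) = φ (dec 4 2) ^^^ ((sh_shift_four_two 2) ^^^ 2)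
    rw [show (sh_shift_four_two 2) ^^^ 2 = 0 by decide, Nat.xor_zero]
  have f2 : φ (dec 4 4) = sh_shift_four_two (t 4) ^^^ 0 := by
    rw [hs 4 (by norm_num) (by norm_num) (by decide), Nat.xor_comm (sh_shift_four_two 4), Nat.xor_assoc]
    show φ (dec 4 4) = φ (dec 4 4) ^^^ ((sh_shift_four_two 4) ^^^ 0)
    rw [show (sh_shift_four_two 4) ^^^ 0 = 0 by decide, Nat.xor_zero]
  have f3 : φ (dec 4 8) = sh_shift_four_two (t 8) ^^^ 2 := by
    rw [hs 8 (by norm_num) (by norm_num) (by decide), Nat.xor_comm (sh_shift_four_two 8), Nat.xor_assoc]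
    show φ (dec 4 8) = φ (dec 4 8) ^^^ ((sh_shift_four_two 8) ^^^ 2)
    rw [show (sh_shift_four_two 8) ^^^ 2 = 0 by decide, Nat.xor_zero]
  have q1 : t 1 ∈ [1, 2, 3, 4, 5, 6, 8, 9, 10, 12] := classes (N := 16) (col := col_shift_four_two) (v := 1) (by decide) (hlt _)
    ((ht 1 (by norm_num) (by norm_num)).trans (by decide))
  have q2 : t 2 ∈ [1, 2, 3, 4, 5, 6, 8, 9, 10, 12] := classes (N := 16) (col := col_shift_four_two) (v := 1) (by decide) (hlt _)
    ((ht 2 (by norm_num) (by norm_num)).trans (by decide))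
  have q3 : col_shift_four_two (t 1 ^^^ t 2) = col_shift_four_two 3 := by
    rw [← hx]
    exact ht 3 (by norm_num) (by norm_num)
  have q4 : sh_shift_four_two (t 1 ^^^ t 2) = 0 ^^^ ((sh_shift_four_two (t 1) ^^^ 1) ^^^ (sh_shift_four_two (t 2) ^^^ 2)) := by
    rw [← hx, ← f0, ← f1, ← hφ, ← dec_xor]
    exact hs 3 (by norm_num) (by norm_num) (by decide)
  have q5 : t 4 ∈ [1, 2, 3, 4, 5, 6, 8, 9, 10, 12] := classes (N := 16) (col := col_shift_four_two) (v := 1) (by decide) (hlt _)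
    ((ht 4 (by norm_num) (by norm_num)).trans (by decide))
  have q6 : col_shift_four_two (t 1 ^^^ t 4) = col_shift_four_two 5 := by
    rw [← hx]
    exact ht 5 (by norm_num) (by norm_num)
  have q7 : sh_shift_four_two (t 1 ^^^ t 4) = 3 ^^^ ((sh_shift_four_two (t 1) ^^^ 1) ^^^ (sh_shift_four_two (t 4) ^^^ 0)) := by
    rw [← hx, ← f0, ← f2, ← hφ, ← dec_xor]
    exact hs 5 (by norm_num) (by norm_num) (by decide)
  have q8 : col_shift_four_two (t 2 ^^^ t 4) = col_shift_four_two 6 := by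
    rw [← hx]
    exact ht 6 (by norm_num) (by norm_num)
  have q9 : sh_shift_four_two (t 2 ^^^ t 4) = 2 ^^^ ((sh_shift_four_two (t 2) ^^^ 2) ^^^ (sh_shift_four_two (t 4) ^^^ 0)) := by
    rw [← hx, ← f1, ← f2, ← hφ, ← dec_xor]
    exact hs 6 (by norm_num) (by norm_num) (by decide)
  have q10 : col_shift_four_two (t 1 ^^^ t 2 ^^^ t 4) = col_shift_four_two 7 := by
    rw [← hx, ← hx]
    exact ht 7 (by norm_num) (by norm_num)
  have q11 : t 8 ∈ [1, 2, 3, 4, 5, 6, 8, 9, 10, 12] := classes (N := 16) (col := col_shift_four_two) (v := 1) (by decide) (hlt _)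
    ((ht 8 (by norm_num) (by norm_num)).trans (by decide))
  have q12 : col_shift_four_two (t 1 ^^^ t 8) = col_shift_four_two 9 := by
    rw [← hx]
    exact ht 9 (by norm_num) (by norm_num)
  have q13 : sh_shift_four_two (t 1 ^^^ t 8) = 2 ^^^ ((sh_shift_four_two (t 1) ^^^ 1) ^^^ (sh_shift_four_two (t 8) ^^^ 2)) := by
    rw [← hx, ← f0, ← f3, ← hφ, ← dec_xor]
    exact hs 9 (by norm_num) (by norm_num) (by decide)
  have q14 : col_shift_four_two (t 2 ^^^ t 8) = col_shift_four_two 10 := by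
    rw [← hx]
    exact ht 10 (by norm_num) (by norm_num)
  have q15 : sh_shift_four_two (t 2 ^^^ t 8) = 2 ^^^ ((sh_shift_four_two (t 2) ^^^ 2) ^^^ (sh_shift_four_two (t 8) ^^^ 2)) := by
    rw [← hx, ← f1, ← f3, ← hφ, ← dec_xor]
    exact hs 10 (by norm_num) (by norm_num) (by decide)
  have q16 : col_shift_four_two (t 1 ^^^ t 2 ^^^ t 8) = col_shift_four_two 11 := by
    rw [← hx, ← hx]
    exact ht 11 (by norm_num) (by norm_num)
  have q17 : col_shift_four_two (t 4 ^^^ t 8) = col_shift_four_two 12 := by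
    rw [← hx]
    exact ht 12 (by norm_num) (by norm_num)
  have q18 : sh_shift_four_two (t 4 ^^^ t 8) = 0 ^^^ ((sh_shift_four_two (t 4) ^^^ 0) ^^^ (sh_shift_four_two (t 8) ^^^ 2)) := by
    rw [← hx, ← f2, ← f3, ← hφ, ← dec_xor]
    exact hs 12 (by norm_num) (by norm_num) (by decide)
  have q19 : col_shift_four_two (t 1 ^^^ t 4 ^^^ t 8) = col_shift_four_two 13 := by
    rw [← hx, ← hx]
    exact ht 13 (by norm_num) (by norm_num)
  have q20 : col_shift_four_two (t 2 ^^^ t 4 ^^^ t 8) = col_shift_four_two 14 := by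
    rw [← hx, ← hx]
    exact ht 14 (by norm_num) (by norm_num)
  have q21 : col_shift_four_two (t 1 ^^^ t 2 ^^^ t 4 ^^^ t 8) = col_shift_four_two 15 := by
    rw [← hx, ← hx, ← hx]
    exact ht 15 (by norm_num) (by norm_num)
  obtain ⟨e0, e1, e2, e3⟩ := cert_shift_four_two (t 1) q1 (t 2) q2 q3 q4 (t 4) q5 q6 q7 q8 q9 q10 (t 8) q11 q12 q13 q14 q15 q16 q17 q18 q19 q20 q21
  refine mem_of_singles (S := AddMonoidHom.eqLocus τ (AddMonoidHom.id _)) fun k => ?_
  show τ (Pi.single k 1) = Pi.single k 1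
  have key : ∀ n, t n = n → τ (dec 4 n) = dec 4 n := fun n hn => by
    conv_lhs => rw [← dec_enc (τ (dec 4 n))]
    exact congrArg (dec 4) hn
  rw [← dec_pow k]
  fin_cases k
  · exact key 1 e0
  · exact key 2 e1
  · exact key 4 e2
  · exact key 8 e3

theorem rigid_shift_four_two : RigidShift 4 2 1 := by
  refine ⟨fun a => col_shift_four_two (enc a), fun a => sh_shift_four_two (enc a), fun a ha => ?_, fun a => ?_, fun i => ?_,
    fun τ φ hinj hφ _ hc hp => tau_shift_four_two τ φ hinj hφ hc hp, fun μ β hadd hμ => ?_⟩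
  · have h0 : enc a ≠ 0 := fun h => ha (by rw [← dec_enc a, h, dec_zero])
    exact (by decide +kernel : ∀ x < 16, x ≠ 0 → col_shift_four_two x ≤ 1) _ (enc_lt a) h0
  · exact (by decide +kernel : ∀ x < 16, sh_shift_four_two x < 2 ^ 2) _ (enc_lt a)
  · show col_shift_four_two (enc (Pi.single i 1)) ≠ 0
    rw [enc_single]; revert i; decide
  · have hz : ∀ x < 16, col_shift_four_two x ≠ 0 → 0 < x → μ (dec 4 x) = 0 := fun x h1 h2 h3 => hμ _
      (fun h => by
        have := congrArg enc h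
        rw [enc_dec (d := 4) h1, enc_zero] at this
        omega)
      (by
        show col_shift_four_two (enc (dec 4 x)) ≠ 0
        rw [enc_dec (d := 4) h1]; exact h2)
    refine form_zero μ β hadd (fun i => ?_) (fun h => absurd rfl h) fun i j hij => ?_
    · rw [← dec_pow]
      exact hz _ (Nat.pow_lt_pow_right (by norm_num) i.2) (by revert i; decide) (Nat.two_pow_pos _)
    · rw [← dec_pair]
      exact hz _ (by revert i j; decide) (by revert i j; decide) (by revert i j; decide)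

end CfsgLib.BaseCop
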