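import Cfsg.Agent.Lib.BaseCop.Labels
import Cfsg.Agent.Lib.BaseCop.RigidLarge
import Cfsg.Agent.Lib.BaseCop.Tables

/-!
From rigid colourings over two elements to rigid labels.
-/

set_option autoImplicit false
set_option linter.unusedSectionVars false

namespace CfsgLib.BaseCop

open CfsgLib.BaseTwo (FieldCase zp_zero dot dot_zero)
open CfsgLib.BaseThree (Data mem_of_singles)

universe u

theorem zmod2_eq : ∀ u v : ZMod 2, u ≠ 0 → v ≠ 0 → u = v := by decide

theorem fin_one_cases : ∀ b : Fin 1 → ZMod 2, b = 0 ∨ b = 1 := by decide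

theorem fin_one_ne : (1 : Fin 1 → ZMod 2) ≠ 0 := by decide

variable {A V : Type u} [Group A] [Finite A] [AddCommGroup V] [Finite V] [DistribMulAction A V]
variable {U : Subgroup A} {d : ℕ} [Fact (Nat.Prime 2)] (D : Data A V U 2 d)

/-- the elements whose square is a sign -/
def SignSq (q : A) : Prop := q ∈ D.K ∧ ∃ x, q * q = D.sc x

/-- what is known about the labels moved by an element fixing both vectors -/
def Lift (f : (Fin d → ZMod 2) → V) : Prop :=
  ∀ (κ : (Fin d → ZMod 2) → A) (τ β : (Fin d → ZMod 2) →+ (Fin d → ZMod 2)), Function.Injective τ →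
    (∀ a, κ a ∈ D.K) → (∀ a b, κ (a + b) = κ a * κ b * D.sc (dot (β a) (τ b))) → κ 0 = 1 →
    (∀ a, a ≠ 0 → κ a • f a = f (τ a)) → (∀ a, τ a = a) ∧ ∀ a, κ a = 1

theorem sc_self (x : ZMod 2) : D.sc x * D.sc x = 1 := by
  rw [← D.sc_add, show x + x = 0 from CharTwo.add_self_eq_zero x]
  exact zp_zero _

theorem sc_inv (x : ZMod 2) : (D.sc x)⁻¹ = D.sc x := inv_eq_of_mul_eq_one_right (sc_self D x)

theorem signSq_inv {q : A} (h : SignSq D q) : SignSq D q⁻¹ := by
  obtain ⟨hq, x, hx⟩ := h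
  exact ⟨inv_mem hq, x, by rw [← mul_inv_rev, hx, sc_inv]⟩

theorem signSq_map {κ : (Fin d → ZMod 2) → A} {τ β : (Fin d → ZMod 2) →+ (Fin d → ZMod 2)}
    (hκK : ∀ a, κ a ∈ D.K) (hadd : ∀ a b, κ (a + b) = κ a * κ b * D.sc (dot (β a) (τ b))) (h0 : κ 0 = 1)
    (a : Fin d → ZMod 2) : SignSq D (κ a) := by
  refine ⟨hκK a, dot (β a) (τ a), ?_⟩
  have h := hadd a a
  rw [show a + a = 0 from funext fun k => CharTwo.add_self_eq_zero _, h0] at h
  rw [eq_mul_inv_of_mul_eq h.symm, one_mul, sc_inv]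

/-- signs on a basis give signs everywhere -/
theorem exists_sign {κ : (Fin d → ZMod 2) → A} {τ β : (Fin d → ZMod 2) →+ (Fin d → ZMod 2)}
    (hadd : ∀ a b, κ (a + b) = κ a * κ b * D.sc (dot (β a) (τ b))) (h0 : κ 0 = 1)
    (hs : ∀ k, ∃ x, κ (Pi.single k 1) = D.sc x) (a : Fin d → ZMod 2) : ∃ x, κ a = D.sc x := by
  let S : AddSubgroup (Fin d → ZMod 2) :=
    { carrier := {a | ∃ x, κ a = D.sc x}
      zero_mem' := ⟨0, by rw [h0]; exact (zp_zero _).symm⟩
      add_mem' := fun {a b} => by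
        rintro ⟨x, hx⟩ ⟨y, hy⟩
        exact ⟨x + y + dot (β a) (τ b), by rw [hadd, hx, hy, ← D.sc_add, ← D.sc_add]⟩
      neg_mem' := fun {a} ha => by
        rwa [show -a = a from funext fun k => CharTwo.neg_eq _] }
  exact mem_of_singles (S := S) hs a

/-- one on the coloured points, hence everywhere -/
theorem finish_uni {c : (Fin d → ZMod 2) → ℕ} (hunit : ∀ i, c (Pi.single i 1) ≠ 0) (huni : Uni c)
    {κ : (Fin d → ZMod 2) → A} {τ β : (Fin d → ZMod 2) →+ (Fin d → ZMod 2)} (hid : ∀ a, τ a = a)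
    (hadd : ∀ a b, κ (a + b) = κ a * κ b * D.sc (dot (β a) (τ b))) (h0 : κ 0 = 1)
    (hone : ∀ a, a ≠ 0 → c a ≠ 0 → κ a = 1) : ∀ a, κ a = 1 := by
  have hall := exists_sign D hadd h0 fun k => ⟨0, by
    rw [hone _ (fun h => by simpa using congrFun h k) (hunit k)]; exact (zp_zero _).symm⟩
  choose μ hμ using hall
  have hz := huni μ β (fun a b => D.sc_inj (by
    rw [D.sc_add, D.sc_add, ← hμ, ← hμ, ← hμ, hadd, hid])) fun a ha hc => D.sc_inj (by
    rw [← hμ, hone a ha hc]; exact (zp_zero _).symm)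
  intro a
  rw [hμ, hz]; exact zp_zero _

theorem smul_eq_self (F : FieldCase A V U) {q : A} (hq : q ∈ D.K) {v : V} (hv : v ≠ 0) (h : q • v = v) : q = 1 :=
  D.semireg q hq v hv h

/-- colours alone -/
theorem lift_rigid {k : ℕ} (h : Rigid 2 d k) (l : ℕ → V) (h0 : l 0 = 0) (hne : ∀ i, 1 ≤ i → i ≤ k → l i ≠ 0)
    (hsep : ∀ q, SignSq D q → ∀ i j, 1 ≤ i → i ≤ k → 1 ≤ j → j ≤ k → q • l i = l j → i = j) :
    ∃ f : (Fin d → ZMod 2) → V, (∀ a, a ≠ 0 → ∃ i ≤ k, f a = l i) ∧ Lift D f := by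
  obtain ⟨c, hck, hunit, hτ, huni⟩ := h
  refine ⟨fun a => l (c a), fun a ha => ⟨c a, hck a ha, rfl⟩, fun κ τ β hinj hκK hadd hκ0 hf => ?_⟩
  have hτne : ∀ a, a ≠ 0 → τ a ≠ 0 := fun a ha e => ha (hinj (e.trans (map_zero τ).symm))
  have hcol : ∀ a, a ≠ 0 → c (τ a) = c a := by
    intro a ha
    have hk := hck a ha
    have hk' := hck _ (hτne a ha)
    have e := hf a ha
    rcases Nat.eq_zero_or_pos (c a) with hz | hp
    · simp only [hz, h0, smul_zero] at e
      rw [hz]
      by_contra hne'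
      exact hne _ (Nat.pos_of_ne_zero hne') hk' e.symm
    · rcases Nat.eq_zero_or_pos (c (τ a)) with hz | hp'
      · simp only [hz, h0, smul_eq_zero_iff_eq] at e
        exact absurd e (hne _ hp hk)
      · exact (hsep _ (signSq_map D hκK hadd hκ0 a) _ _ hp hk hp' hk' e).symm
  have hid := hτ τ hinj hcol
  refine ⟨hid, finish_uni D hunit huni hid hadd hκ0 fun a ha hc => ?_⟩
  refine D.semireg _ (hκK a) _ (hne _ (Nat.pos_of_ne_zero hc) (hck a ha)) ?_
  have e := hf a ha
  rwa [hid] at e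

/-- colours and shifts -/
theorem lift_shift {e k : ℕ} (h : RigidShift d e k) (l : ℕ → V) (h0 : l 0 = 0)
    (hne : ∀ i, 1 ≤ i → i ≤ k → l i ≠ 0) (rep : ℕ → A) (hrep : ∀ z < 2 ^ e, rep z ∈ D.K)
    (hcls : ∀ q, SignSq D q → ∃ z < 2 ^ e, ∃ x, q = D.sc x * rep z)
    (hmul : ∀ z < 2 ^ e, ∀ z' < 2 ^ e, ∃ x, rep z * rep z' = D.sc x * rep (z ^^^ z'))
    (huq : ∀ z < 2 ^ e, ∀ z' < 2 ^ e, ∀ x, D.sc x * rep z = rep z' → z = z')
    (hsep : ∀ q, SignSq D q → ∀ z < 2 ^ e, ∀ z' < 2 ^ e, ∀ i j, 1 ≤ i → i ≤ k → 1 ≤ j → j ≤ k →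
      q • rep z • l i = rep z' • l j → i = j) :
    ∃ f : (Fin d → ZMod 2) → V, (∀ a, a ≠ 0 → ∃ z < 2 ^ e, ∃ i ≤ k, f a = rep z • l i) ∧ Lift D f := by
  obtain ⟨c, p, hck, hpe, hunit, hτ, huni⟩ := h
  refine ⟨fun a => rep (p a) • l (c a), fun a ha => ⟨p a, hpe a, c a, hck a ha, rfl⟩,
    fun κ τ β hinj hκK hadd hκ0 hf => ?_⟩
  have hτne : ∀ a, a ≠ 0 → τ a ≠ 0 := fun a ha e => ha (hinj (e.trans (map_zero τ).symm))
  choose φ hφe x hx using fun a => hcls _ (signSq_map D hκK hadd hκ0 a)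
  have huq' : ∀ {z z' : ℕ} {s t : ZMod 2}, z < 2 ^ e → z' < 2 ^ e → D.sc s * rep z = D.sc t * rep z' → z = z' := by
    intro z z' s t hz hz' e'
    refine huq z hz z' hz' (t + s) ?_
    rw [D.sc_add, mul_assoc, e', ← mul_assoc, sc_self, one_mul]
  have hφ : ∀ a b, φ (a + b) = φ a ^^^ φ b := fun a b => by
    obtain ⟨y, hy⟩ := hmul _ (hφe a) _ (hφe b)
    refine huq' (s := x (a + b)) (t := x a + x b + y + dot (β a) (τ b)) (hφe _)
      (Nat.xor_lt_two_pow (hφe a) (hφe b)) ?_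
    rw [← hx, hadd, hx, hx, D.sc_add, D.sc_add, D.sc_add]
    calc D.sc (x a) * rep (φ a) * (D.sc (x b) * rep (φ b)) * D.sc (dot (β a) (τ b))
        = D.sc (x a) * (rep (φ a) * D.sc (x b)) * rep (φ b) * D.sc (dot (β a) (τ b)) := by simp only [mul_assoc]
      _ = D.sc (x a) * D.sc (x b) * (rep (φ a) * rep (φ b)) * D.sc (dot (β a) (τ b)) := by
          rw [D.sc_commK _ (hrep _ (hφe a))]; simp only [mul_assoc]
      _ = D.sc (x a) * D.sc (x b) * D.sc y * (rep (φ a ^^^ φ b) * D.sc (dot (β a) (τ b))) := by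
          rw [hy]; simp only [mul_assoc]
      _ = _ := by
          rw [D.sc_commK _ (hrep _ (Nat.xor_lt_two_pow (hφe a) (hφe b)))]; simp only [mul_assoc]
  have hcase : ∀ a, a ≠ 0 → c (τ a) = c a ∧ (c a ≠ 0 → κ a * rep (p a) = rep (p (τ a))) := by
    intro a ha
    have hk := hck a ha
    have hk' := hck _ (hτne a ha)
    have e' := hf a ha
    rcases Nat.eq_zero_or_pos (c a) with hz | hp
    · simp only [hz, h0, smul_zero] at e'
      refine ⟨?_, fun h => absurd hz h⟩
      rw [hz]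
      by_contra hne'
      exact hne _ (Nat.pos_of_ne_zero hne') hk' ((smul_eq_zero_iff_eq _).1 e'.symm)
    · rcases Nat.eq_zero_or_pos (c (τ a)) with hz | hp'
      · simp only [hz, h0, smul_zero, smul_eq_zero_iff_eq] at e'
        exact absurd e' (hne _ hp hk)
      · have hij := hsep _ (signSq_map D hκK hadd hκ0 a) _ (hpe a) _ (hpe _) _ _ hp hk hp' hk' e'
        refine ⟨hij.symm, fun _ => ?_⟩
        have := D.semireg _ (mul_mem (inv_mem (hrep _ (hpe (τ a)))) (mul_mem (hκK a) (hrep _ (hpe a))))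
          (l (c a)) (hne _ hp hk) (by
            rw [mul_smul, mul_smul]
            rw [e']
            simp only [← hij, inv_smul_smul])
        exact (inv_mul_eq_one.1 this).symm
  have hid := hτ τ φ hinj hφ hφe (fun a ha => (hcase a ha).1) fun a ha hc => by
    have h := (hcase a ha).2 hc
    obtain ⟨y, hy⟩ := hmul _ (hφe a) _ (hpe a)
    rw [hx, mul_assoc, hy, ← mul_assoc, ← D.sc_add] at h
    rw [Nat.xor_comm]
    exact (huq _ (Nat.xor_lt_two_pow (hφe a) (hpe a)) _ (hpe _) _ h).symm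
  refine ⟨hid, finish_uni D hunit huni hid hadd hκ0 fun a ha hc => ?_⟩
  have h := (hcase a ha).2 hc
  rwa [hid, mul_eq_right] at h

/-- one colour with signs -/
theorem lift_sign (h : RigidSign d) {u₀ : V} (h00 : u₀ ≠ 0) :
    ∃ f : (Fin d → ZMod 2) → V, (∀ a, f a = 0 ∨ ∃ x, f a = D.sc x • u₀) ∧ Lift D f := by
  classical
  obtain ⟨c, s, hunit, hτ⟩ := h
  refine ⟨fun a => if c a = 0 then 0 else D.sc (s a) • u₀, fun a => ?_, fun κ τ β hinj hκK hadd hκ0 hf => ?_⟩
  · by_cases h : c a = 0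
    · exact Or.inl (if_pos h)
    · exact Or.inr ⟨s a, if_neg h⟩
  have hsne : ∀ x, D.sc x • u₀ ≠ 0 := fun x e => h00 ((smul_eq_zero_iff_eq _).1 e)
  have hcase : ∀ a, a ≠ 0 → c (τ a) = c a ∧ (c a ≠ 0 → κ a * D.sc (s a) = D.sc (s (τ a))) := by
    intro a ha
    have e := hf a ha
    by_cases hz : c a = 0
    · simp only [hz, if_true, smul_zero] at e
      refine ⟨?_, fun h => absurd hz h⟩
      by_contra hne
      rw [hz] at hne
      rw [if_neg hne] at e
      exact hsne _ e.symm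
    · simp only [if_neg hz] at e
      have hne : c (τ a) ≠ 0 := fun hz' => by
        rw [if_pos hz', smul_eq_zero_iff_eq] at e
        exact hsne _ e
      rw [if_neg hne] at e
      refine ⟨zmod2_eq _ _ hne hz, fun _ => ?_⟩
      have := D.semireg _ (mul_mem (inv_mem (D.le (D.sc_mem (s (τ a))))) (mul_mem (hκK a) (D.le (D.sc_mem (s a)))))
        u₀ h00 (by rw [mul_smul, mul_smul, e, inv_smul_smul])
      exact (inv_mul_eq_one.1 this).symm
  have hsc : ∀ a, a ≠ 0 → c a ≠ 0 → κ a = D.sc (s (τ a) + s a) := fun a ha hc => by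
    rw [D.sc_add, ← (hcase a ha).2 hc, mul_assoc, sc_self, mul_one]
  choose μ hμ using exists_sign D hadd hκ0 fun k =>
    ⟨_, hsc _ (fun h => by simpa using congrFun h k) (hunit k)⟩
  obtain ⟨hid, hz⟩ := hτ μ τ β hinj (fun a b => D.sc_inj (by
      rw [D.sc_add, D.sc_add, ← hμ, ← hμ, ← hμ, hadd]))
    (fun a ha => (hcase a ha).1) fun a ha hc => by
      have : μ a = s (τ a) + s a := D.sc_inj (by rw [← hμ, hsc a ha hc])
      rw [this, add_assoc, CharTwo.add_self_eq_zero, add_zero]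
  exact ⟨hid, fun a => by rw [hμ, hz]; exact zp_zero _⟩

/-- the trivial colouring on a line -/
theorem rigid_one : Rigid 2 1 1 := by
  refine ⟨fun _ => 1, fun _ _ => le_rfl, fun _ => one_ne_zero, fun τ hinj _ a => ?_, fun μ β hadd hμ => ?_⟩
  · have key := fin_one_cases
    have h1 : τ 1 = 1 := (key _).resolve_left fun e => by
      have := hinj (e.trans (map_zero τ).symm)
      exact fin_one_ne this
    rcases key a with rfl | rfl
    · exact map_zero τ
    · exact h1
  · exact form_zero μ β hadd (fun i => hμ _ (fun h => by simpa using congrFun h i) one_ne_zero)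
      (fun h => absurd rfl h) fun i j hij => absurd hij (by omega)

/-- vectors in distinct orbits of a small set of elements -/
theorem exists_separated (S : Set A) (hinv : ∀ q ∈ S, q⁻¹ ∈ S) {m : ℕ} (hm : S.ncard ≤ m) (T : Set V) :
    ∀ k, (k - 1) * m < T.ncard → ∃ l : ℕ → V, l 0 = 0 ∧ (∀ i, 1 ≤ i → i ≤ k → l i ∈ T) ∧
      ∀ q ∈ S, ∀ i j, 1 ≤ i → i ≤ k → 1 ≤ j → j ≤ k → q • l i = l j → i = j := by
  classical
  intro k
  induction k with
  | zero => exact fun _ => ⟨fun _ => 0, rfl, fun i h h' => absurd h' (by omega), fun q _ i j h h' => absurd h' (by omega)⟩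
  | succ k ih =>
    intro hk
    rw [Nat.add_sub_cancel] at hk
    obtain ⟨l, hl0, hlT, hsep⟩ := ih (lt_of_le_of_lt (Nat.mul_le_mul_right m (Nat.sub_le k 1)) hk)
    let bad : Set V := ⋃ i ∈ Finset.Icc 1 k, (fun q => q • l i) '' S
    have hbad : bad.ncard ≤ k * m := by
      refine le_trans (Finset.set_ncard_biUnion_le _ _) ?_
      calc ∑ i ∈ Finset.Icc 1 k, ((fun q => q • l i) '' S).ncard
          ≤ ∑ _i ∈ Finset.Icc 1 k, m := Finset.sum_le_sum fun i _ =>
            (Set.ncard_image_le (Set.toFinite S)).trans hm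
        _ = k * m := by rw [Finset.sum_const, Nat.card_Icc, smul_eq_mul, Nat.add_sub_cancel]
    obtain ⟨t, ht, htb⟩ : ∃ t ∈ T, t ∉ bad := by
      by_contra hno
      push Not at hno
      exact absurd ((Set.ncard_le_ncard hno (Set.toFinite _)).trans hbad) (not_le.2 hk)
    refine ⟨Function.update l (k + 1) t, by rw [Function.update_of_ne (by omega)]; exact hl0,
      fun i h1 h2 => ?_, fun q hq i j hi hi' hj hj' e => ?_⟩
    · by_cases hik : i = k + 1
      · subst hik; rwa [Function.update_self]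
      · rw [Function.update_of_ne hik]; exact hlT i h1 (by omega)
    · by_cases hik : i = k + 1 <;> by_cases hjk : j = k + 1
      · omega
      · exfalso
        subst hik
        rw [Function.update_self, Function.update_of_ne hjk] at e
        exact htb (Set.mem_biUnion (show j ∈ Finset.Icc 1 k from Finset.mem_Icc.2 ⟨hj, by omega⟩)
          ⟨q⁻¹, hinv q hq, by show q⁻¹ • l j = t; rw [← e, inv_smul_smul]⟩)
      · exfalso
        subst hjk
        rw [Function.update_self, Function.update_of_ne hik] at e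
        exact htb (Set.mem_biUnion (show i ∈ Finset.Icc 1 k from Finset.mem_Icc.2 ⟨hi, by omega⟩) ⟨q, hq, e⟩)
      · rw [Function.update_of_ne hik, Function.update_of_ne hjk] at e
        exact hsep q hq i j hi (by omega) hj (by omega) e

/-- a small set containing all elements with square a sign -/
theorem signSq_card {e : ℕ} (rep : ℕ → A) (hcls : ∀ q, SignSq D q → ∃ z < 2 ^ e, ∃ x, q = D.sc x * rep z) :
    {q | SignSq D q}.ncard ≤ 2 * 2 ^ e := by
  classical
  haveI : Fintype (ZMod 2) := inferInstance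
  let T : Finset A := ((Finset.univ : Finset (ZMod 2)) ×ˢ Finset.range (2 ^ e)).image fun p => D.sc p.1 * rep p.2
  calc {q | SignSq D q}.ncard ≤ (T : Set A).ncard := Set.ncard_le_ncard (fun q hq => by
        obtain ⟨z, hz, x, hx⟩ := hcls q hq
        exact Finset.mem_coe.2 (Finset.mem_image.2 ⟨(x, z), by simp [hz], hx.symm⟩)) (Set.toFinite _)
    _ = T.card := Set.ncard_coe_finset T
    _ ≤ _ := Finset.card_image_le.trans (by simp)

end CfsgLib.BaseCop
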