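import Cfsg.Agent.Lib.BaseCop.TwoTools

/-!
Exponent two, coordinates over the scalars alone.
-/

set_option autoImplicit false
set_option linter.unusedSectionVars false

namespace CfsgLib.BaseCop

open CfsgLib.BaseTwo (Inv CROn BaseOn FieldCase endo scalars endo_mem_scalars zp zp_zero zp_one dot dot_zero)
open CfsgLib.BaseThree (Data)

universe u

theorem zmod2_or : ∀ c : ZMod 2, c = 0 ∨ c = 1 := by decide

theorem two_points_split : ∀ v1 v2 : Fin 2 → ZMod 2, v1 ≠ 0 → v2 ≠ 0 → v1 ≠ v2 →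
    (v1 = Pi.single 0 1 ∧ v2 = Pi.single 1 1) ∨ v1 ≠ Pi.single 0 1 ∨ v2 ≠ Pi.single 1 1 := by decide

theorem vec2_cases : ∀ a : Fin 2 → ZMod 2,
    a = 0 ∨ a = Pi.single 0 1 ∨ a = Pi.single 1 1 ∨ a = Pi.single 0 1 + Pi.single 1 1 := by decide

theorem vec2_distinct : (Pi.single 0 1 : Fin 2 → ZMod 2) ≠ 0 ∧ (Pi.single 1 1 : Fin 2 → ZMod 2) ≠ 0 ∧
    (Pi.single 0 1 : Fin 2 → ZMod 2) ≠ Pi.single 1 1 ∧
    (Pi.single 0 1 + Pi.single 1 1 : Fin 2 → ZMod 2) ≠ 0 ∧
    (Pi.single 0 1 + Pi.single 1 1 : Fin 2 → ZMod 2) ≠ Pi.single 1 1 ∧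
    (Pi.single 0 1 + Pi.single 1 1 : Fin 2 → ZMod 2) ≠ Pi.single 0 1 := by decide

variable {A V : Type u} [Group A] [Finite A] [AddCommGroup V] [Finite V] [DistribMulAction A V]
variable {U : Subgroup A} [Fact (Nat.Prime 2)] (F : FieldCase A V U)

include F

/-- elements with square a sign, without and with a square root of the sign -/
theorem classes_scalar {d : ℕ} (D : Data A V U 2 d) (hKU : D.K = U) :
    ∃ e, e ≤ 1 ∧ ∃ rep : ℕ → A, (∀ z < 2 ^ e, rep z ∈ D.K) ∧ rep 0 = 1 ∧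
      (∀ q, SignSq D q → ∃ z < 2 ^ e, ∃ x, q = D.sc x * rep z) ∧
      (∀ z < 2 ^ e, ∀ z' < 2 ^ e, ∃ x, rep z * rep z' = D.sc x * rep (z ^^^ z')) ∧
      (∀ z < 2 ^ e, ∀ z' < 2 ^ e, ∀ x, D.sc x * rep z = rep z' → z = z') ∧
      (e = 1 → 4 ∣ Nat.card (scalars V U) - 1) := by
  classical
  have hcases : ∀ c : ZMod 2, c = 0 ∨ c = 1 := zmod2_or
  have hsc0 : D.sc 0 = 1 := zp_zero _
  have hzc : ∀ {u}, u ∈ U → ∀ x, u * D.sc x = D.sc x * u := fun {u} hu x => F.comm u hu _ (D.sc_mem x)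
  have hone : ∀ q ∈ U, q * q = 1 → ∃ x, q = D.sc x := fun q hq h => F.eq_zp D.zmem D.order hq (by rwa [sq])
  by_cases hi : ∃ w ∈ U, w * w = D.ζ
  · obtain ⟨w, hw, hww⟩ := hi
    have hζ : D.sc 1 = D.ζ := zp_one _
    have hwne : ∀ x, w ≠ D.sc x := fun x h => by
      have h1 : w * w = 1 := by rw [h, sc_self]
      rw [hww] at h1
      have := D.order
      rw [h1, orderOf_one] at this
      omega
    refine ⟨1, le_rfl, fun z => if z = 0 then 1 else w, fun z _ => ?_, if_pos rfl, fun q hq => ?_,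
      fun z hz z' hz' => ?_, fun z hz z' hz' x hx => ?_, fun _ => ?_⟩
    · show (if z = 0 then (1 : A) else w) ∈ D.K
      split_ifs
      · exact one_mem _
      · exact hKU.symm ▸ hw
    · obtain ⟨hqK, y, hy⟩ := hq
      have hqU : q ∈ U := hKU ▸ hqK
      rcases hcases y with rfl | rfl
      · obtain ⟨x, hx⟩ := hone q hqU (hy.trans hsc0)
        exact ⟨0, by norm_num, x, by simp [hx]⟩
      · obtain ⟨x, hx⟩ := hone (q * w⁻¹) (mul_mem hqU (inv_mem hw)) (by
          have hc : Commute q w⁻¹ := F.comm q hqU _ (inv_mem hw)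
          rw [hc.symm.mul_mul_mul_comm, hy, hζ, ← mul_inv_rev, hww, mul_inv_cancel])
        exact ⟨1, by norm_num, x, by simp [← hx]⟩
    · interval_cases z <;> interval_cases z'
      all_goals first
        | (refine ⟨0, ?_⟩; simp [hsc0]; done)
        | (refine ⟨1, ?_⟩; simp [hζ, hww]; done)
    · interval_cases z <;> interval_cases z'
      all_goals first
        | rfl
        | (exfalso; simp only [if_true, one_ne_zero, if_false, mul_one] at hx; exact hwne x hx.symm)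
        | (exfalso
           simp only [if_true, one_ne_zero, if_false] at hx
           refine hwne x ?_
           calc w = D.sc x * (D.sc x * w) := by rw [← mul_assoc, sc_self, one_mul]
             _ = D.sc x := by rw [hx, mul_one])
    · -- an element of order four in the multiplicative group
      haveI := F.isDomain
      haveI : Finite (AddMonoid.End V) := Finite.of_injective (fun f => (f : V → V)) DFunLike.coe_injective
      let φ : U →* (scalars V U)ˣ :=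
        ({ toFun := fun u => ⟨endo A V u, endo_mem_scalars u.2⟩
           map_one' := Subtype.ext (map_one _)
           map_mul' := fun a b => Subtype.ext (map_mul _ _ _) } : U →* scalars V U).toHomUnits
      have hφ : Function.Injective φ := fun a b h => Subtype.ext (F.endo_inj
        (congrArg (fun x : (scalars V U)ˣ => ((x : scalars V U) : AddMonoid.End V)) h))
      have h4 : orderOf (φ ⟨w, hw⟩) = 2 ^ (1 + 1) := by
        rw [orderOf_injective φ hφ, ← Subgroup.orderOf_coe]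
        show orderOf w = 2 ^ (1 + 1)
        refine orderOf_eq_prime_pow (fun h => hwne 0 ?_) ?_
        · exfalso
          rw [pow_one, sq, hww] at h
          have := D.order
          rw [h, orderOf_one] at this
          omega
        · rw [show (2 : ℕ) ^ (1 + 1) = 2 * 2 by norm_num, pow_mul, sq w, hww]
          exact D.zeta_pow
      have hdv := orderOf_dvd_natCard (φ ⟨w, hw⟩)
      rw [h4] at hdv
      haveI : Fintype (scalars V U) := Fintype.ofFinite _
      letI : CommRing (scalars V U) :=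
        { (inferInstance : Ring (scalars V U)) with
          mul_comm := fun a b => Subtype.ext (CfsgLib.BaseTwo.scalars_comm F.comm a.2 b.2) }
      have hfield : IsField (scalars V U) := Finite.isField_of_domain (scalars V U)
      letI := hfield.toField
      have hcu : Nat.card (scalars V U)ˣ = Nat.card (scalars V U) - 1 := Nat.card_units (scalars V U)
      rw [hcu] at hdv
      simpa using hdv
  · push Not at hi
    refine ⟨0, zero_le_one, fun _ => 1, fun _ _ => one_mem _, rfl, fun q hq => ?_, fun z hz z' hz' => ?_,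
      fun z hz z' hz' _ _ => by omega, fun h => absurd h (by norm_num)⟩
    · obtain ⟨hqK, y, hy⟩ := hq
      have hqU : q ∈ U := hKU ▸ hqK
      rcases hcases y with rfl | rfl
      · obtain ⟨x, hx⟩ := hone q hqU (hy.trans hsc0)
        exact ⟨0, by norm_num, x, by simp [hx]⟩
      · exact absurd (hy.trans (zp_one _)) (hi q hqU)
    · exact ⟨0, by simp [hsc0]⟩

/-- colours with enough scalar orbits -/
theorem lift_separated {d : ℕ} (D : Data A V U 2 d) {k m : ℕ} (hR : Rigid 2 d k)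
    (hm : {q | SignSq D q}.ncard ≤ m) (T : Set V) (hT : ∀ x ∈ T, x ≠ 0) (hk : (k - 1) * m < T.ncard) :
    ∃ f : (Fin d → ZMod 2) → V, (∀ a, a ≠ 0 → f a = 0 ∨ f a ∈ T) ∧ Lift D f := by
  obtain ⟨l, hl0, hlT, hsep⟩ := exists_separated {q | SignSq D q} (fun q hq => signSq_inv D hq) hm T k hk
  obtain ⟨f, hf, hl⟩ := lift_rigid D hR l hl0 (fun i h1 h2 => hT _ (hlT i h1 h2)) (fun q hq => hsep q hq)
  refine ⟨f, fun a ha => ?_, hl⟩
  obtain ⟨i, hi, e⟩ := hf a ha
  rcases Nat.eq_zero_or_pos i with rfl | hpos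
  · exact Or.inl (by rw [e, hl0])
  · exact Or.inr (e ▸ hlT i hpos hi)

/-- one colour in dimensions one, five, six and beyond -/
theorem lift_one {d : ℕ} (D : Data A V U 2 d) (hd : d = 1 ∨ 5 ≤ d) {u₀ : V} (h00 : u₀ ≠ 0) :
    ∃ f : (Fin d → ZMod 2) → V, (∀ a, a ≠ 0 → f a = 0 ∨ ∃ s ∈ scalars V U, f a = s u₀) ∧ Lift D f := by
  by_cases h7 : 7 ≤ d
  · obtain ⟨f, hf, hl⟩ := lift_sign D (rigid_sign h7) h00
    refine ⟨f, fun a _ => ?_, hl⟩
    rcases hf a with e | ⟨x, e⟩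
    · exact Or.inl e
    · exact Or.inr ⟨_, endo_mem_scalars (D.sc_mem x), e⟩
  have hR : Rigid 2 d 1 := by
    rcases hd with rfl | h5
    · exact rigid_one
    · interval_cases d
      · exact rigid_five
      · exact rigid_six
  obtain ⟨f, hf, hl⟩ := lift_rigid D hR (fun i => if i = 0 then 0 else u₀) rfl
    (fun i h1 _ => by rw [if_neg (by omega)]; exact h00) (fun _ _ i j h1 h2 h3 h4 _ => by omega)
  refine ⟨f, fun a ha => ?_, hl⟩
  obtain ⟨i, -, e⟩ := hf a ha
  rcases Nat.eq_zero_or_pos i with rfl | hpos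
  · exact Or.inl (by rw [e]; rfl)
  · exact Or.inr ⟨1, one_mem _, by rw [e, if_neg (by omega)]; rfl⟩

/-- two coordinates, two orbits of scalars -/
theorem base_two_two (D : Data A V U 2 2) (hA3 : ¬ 3 ∣ Nat.card A)
    (hEU : Subgroup.centralizer (D.E : Set A) ≤ U) {u₀ w₀ l₁ l₂ : V} (hu₀ : u₀ ∈ D.W) (h00 : u₀ ≠ 0)
    (hw₀ : w₀ ∈ D.W) (hl₁ : l₁ ∈ D.W) (hl₂ : l₂ ∈ D.W) (hl₁0 : l₁ ≠ 0) (hl₂0 : l₂ ≠ 0)
    (hsep : ∀ q, SignSq D q → q • l₁ ≠ l₂ ∧ q • l₂ ≠ l₁)
    (hfix : ∀ g : A, g • u₀ = u₀ → g • w₀ = w₀ → g • l₁ = l₁ ∧ g • l₂ = l₂)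
    (hK : ∀ g : A, g • u₀ = u₀ → g • w₀ = w₀ → ∀ k ∈ D.K, ∃ b, g * k * g⁻¹ = k * D.X b) :
    BaseOn (⊤ : Subgroup A) (⊤ : AddSubgroup V) := by
  classical
  obtain ⟨hva, hvb, hvab, hvc, hvcb, hvca⟩ := vec2_distinct
  set va : Fin 2 → ZMod 2 := Pi.single 0 1
  set vb : Fin 2 → ZMod 2 := Pi.single 1 1
  -- the permutations induced on the coordinates
  let Moves : A → ((Fin 2 → ZMod 2) → (Fin 2 → ZMod 2)) → Prop := fun g τ =>
    g • u₀ = u₀ ∧ g • w₀ = w₀ ∧ ∀ a, ∃ k ∈ D.K, ∃ b, g * D.Y a * g⁻¹ = k * (D.Y (τ a) * D.X b)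
  have hmul : ∀ {g h τ σ}, Moves g τ → Moves h σ → Moves (g * h) (τ ∘ σ) := by
    rintro g h τ σ ⟨hg, hg', hgY⟩ ⟨hh, hh', hhY⟩
    refine ⟨by rw [mul_smul, hh, hg], by rw [mul_smul, hh', hg'], fun a => ?_⟩
    obtain ⟨k, hk, b, e⟩ := hhY a
    obtain ⟨k', hk', c, e'⟩ := hgY (σ a)
    obtain ⟨b1, e1⟩ := hK g hg hg' k hk
    obtain ⟨b', e2⟩ := D.eq_mul_X F hu₀ h00 (D.normal.conj_mem _ (D.memX b) g) (one_mem D.K) (by
      rw [one_smul, mul_smul, mul_smul, show g⁻¹ • u₀ = u₀ from inv_smul_eq_iff.2 hg.symm, hu₀ b, hg])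
    rw [one_mul] at e2
    refine ⟨k * k' * D.sc (dot b1 (τ (σ a))), mul_mem (mul_mem hk hk') (D.le (D.sc_mem _)), b1 + c + b', ?_⟩
    calc g * h * D.Y a * (g * h)⁻¹ = g * (h * D.Y a * h⁻¹) * g⁻¹ := by group
      _ = (g * k * g⁻¹) * ((g * D.Y (σ a) * g⁻¹) * (g * D.X b * g⁻¹)) := by rw [e]; group
      _ = k * (D.X b1 * k') * (D.Y (τ (σ a)) * (D.X c * D.X b')) := by
          rw [e1, e', e2]; simp only [mul_assoc]
      _ = k * k' * ((D.X b1 * D.Y (τ (σ a))) * (D.X c * D.X b')) := by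
          rw [← D.commX k' hk']; simp only [mul_assoc]
      _ = k * k' * D.sc (dot b1 (τ (σ a))) * (D.Y (τ (σ a)) * (D.X b1 * (D.X c * D.X b'))) := by
          rw [D.rel]; simp only [mul_assoc]
      _ = _ := by rw [← D.addX c b', ← D.addX, ← add_assoc, Function.comp_apply]
  have hpow : ∀ {g τ}, Moves g τ → ∀ n : ℕ, Moves (g ^ n) (τ^[n]) := by
    intro g τ hg n
    induction n with
    | zero =>
      refine ⟨by rw [pow_zero, one_smul], by rw [pow_zero, one_smul], fun a => ⟨1, one_mem _, 0, ?_⟩⟩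
      rw [pow_zero, one_mul, one_mul, inv_one, mul_one, D.X_zero, mul_one, Function.iterate_zero, id]
    | succ n ih =>
      rw [pow_succ', Function.iterate_succ']
      exact hmul hg ih
  have huniq : ∀ {τ}, Moves 1 τ → ∀ a, τ a = a := fun {τ} h a => by
    obtain ⟨k, hk, b, e⟩ := h.2.2 a
    rw [one_mul, inv_one, mul_one] at e
    exact ((D.norm_unique (one_mem D.K) hk (a := a) (b := 0) (by
      rw [← e, one_mul, D.X_zero, mul_one])).2.1).symm
  obtain ⟨w, hw, hgood⟩ : ∃ w, w ≠ 0 ∧ ∀ g (τ : (Fin 2 → ZMod 2) →+ (Fin 2 → ZMod 2)),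
      Function.Injective τ → Moves g τ → τ w = w → ∀ a, τ a = a := by
    by_contra hno
    push Not at hno
    obtain ⟨g, τ, hτ, hg, hτa, x, hx⟩ := hno va hva
    obtain ⟨h, σ, hσ, hh, hσb, y, hy⟩ := hno vb hvb
    have himg : ∀ (τ : (Fin 2 → ZMod 2) →+ (Fin 2 → ZMod 2)), Function.Injective τ → ∀ v u, v ≠ 0 →
        τ u = u → v ≠ u → τ v ≠ 0 ∧ τ v ≠ u := fun τ hτ v u hv hu hvu =>
      ⟨fun e => hv (hτ (e.trans (map_zero τ).symm)), fun e => hvu (hτ (e.trans hu.symm))⟩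
    have hτb : τ vb = va + vb := by
      rcases vec2_cases (τ vb) with e | e | e | e
      · exact absurd e (himg τ hτ vb va hvb hτa hvab.symm).1
      · exact absurd e (himg τ hτ vb va hvb hτa hvab.symm).2
      · refine absurd ?_ hx
        rcases vec2_cases x with rfl | rfl | rfl | rfl
        · exact map_zero τ
        · exact hτa
        · exact e
        · rw [map_add, hτa, e]
      · exact e
    have hσa : σ va = va + vb := by
      rcases vec2_cases (σ va) with e | e | e | e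
      · exact absurd e (himg σ hσ va vb hva hσb hvab).1
      · refine absurd ?_ hy
        rcases vec2_cases y with rfl | rfl | rfl | rfl
        · exact map_zero σ
        · exact e
        · exact hσb
        · rw [map_add, e, hσb]
      · exact absurd e (himg σ hσ va vb hva hσb hvab).2
      · exact e
    have hadd : va + va = 0 := funext fun k => CharTwo.add_self_eq_zero _
    have hT1 : (τ ∘ σ) va = vb := by
      rw [Function.comp_apply, hσa, map_add, hτa, hτb, ← add_assoc, hadd, zero_add]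
    have hT2 : (τ ∘ σ) vb = va + vb := by rw [Function.comp_apply, hσb, hτb]
    have hT3 : (τ ∘ σ) (va + vb) = va := by
      rw [Function.comp_apply, map_add, map_add, ← Function.comp_apply (f := τ) (g := σ) (x := va), hT1, hσb, hτb,
        add_left_comm, CharTwo.add_self_eq_zero, add_zero]
    have hperiod : ∀ n : ℕ, (τ ∘ σ)^[n] va = if n % 3 = 0 then va else if n % 3 = 1 then vb else va + vb := by
      intro n
      induction n with
      | zero => rfl
      | succ n ih =>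
        rw [Function.iterate_succ', Function.comp_apply, ih]
        rcases (show n % 3 = 0 ∨ n % 3 = 1 ∨ n % 3 = 2 by omega) with e | e | e <;>
          simp only [e, Nat.add_mod, if_true, Nat.one_mod, Nat.zero_mod, show ¬ (1 = 0) by omega,
            show ¬ (2 = 0) by omega, show ¬ (2 = 1) by omega, if_false, show (0 + 1) % 3 = 1 from rfl,
            show (1 + 1) % 3 = 2 from rfl, show (2 + 1) % 3 = 0 from rfl, show 1 % 3 = 1 from rfl]
        · exact hT1
        · exact hT2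
        · exact hT3
    have h1 := huniq (pow_card_eq_one' (x := g * h) ▸ hpow (hmul hg hh) (Nat.card A)) va
    rw [hperiod, if_neg (fun e => hA3 (Nat.dvd_of_mod_eq_zero e))] at h1
    split_ifs at h1
    · exact hvab h1.symm
    · exact hvca h1
  refine base_of_lift F D hEU hu₀ h00 hw₀ (fun a => if a = w then l₂ else l₁)
    (fun a _ => by split_ifs <;> assumption) (fun g hg hg' a _ => ?_) hK ?_
  · obtain ⟨e1, e2⟩ := hfix g hg hg'
    split_ifs <;> assumption
  intro g hg hg' κ τ β hinj hκK hadd hκ0 hf hY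
  have hτne : ∀ a, a ≠ 0 → τ a ≠ 0 := fun a ha e => ha (hinj (e.trans (map_zero τ).symm))
  have hsq := signSq_map D hκK hadd hκ0
  have hτw : τ w = w := by
    have e := hf w hw
    simp only [if_true] at e
    by_contra hne
    rw [if_neg hne] at e
    exact (hsep _ (hsq w)).2 e
  have hid := hgood g τ hinj ⟨hg, hg', fun a => ⟨κ a, hκK a, β a, hY a⟩⟩ hτw
  refine ⟨hid, finish_uni D (c := fun _ => 1) (fun _ => one_ne_zero)
    (fun μ β hadd hμ => form_zero μ β hadd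
      (fun i => hμ _ (fun h => by simpa using congrFun h i) one_ne_zero) (fun h => absurd rfl h)
      fun i j hij => hμ _ (fun h => by simpa [hij.ne] using congrFun h i) one_ne_zero)
    hid hadd hκ0 fun a ha _ => ?_⟩
  have e := hf a ha
  rw [hid] at e
  refine D.semireg _ (hκK a) _ ?_ e
  split_ifs <;> assumption

/-- coordinates over the scalars alone -/
theorem base_two_scalar {d : ℕ} (D : Data A V U 2 d) {p : ℕ} [Fact p.Prime] (hp : ¬ p ∣ Nat.card A) (hp2 : p ≠ 2)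
    (hexp : ∀ v : V, p • v = 0) (hEU : Subgroup.centralizer (D.E : Set A) ≤ U) (hKU : D.K = U) (hd : 1 ≤ d)
    (hexc : ∀ u₀ ∈ D.W, u₀ ≠ 0 → (∀ w ∈ D.W, ∃ c : ℕ, c • u₀ = w) →
      (p = 3 ∧ 2 ≤ d ∧ d ≤ 4 ∨ p = 5 ∧ 2 ≤ d ∧ d ≤ 4) → BaseOn (⊤ : Subgroup A) (⊤ : AddSubgroup V)) :
    BaseOn (⊤ : Subgroup A) (⊤ : AddSubgroup V) := by
  classical
  obtain ⟨u₀, hu₀, h00⟩ := (AddSubgroup.bot_or_exists_ne_zero D.W).resolve_left (D.W_ne_bot F)
  obtain ⟨γ, hγ, -, hgen⟩ := F.exists_units_generator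
  obtain ⟨hpq, hq3, ⟨fq, hfq⟩, hprime⟩ := card_scalars F hexp hp2
  obtain ⟨e, he, rep, hrep, hrep0, hcls, hmul, huq, h4⟩ := classes_scalar F D hKU
  have hcard : {q | SignSq D q}.ncard ≤ 2 * 2 ^ e := signSq_card D rep hcls
  set q := Nat.card (scalars V U) with hqdef
  have hγW : γ u₀ ∈ D.W := D.W_scalar hu₀ hγ
  have hline : line U u₀ ≤ D.W := by rintro _ ⟨s, hs, rfl⟩; exact D.W_scalar hu₀ hs
  -- the fixed vectors and a vector forcing them to be fixed
  obtain ⟨w₀, hw₀, T, hT0, hTW, hTfix, hTcard⟩ : ∃ w₀ ∈ D.W, ∃ T : Set V, (∀ x ∈ T, x ≠ 0) ∧ T ⊆ D.W ∧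
      (∀ g : A, g • u₀ = u₀ → g • w₀ = w₀ → (∀ x ∈ U, g * x * g⁻¹ = x) ∧ (∀ s ∈ scalars V U, g • s u₀ = s u₀) ∧
        ∀ x ∈ T, g • x = x) ∧
      ((∀ w ∈ D.W, w ∈ line U u₀) ∧ q - 1 ≤ T.ncard ∨ q * q - 1 ≤ T.ncard) := by
    by_cases hW : ∀ w ∈ D.W, w ∈ line U u₀
    · refine ⟨γ u₀, hγW, {x | x ≠ 0 ∧ x ∈ line U u₀}, fun x hx => hx.1, fun x hx => hline hx.2,
        fun g hg hg' => ?_, Or.inl ⟨hW, ncard_line F h00⟩⟩
      obtain ⟨hgU, hgs⟩ := fixed_scalars F hγ hgen h00 hg hg'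
      refine ⟨hgU, fun s hs => by rw [hgs s hs, hg], ?_⟩
      rintro _ ⟨-, s, hs, rfl⟩
      rw [hgs s hs, hg]
    · push Not at hW
      let H := MulAction.stabilizer A u₀
      have hHW : Inv H D.W := fun g hg => W_inv F D hu₀ h00 g hg
      obtain ⟨L, hLW, hL, hinf, hsup⟩ := crOn_coprime hexp (H := H)
        (fun h => hp (h.trans H.card_subgroup_dvd_card)) hHW (line U u₀) hline (fun g hg => line_inv F hg)
      obtain ⟨y, hy, hyl⟩ : ∃ y ∈ L, y ∉ line U u₀ := by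
        by_contra hno
        push Not at hno
        obtain ⟨w, hw, hwl⟩ := hW
        rw [← hsup] at hw
        exact hwl ((sup_le le_rfl (fun x hx => hno x hx) : line U u₀ ⊔ L ≤ line U u₀) hw)
      refine ⟨γ u₀ + y, add_mem hγW (hLW hy),
        {x | x ≠ 0 ∧ ∃ s ∈ scalars V U, ∃ t ∈ scalars V U, x = s u₀ + t y}, fun x hx => hx.1, ?_,
        fun g hg hg' => ?_, Or.inr (ncard_span F h00 hyl)⟩
      · rintro _ ⟨-, s, hs, t, ht, rfl⟩
        exact add_mem (D.W_scalar hu₀ hs) (D.W_scalar (hLW hy) ht)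
      obtain ⟨e1, e2⟩ := fix_split hinf (line_inv F hg) (fun x hx => hL g hg x hx)
        (show γ u₀ ∈ line U u₀ from ⟨γ, hγ, rfl⟩) hy hg'
      obtain ⟨hgU, hgs⟩ := fixed_scalars F hγ hgen h00 hg e1
      refine ⟨hgU, fun s hs => by rw [hgs s hs, hg], ?_⟩
      rintro _ ⟨-, s, hs, t, ht, rfl⟩
      rw [smul_add, hgs s hs, hgs t ht, hg, e2]
  have hK : ∀ g : A, g • u₀ = u₀ → g • w₀ = w₀ → ∀ k ∈ D.K, ∃ b, g * k * g⁻¹ = k * D.X b := fun g hg hg' k hk =>
    ⟨0, by rw [D.X_zero, mul_one, (hTfix g hg hg').1 k (hKU ▸ hk)]⟩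
  have finish : ∀ f : (Fin d → ZMod 2) → V,
      (∀ a, a ≠ 0 → f a = 0 ∨ (∃ s ∈ scalars V U, f a = s u₀) ∨ f a ∈ T) → Lift D f →
      BaseOn (⊤ : Subgroup A) (⊤ : AddSubgroup V) := by
    intro f hf hl
    refine base_of_lift F D hEU hu₀ h00 hw₀ f (fun a ha => ?_) (fun g hg hg' a ha => ?_) hK
      fun g _ _ κ τ β h1 h2 h3 h4 h5 _ => hl κ τ β h1 h2 h3 h4 h5
    · rcases hf a ha with h | ⟨s, hs, h⟩ | h
      · rw [h]; exact zero_mem _
      · rw [h]; exact D.W_scalar hu₀ hs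
      · exact hTW h
    · rcases hf a ha with h | ⟨s, hs, h⟩ | h
      · rw [h, smul_zero]
      · rw [h, (hTfix g hg hg').2.1 s hs]
      · exact (hTfix g hg hg').2.2 _ h
  by_cases h15 : d = 1 ∨ 5 ≤ d
  · obtain ⟨f, hf, hl⟩ := lift_one F D h15 h00
    exact finish f (fun a ha => (hf a ha).imp_right Or.inl) hl
  have hd24 : d = 2 ∨ d = 3 ∨ d = 4 := by omega
  have hR3 : d = 2 ∨ d = 3 → Rigid 2 d 3 := by rintro (rfl | rfl); exacts [rigid_two, rigid_three]
  have byTable : ∀ k, Rigid 2 d k → (k - 1) * (2 * 2 ^ e) < T.ncard →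
      BaseOn (⊤ : Subgroup A) (⊤ : AddSubgroup V) := fun k hR hk => by
    obtain ⟨f, hf, hl⟩ := lift_separated F D hR hcard T hT0 hk
    exact finish f (fun a ha => (hf a ha).imp_right Or.inr) hl
  have hq4 : e = 1 → 4 ∣ q - 1 := h4
  have h2e : 2 ^ e = 1 ∧ e = 0 ∨ 2 ^ e = 2 ∧ e = 1 := by interval_cases e <;> simp
  by_cases hbig : 2 * (2 * 2 ^ e) < T.ncard
  · rcases hd24 with h | h | h
    · exact byTable 3 (hR3 (Or.inl h)) hbig
    · exact byTable 3 (hR3 (Or.inr h)) hbig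
    · exact byTable 2 (h ▸ rigid_four) (by omega)
  rcases hTcard with ⟨hW, hT⟩ | hT
  swap
  · exfalso
    have : 3 * q ≤ q * q := Nat.mul_le_mul_right q hq3
    rcases h2e with ⟨h, rfl⟩ | ⟨h, rfl⟩
    · omega
    · have := hq4 rfl
      omega
  by_cases hsmall : q = 3 ∨ q = 5
  · have hqp : q = p := by
      rcases hsmall with h | h <;> rw [h] at hpq ⊢
      · exact ((Nat.prime_dvd_prime_iff_eq (Fact.out : p.Prime) Nat.prime_three).1 hpq).symm
      · exact ((Nat.prime_dvd_prime_iff_eq (Fact.out : p.Prime) Nat.prime_five).1 hpq).symm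
    refine hexc u₀ hu₀ h00 (fun w hw => ?_) (by omega)
    obtain ⟨s, hs, rfl⟩ := hW w hw
    obtain ⟨c, rfl⟩ := hprime hqp s hs
    exact ⟨c, rfl⟩
  have hodd : ¬ 2 ∣ q := fun h => by
    rw [hfq] at h
    exact hp2 ((Nat.prime_dvd_prime_iff_eq Nat.prime_two (Fact.out : p.Prime)).1
      (Nat.prime_two.dvd_of_dvd_pow h)).symm
  obtain ⟨hq9, rfl⟩ : q = 9 ∧ e = 1 := by
    rcases h2e with ⟨h, rfl⟩ | ⟨h, rfl⟩
    · exfalso; omega
    · have := hq4 rfl
      exact ⟨by omega, rfl⟩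
  have hp3 : p = 3 := by
    rw [hq9] at hpq
    exact (Nat.prime_dvd_prime_iff_eq (Fact.out : p.Prime) Nat.prime_three).1
      ((Fact.out : p.Prime).dvd_of_dvd_pow (show p ∣ 3 ^ 2 from hpq))
  obtain ⟨l, hl0, hlT, hsep⟩ := exists_separated {q | SignSq D q} (fun q hq => signSq_inv D hq) hcard T 2
    (by norm_num; omega)
  rcases hd24 with h | h | h <;> subst h
  · exact base_two_two F D (hp3 ▸ hp) hEU hu₀ h00 hw₀ (hTW (hlT 1 le_rfl (by norm_num)))
      (hTW (hlT 2 (by norm_num) le_rfl)) (hT0 _ (hlT 1 le_rfl (by norm_num))) (hT0 _ (hlT 2 (by norm_num) le_rfl))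
      (fun x hx => ⟨fun h => absurd (hsep x hx 1 2 le_rfl (by norm_num) (by norm_num) le_rfl h) (by norm_num),
        fun h => absurd (hsep x hx 2 1 (by norm_num) le_rfl le_rfl (by norm_num) h) (by norm_num)⟩)
      (fun g hg hg' => ⟨(hTfix g hg hg').2.2 _ (hlT 1 le_rfl (by norm_num)),
        (hTfix g hg hg').2.2 _ (hlT 2 (by norm_num) le_rfl)⟩) hK
  · obtain ⟨f, hf, hl⟩ := lift_shift D rigid_shift_three_one l hl0 (fun i h1 h2 => hT0 _ (hlT i h1 h2))
      rep hrep hcls hmul huq (fun x hx z hz z' hz' i j h1 h2 h3 h4 heq => by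
        obtain ⟨hxK, t, ht⟩ := hx
        have hzU : rep z ∈ U := hKU ▸ hrep z hz
        have hzU' : rep z' ∈ U := hKU ▸ hrep z' hz'
        have hxU : x ∈ U := hKU ▸ hxK
        refine hsep ((rep z')⁻¹ * x * rep z) ?_ i j h1 h2 h3 h4 (by
          rw [mul_smul, mul_smul, heq, inv_smul_smul])
        have hmem : (rep z')⁻¹ * x * rep z ∈ U := mul_mem (mul_mem (inv_mem hzU') hxU) hzU
        refine ⟨hKU.symm ▸ hmem, ?_⟩
        obtain ⟨a, ha⟩ := hmul z hz z hz
        obtain ⟨b, hb⟩ := hmul z' hz' z' hz'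
        rw [Nat.xor_self, hrep0, mul_one] at ha hb
        refine ⟨b + t + a, ?_⟩
        have c1 : Commute ((rep z')⁻¹ * x) (rep z) := F.comm _ (mul_mem (inv_mem hzU') hxU) _ hzU
        have c2 : Commute ((rep z')⁻¹) x := F.comm _ (inv_mem hzU') _ hxU
        rw [c1.symm.mul_mul_mul_comm, c2.symm.mul_mul_mul_comm, ← mul_inv_rev, hb, sc_inv, ha, ht, D.sc_add,
          D.sc_add])
    refine finish f (fun a ha => ?_) hl
    obtain ⟨z, hz, i, hi, e'⟩ := hf a ha
    rcases Nat.eq_zero_or_pos i with rfl | hpos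
    · exact Or.inl (by rw [e', hl0, smul_zero])
    · have hlW : l i ∈ line U u₀ := hW _ (hTW (hlT i hpos hi))
      obtain ⟨s, hs, hs'⟩ := hlW
      refine Or.inr (Or.inl ⟨endo A V (rep z) * s, mul_mem (endo_mem_scalars (hKU ▸ hrep z hz)) hs, ?_⟩)
      rw [e', ← hs']
      rfl
  · exact byTable 2 rigid_four (by norm_num; omega)

end CfsgLib.BaseCop
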