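import Cfsg.Agent.Lib.BaseCop.TwoLabels

/-!
Common facts for the case of exponent two.
-/

set_option autoImplicit false
set_option linter.unusedSectionVars false

namespace CfsgLib.BaseCop

open CfsgLib.BaseTwo (Inv CROn BaseOn FieldCase endo scalars endo_mem_scalars commute_of_mem_scalars zp_zero
  dot dot_comm dot_zero eq_of_dot scalars_comm)
open CfsgLib.BaseThree (Data)

universe u

variable {A V : Type u} [Group A] [Finite A] [AddCommGroup V] [Finite V] [DistribMulAction A V]
variable {U : Subgroup A} {d : ℕ} [Fact (Nat.Prime 2)] (F : FieldCase A V U) (D : Data A V U 2 d)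

theorem fact_two_ne : (1 : ZMod 2) ≠ 0 := one_ne_zero

include F

/-- rigid labels fixed by the stabiliser of two vectors give a base -/
theorem base_of_lift (hEU : Subgroup.centralizer (D.E : Set A) ≤ U) {u₀ w₀ : V} (hu₀ : u₀ ∈ D.W) (h00 : u₀ ≠ 0)
    (hw₀ : w₀ ∈ D.W) (f : (Fin d → ZMod 2) → V) (hfW : ∀ a, a ≠ 0 → f a ∈ D.W)
    (hfix : ∀ g : A, g • u₀ = u₀ → g • w₀ = w₀ → ∀ a, a ≠ 0 → g • f a = f a)
    (hK : ∀ g : A, g • u₀ = u₀ → g • w₀ = w₀ → ∀ k ∈ D.K, ∃ b, g * k * g⁻¹ = k * D.X b)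
    (hlift : ∀ g : A, g • u₀ = u₀ → g • w₀ = w₀ →
      ∀ (κ : (Fin d → ZMod 2) → A) (τ β : (Fin d → ZMod 2) →+ (Fin d → ZMod 2)), Function.Injective τ →
        (∀ a, κ a ∈ D.K) → (∀ a b, κ (a + b) = κ a * κ b * D.sc (dot (β a) (τ b))) → κ 0 = 1 →
        (∀ a, a ≠ 0 → κ a • f a = f (τ a)) → (∀ a, g * D.Y a * g⁻¹ = κ a * (D.Y (τ a) * D.X (β a))) →
        (∀ a, τ a = a) ∧ ∀ a, κ a = 1) :
    BaseOn (⊤ : Subgroup A) (⊤ : AddSubgroup V) := by
  classical
  have h0 : Function.update f 0 w₀ 0 = w₀ := Function.update_self _ _ _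
  refine base_of_labels F D hu₀ h00 (Function.update f 0 w₀) (fun a => ?_) (fun g hg h a => ?_)
    (fun g hg h => hK g hg (by rwa [h0] at h)) (fun g hg h _ x _ => ?_)
    fun g hg h κ τ β hinj hκK hadd hκ0 hf hY =>
      hlift g hg (by rwa [h0] at h) κ τ β hinj hκK hadd hκ0 (fun a ha => ?_) hY
  · by_cases ha : a = 0
    · subst ha; rw [h0]; exact hw₀
    · rw [Function.update_of_ne ha]; exact hfW a ha
  · rw [h0] at h
    by_cases ha : a = 0
    · subst ha; rwa [h0]
    · rw [Function.update_of_ne ha]; exact hfix g hg h a ha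
  · by_cases h1 : g = 1
    · rw [h1, one_smul]
    · exact absurd (F.eq_zero_of_smul_eq (hEU hg) h1 h) h00
  · have e := hf a
    have hne : τ a ≠ 0 := fun e => ha (hinj (e.trans (map_zero τ).symm))
    rwa [Function.update_of_ne ha, Function.update_of_ne hne] at e

omit F in
/-- scalars commute with the elements of `K` -/
theorem K_scalar {k : A} (hk : k ∈ D.K) {s : AddMonoid.End V} (hs : s ∈ scalars V U) (v : V) :
    k • s v = s (k • v) :=
  DFunLike.congr_fun (commute_of_mem_scalars (f := endo A V k)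
    (fun u hu => by rw [← map_mul, ← map_mul, D.centU _ (D.leE hk) u hu]) hs) v

/-- an element fixing `u₀` maps `K` into `K` times the `X` -/
theorem conj_K {u₀ : V} (hu₀ : u₀ ∈ D.W) (h00 : u₀ ≠ 0) {g : A} (hg : g • u₀ = u₀) {k : A} (hk : k ∈ D.K) :
    ∃ k' ∈ D.K, ∃ b, g * k * g⁻¹ = k' * D.X b := by
  have hinv : g⁻¹ • u₀ = u₀ := inv_smul_eq_iff.2 hg.symm
  have hX : ∀ c, ∃ c', g⁻¹ * D.X c * g = D.X c' := fun c => by
    obtain ⟨c', e⟩ := D.eq_mul_X F hu₀ h00 (by simpa using D.normal.conj_mem _ (D.memX c) g⁻¹) (one_mem D.K)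
      (show (g⁻¹ * D.X c * g) • u₀ = (1 : A) • u₀ by rw [one_smul, mul_smul, mul_smul, hg, hu₀ c, hinv])
    exact ⟨c', by rw [e, one_mul]⟩
  obtain ⟨k', hk', a, b, e⟩ := D.gen _ (D.normal.conj_mem _ (D.leE hk) g)
  have ha : a = 0 := by
    refine eq_of_dot fun c => D.sc_inj ?_
    obtain ⟨c', hc'⟩ := hX c
    have h1 : D.X c * (g * k * g⁻¹) = (g * k * g⁻¹) * D.X c := by
      calc D.X c * (g * k * g⁻¹) = g * (g⁻¹ * D.X c * g * k) * g⁻¹ := by group
        _ = g * (k * (g⁻¹ * D.X c * g)) * g⁻¹ := by rw [hc', D.commX k hk c']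
        _ = (g * k * g⁻¹) * D.X c := by group
    rw [e, show D.X c * (k' * (D.Y a * D.X b)) = D.sc (dot c a) * (k' * (D.Y a * D.X b) * D.X c) by
      calc D.X c * (k' * (D.Y a * D.X b)) = k' * ((D.X c * D.Y a) * D.X b) := by
            rw [← mul_assoc, ← D.commX k' hk']; simp only [mul_assoc]
        _ = (k' * D.sc (dot c a)) * (D.Y a * (D.X c * D.X b)) := by rw [D.rel]; simp only [mul_assoc]
        _ = _ := by rw [D.sc_commK _ hk', ← D.addX, add_comm c b, D.addX]; simp only [mul_assoc]] at h1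
    rw [show dot (0 : Fin d → ZMod 2) c = 0 by simp [dot], dot_comm,
      show D.sc (0 : ZMod 2) = 1 from zp_zero _]
    exact mul_eq_right.1 h1
  subst ha
  exact ⟨k', hk', b, by rw [e, D.Y_zero, one_mul]⟩

omit D in
/-- scalars are determined by one vector -/
theorem scalar_inj {v : V} (hv : v ≠ 0) {s t : AddMonoid.End V} (hs : s ∈ scalars V U) (ht : t ∈ scalars V U)
    (h : s v = t v) : s = t :=
  sub_eq_zero.1 (F.eq_zero_of_apply (sub_mem hs ht) hv (show s v - t v = 0 by rw [h, sub_self]))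

omit D in
/-- two independent vectors span the square of the scalars -/
theorem ncard_span {v w : V} (hv : v ≠ 0) (hw : w ∉ line U v) :
    Nat.card (scalars V U) * Nat.card (scalars V U) - 1 ≤
      {x : V | x ≠ 0 ∧ ∃ s ∈ scalars V U, ∃ t ∈ scalars V U, x = s v + t w}.ncard := by
  classical
  haveI : Finite (AddMonoid.End V) := Finite.of_injective (fun f => (f : V → V)) DFunLike.coe_injective
  let φ : scalars V U × scalars V U → V := fun p => (p.1 : AddMonoid.End V) v + (p.2 : AddMonoid.End V) w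
  have hinj : Function.Injective φ := by
    rintro ⟨s, t⟩ ⟨s', t'⟩ h
    simp only [φ] at h
    have ht : (t : AddMonoid.End V) = t' := by
      by_contra hne
      obtain ⟨r, hr, e⟩ := F.inv _ (sub_mem t.2 t'.2) (sub_ne_zero.2 hne)
      refine hw ⟨r * ((s' : AddMonoid.End V) - s), mul_mem hr (sub_mem s'.2 s.2), ?_⟩
      have e' : r * ((t : AddMonoid.End V) - t') = 1 := (scalars_comm F.comm hr (sub_mem t.2 t'.2)).trans e
      show r ((s' : AddMonoid.End V) v - (s : AddMonoid.End V) v) = w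
      rw [show (s' : AddMonoid.End V) v - (s : AddMonoid.End V) v = ((t : AddMonoid.End V) - t') w from by
        show _ = (t : AddMonoid.End V) w - (t' : AddMonoid.End V) w
        linear_combination (norm := abel) -h]
      exact DFunLike.congr_fun e' w
    rw [ht, add_left_inj] at h
    exact Prod.ext (Subtype.ext (scalar_inj F hv s.2 s'.2 h)) (Subtype.ext ht)
  refine le_trans ?_ (Set.ncard_le_ncard (s := Set.range φ \ {0}) (fun x hx => ?_) (Set.toFinite _))
  · rw [Set.ncard_sdiff_singleton_of_mem (show (0 : V) ∈ Set.range φ from ⟨0, by simp [φ]⟩),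
      Set.ncard_range_of_injective hinj, Nat.card_prod]
  · obtain ⟨⟨⟨s, t⟩, rfl⟩, h0⟩ := hx
    exact ⟨h0, s, s.2, t, t.2, rfl⟩

omit D in
/-- the non-zero multiples of a vector -/
theorem ncard_line {v : V} (hv : v ≠ 0) :
    Nat.card (scalars V U) - 1 ≤ {x : V | x ≠ 0 ∧ x ∈ line U v}.ncard := by
  classical
  let φ : scalars V U → V := fun p => (p : AddMonoid.End V) v
  have hinj : Function.Injective φ := fun s t h => Subtype.ext (scalar_inj F hv s.2 t.2 h)
  refine le_trans ?_ (Set.ncard_le_ncard (s := Set.range φ \ {0}) (fun x hx => ?_) (Set.toFinite _))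
  · rw [Set.ncard_sdiff_singleton_of_mem (show (0 : V) ∈ Set.range φ from ⟨0, rfl⟩),
      Set.ncard_range_of_injective hinj]
  · obtain ⟨⟨s, rfl⟩, h0⟩ := hx
    exact ⟨h0, s, s.2, rfl⟩

omit D in
/-- the number of scalars is a power of the characteristic at least three -/
theorem card_scalars {p : ℕ} [Fact p.Prime] (hexp : ∀ v : V, p • v = 0) (hp2 : p ≠ 2) :
    p ∣ Nat.card (scalars V U) ∧ 3 ≤ Nat.card (scalars V U) ∧
      (∃ f, Nat.card (scalars V U) = p ^ f) ∧
      (Nat.card (scalars V U) = p → ∀ s ∈ scalars V U, ∃ c : ℕ, s = c • (1 : AddMonoid.End V)) := by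
  classical
  haveI : Finite (AddMonoid.End V) := Finite.of_injective (fun f => (f : V → V)) DFunLike.coe_injective
  obtain ⟨v, hv⟩ := F.nt
  let P : AddSubgroup (AddMonoid.End V) := (scalars V U).toAddSubgroup
  have hpP : ∀ s : P, p • s = 0 := fun s => Subtype.ext (DFunLike.ext _ _ fun x => by
    show (p • (s : AddMonoid.End V)) x = 0
    exact hexp _)
  have hord : addOrderOf (⟨1, one_mem (scalars V U)⟩ : P) = p :=
    addOrderOf_eq_prime (hpP _) fun e => hv (DFunLike.congr_fun (congrArg Subtype.val e) v)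
  have hdvd : p ∣ Nat.card P := by
    conv_lhs => rw [← hord]
    exact addOrderOf_dvd_natCard _
  have hpow : ∃ f, Nat.card P = p ^ f := by
    refine (IsPGroup.iff_card (p := p) (G := Multiplicative P)).1 fun x => ⟨1, ?_⟩
    exact Multiplicative.toAdd.injective (by simpa using hpP x.toAdd)
  refine ⟨hdvd, ?_, hpow, fun h s hs => ?_⟩
  · have := (Fact.out : p.Prime).two_le
    have := Nat.le_of_dvd Nat.card_pos hdvd
    show 3 ≤ Nat.card P
    omega
  · have htop : AddSubgroup.zmultiples (⟨1, one_mem (scalars V U)⟩ : P) = ⊤ :=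
      AddSubgroup.eq_top_of_card_eq _ (by rw [Nat.card_zmultiples, hord]; exact h.symm)
    obtain ⟨n, hn⟩ := (AddSubmonoid.mem_multiples_iff _ _).1
      (mem_multiples_iff_mem_zmultiples.2 (show (⟨s, hs⟩ : P) ∈ AddSubgroup.zmultiples _ by rw [htop]; trivial))
    exact ⟨n, (congrArg Subtype.val hn).symm⟩

end CfsgLib.BaseCop
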